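import Mathlib.RingTheory.Kaehler.Basic
import Mathlib.RingTheory.Kaehler.JacobiZariski
import Mathlib.RingTheory.Smooth.Field
import Mathlib.RingTheory.Nilpotent.GeometricallyReduced
import Mathlib.RingTheory.Flat.Basic
import Mathlib.FieldTheory.SeparablyGenerated
import Mathlib.FieldTheory.IsAlgClosed.AlgebraicClosure
import Mathlib.LinearAlgebra.TensorProduct.Finiteness

/-!
# Kähler differentials of geometrically reduced field extensions (no finiteness)

Main result: `mapBaseChange_injective_of_isGeometricallyReduced`: for fields `k₀ → k → L` with `L`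
geometrically reduced over `k` (not necessarily finitely generated), the map
`L ⊗[k] Ω[k⁄k₀] → Ω[L⁄k₀]` is injective.  Proof: reduction to finitely generated intermediate fields
(which are separably generated, hence formally smooth over `k`) through the presentation
`KaehlerDifferential.kerTotal`.
-/

set_option autoImplicit false
universe u₀ v w

open scoped TensorProduct
open KaehlerDifferential

namespace Groth.Agent.Lib.Helper97.KaehlerColim

section Phi

variable (A : Type*) (B : Type*) [CommRing A] [CommRing B] [Algebra A B]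

/-- `single x a ↦ single (f x) (f a)` for `f = algebraMap A B`. -/
noncomputable def Φ : (A →₀ A) →ₗ[A] (B →₀ B) :=
  (Finsupp.mapRange.linearMap (Algebra.linearMap A B)).comp
    (Finsupp.lmapDomain A A (algebraMap A B))

@[simp]
lemma Φ_single (x a : A) :
    Φ A B (Finsupp.single x a) = Finsupp.single (algebraMap A B x) (algebraMap A B a) := by
  simp [Φ]

lemma Φ_injective (h : Function.Injective (algebraMap A B)) : Function.Injective (Φ A B) := by
  have h1 : Function.Injective (Finsupp.lmapDomain A A (algebraMap A B)) :=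
    Finsupp.mapDomain_injective h
  have h2 : Function.Injective (Finsupp.mapRange.linearMap (α := B) (Algebra.linearMap A B)) :=
    Finsupp.mapRange_injective _ (map_zero _) h
  exact h2.comp h1

variable {A B}

lemma Φ_comp {C : Type*} [CommRing C] [Algebra A C] [Algebra B C] [IsScalarTower A B C]
    (v : A →₀ A) : Φ B C (Φ A B v) = Φ A C v := by
  induction v using Finsupp.induction_linear with
  | zero => simp
  | add x y hx hy => simp only [map_add, hx, hy]
  | single x a => simp [← IsScalarTower.algebraMap_apply A B C]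

variable (R : Type*) [CommRing R] [Algebra R A] [Algebra R B] [IsScalarTower R A B]

lemma lc_Φ (v : A →₀ A) :
    Finsupp.linearCombination B (D R B) (Φ A B v) =
      KaehlerDifferential.map R R A B (Finsupp.linearCombination A (D R A) v) := by
  induction v using Finsupp.induction_linear with
  | zero => simp
  | add x y hx hy => simp only [map_add, hx, hy]
  | single x a =>
    simp only [Φ_single, Finsupp.linearCombination_single, map_smul, KaehlerDifferential.map_D,
      algebraMap_smul]

end Phi

section GeomRed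

/-- universe-polymorphic copy of helper25's lemma -/
theorem linearIndepOn_pow_of_isGeometricallyReduced {k : Type v} {K : Type w} [Field k] [Field K]
    [Algebra k K] [Algebra.IsGeometricallyReduced k K] (p : ℕ) (hp : p.Prime) [CharP k p]
    (s : Finset K) (hs : LinearIndepOn k _root_.id (s : Set K)) :
    LinearIndepOn k (· ^ p) (s : Set K) := by
  classical
  let kb := AlgebraicClosure k
  have hred : IsReduced (kb ⊗[k] K) := inferInstance
  have hnt : Nontrivial (kb ⊗[k] K) :=
    Algebra.TensorProduct.nontrivial_of_algebraMap_injective_of_flat_left k kb K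
      (algebraMap k K).injective
  haveI : CharP (kb ⊗[k] K) p :=
    charP_of_injective_algebraMap (algebraMap k (kb ⊗[k] K)).injective p
  haveI : Fact p.Prime := ⟨hp⟩
  rw [LinearIndepOn, Fintype.linearIndependent_iff]
  intro c hc i
  choose a ha using fun j : (s : Set K) =>
    IsAlgClosed.exists_pow_nat_eq (algebraMap k kb (c j)) hp.pos
  have hx : (∑ j, a j ⊗ₜ[k] (j : K)) ^ p = 0 := by
    rw [sum_pow_char]
    simp only [Algebra.TensorProduct.tmul_pow, ha]
    have : ∀ j : (s : Set K), algebraMap k kb (c j) ⊗ₜ[k] ((j : K) ^ p) =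
        (1 : kb) ⊗ₜ[k] (c j • (j : K) ^ p) := by
      intro j; rw [Algebra.algebraMap_eq_smul_one, TensorProduct.smul_tmul]
    simp only [this, ← TensorProduct.tmul_sum]
    rw [hc, TensorProduct.tmul_zero]
  have hx0 : ∑ j, a j ⊗ₜ[k] (j : K) = 0 := IsReduced.eq_zero _ ⟨p, hx⟩
  have hli := Module.Flat.linearIndependent_one_tmul (S := kb) hs
  rw [Fintype.linearIndependent_iff] at hli
  have h1 := hli a (by simpa [TensorProduct.smul_tmul', smul_eq_mul] using hx0) i
  have h0 : algebraMap k kb (c i) = 0 := by rw [← ha i, h1, zero_pow hp.ne_zero]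
  exact (map_eq_zero _).mp h0

/-- universe-polymorphic copy of helper25's lemma -/
theorem formallySmooth_of_essFiniteType_of_isGeometricallyReduced (k : Type v) (K : Type w)
    [Field k] [Field K]
    [Algebra k K] [Algebra.EssFiniteType k K] [Algebra.IsGeometricallyReduced k K] :
    Algebra.FormallySmooth k K := by
  obtain _ | ⟨p, hp, hpk⟩ := CharP.exists' k
  · exact Algebra.FormallySmooth.of_perfectField
  · have : CharP k p := hpk
    obtain ⟨s, hs, H⟩ :=
      exists_isTranscendenceBasis_and_isSeparable_of_linearIndepOn_pow_of_essFiniteType p hp.out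
        (k := k) (K := K)
        (fun s hs => linearIndepOn_pow_of_isGeometricallyReduced (k := k) (K := K) p hp.out s hs)
    have : Algebra.IsSeparable (↥(IntermediateField.adjoin k (Set.range ((↑) : s → K)))) K := by
      convert! H <;> simp
    exact .of_algebraicIndependent_of_isSeparable hs.1

theorem mapBaseChange_injective_of_formallySmooth {R : Type u₀} {F : Type v} {K : Type w}
    [CommRing R] [CommRing F] [CommRing K]
    [Algebra R F] [Algebra F K] [Algebra R K] [IsScalarTower R F K] [Algebra.FormallySmooth F K] :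
    Function.Injective (KaehlerDifferential.mapBaseChange R F K) := by
  have hex := Algebra.H1Cotangent.exact_δ_mapBaseChange R F K
  rw [← LinearMap.ker_eq_bot, LinearMap.exact_iff.mp hex]
  rw [LinearMap.range_eq_bot]
  ext x
  have : x = 0 := Subsingleton.elim _ _
  rw [this]
  simp

end GeomRed

section Descent

variable {k₀ : Type u₀} {k : Type v} {L : Type w} [CommRing k₀] [Field k] [Field L]
  [Algebra k₀ k] [Algebra k₀ L] [Algebra k L] [IsScalarTower k₀ k L]

lemma exists_descent (w : L →₀ L) (hw : w ∈ kerTotal k₀ L) :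
    ∃ T : Finset L, ∀ E : IntermediateField k L, ((T : Set L) ⊆ E) →
      ∃ w' ∈ kerTotal k₀ E, Φ E L w' = w := by
  classical
  unfold kerTotal at hw
  induction hw using Submodule.span_induction with
  | mem x hx =>
    rcases hx with ((⟨⟨x, y⟩, rfl⟩ | ⟨⟨x, y⟩, rfl⟩) | ⟨r, rfl⟩)
    · refine ⟨{x, y}, fun E hE => ?_⟩
      have hx : x ∈ E := hE (by simp)
      have hy : y ∈ E := hE (by simp)
      refine ⟨Finsupp.single (⟨x, hx⟩ : E) 1 + Finsupp.single (⟨y, hy⟩ : E) 1 -
        Finsupp.single ((⟨x, hx⟩ : E) + ⟨y, hy⟩) 1,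
        Submodule.subset_span (Or.inl (Or.inl ⟨((⟨x, hx⟩ : E), (⟨y, hy⟩ : E)), rfl⟩)), ?_⟩
      simp only [map_add, map_sub, Φ_single, map_one, IntermediateField.algebraMap_apply]
    · refine ⟨{x, y}, fun E hE => ?_⟩
      have hx : x ∈ E := hE (by simp)
      have hy : y ∈ E := hE (by simp)
      refine ⟨Finsupp.single (⟨y, hy⟩ : E) (⟨x, hx⟩ : E) + Finsupp.single (⟨x, hx⟩ : E) (⟨y, hy⟩ : E) -
        Finsupp.single ((⟨x, hx⟩ : E) * ⟨y, hy⟩) 1,
        Submodule.subset_span (Or.inl (Or.inr ⟨((⟨x, hx⟩ : E), (⟨y, hy⟩ : E)), rfl⟩)), ?_⟩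
      simp only [map_add, map_sub, map_mul, Φ_single, map_one, IntermediateField.algebraMap_apply]
    · refine ⟨∅, fun E _ => ⟨Finsupp.single (algebraMap k₀ E r) 1,
        Submodule.subset_span (Or.inr ⟨r, rfl⟩), ?_⟩⟩
      simp only [Φ_single, map_one]
      rfl
  | zero => exact ⟨∅, fun E _ => ⟨0, zero_mem _, map_zero _⟩⟩
  | add x y _ _ hx hy =>
    obtain ⟨T₁, h₁⟩ := hx
    obtain ⟨T₂, h₂⟩ := hy
    refine ⟨T₁ ∪ T₂, fun E hE => ?_⟩
    obtain ⟨w₁, hw₁, e₁⟩ := h₁ E (subset_trans (by simp) hE)
    obtain ⟨w₂, hw₂, e₂⟩ := h₂ E (subset_trans (by simp) hE)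
    exact ⟨w₁ + w₂, add_mem hw₁ hw₂, by rw [map_add, e₁, e₂]⟩
  | smul a x _ hx =>
    obtain ⟨T, h⟩ := hx
    refine ⟨insert a T, fun E hE => ?_⟩
    have ha : a ∈ E := hE (by simp)
    obtain ⟨w', hw', e⟩ := h E (subset_trans (by simp) hE)
    refine ⟨(⟨a, ha⟩ : E) • w', Submodule.smul_mem _ _ hw', ?_⟩
    rw [map_smul, e]
    rfl

end Descent

section Main

variable {k₀ : Type u₀} {k : Type v} {L : Type w} [CommRing k₀] [Field k] [Field L]
  [Algebra k₀ k] [Algebra k₀ L] [Algebra k L] [IsScalarTower k₀ k L]

/-- For fields `k ⊆ L` such that every finitely generated intermediate field is formally smooth over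
`k`, and any base ring `k₀ → k`, the map `L ⊗[k] Ω[k⁄k₀] → Ω[L⁄k₀]` is injective. -/
theorem mapBaseChange_injective_of_forall_fg
    (H : ∀ E : IntermediateField k L, E.FG → Algebra.FormallySmooth k E) :
    Function.Injective (KaehlerDifferential.mapBaseChange k₀ k L) := by
  classical
  rw [injective_iff_map_eq_zero]
  intro y hy
  obtain ⟨S, rfl⟩ := TensorProduct.exists_finset y
  -- representatives of differentials
  let u : Ω[k⁄k₀] → (k →₀ k) :=
    Function.surjInv (KaehlerDifferential.linearCombination_surjective k₀ k)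
  have hu : ∀ ω, Finsupp.linearCombination k (D k₀ k) (u ω) = ω :=
    Function.surjInv_eq (KaehlerDifferential.linearCombination_surjective k₀ k)
  let vL : L →₀ L := ∑ i ∈ S, i.1 • Φ k L (u i.2)
  have hvL : Finsupp.linearCombination L (D k₀ L) vL = 0 := by
    rw [← hy]
    simp only [vL, map_sum, map_smul, lc_Φ k₀, hu, KaehlerDifferential.mapBaseChange_tmul]
  have hvL' : vL ∈ kerTotal k₀ L := by
    rw [← KaehlerDifferential.kerTotal_eq]
    exact hvL
  obtain ⟨T, hT⟩ := exists_descent (k := k) vL hvL'
  let E : IntermediateField k L := IntermediateField.adjoin k ((T ∪ S.image Prod.fst : Finset L) : Set L)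
  have hTE : (T : Set L) ⊆ E := by
    intro x hx
    apply IntermediateField.subset_adjoin
    simp only [Finset.coe_union, Set.mem_union]
    exact Or.inl hx
  have hSE : ∀ i ∈ S, i.1 ∈ E := by
    intro i hi
    apply IntermediateField.subset_adjoin
    simp only [Finset.coe_union, Set.mem_union, Finset.coe_image]
    exact Or.inr ⟨i, hi, rfl⟩
  obtain ⟨w', hw', e⟩ := hT E hTE
  let lift : L → E := fun l => if h : l ∈ E then ⟨l, h⟩ else 0
  have hlift : ∀ i ∈ S, ((lift i.1 : E) : L) = i.1 := by
    intro i hi
    simp only [lift, dif_pos (hSE i hi)]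
  let yE : E ⊗[k] Ω[k⁄k₀] := ∑ i ∈ S, lift i.1 ⊗ₜ[k] i.2
  let vE : E →₀ E := ∑ i ∈ S, lift i.1 • Φ k E (u i.2)
  have h1 : Φ E L vE = vL := by
    simp only [vE, vL, map_sum, map_smul, Φ_comp]
    refine Finset.sum_congr rfl fun i hi => ?_
    change ((lift i.1 : E) : L) • Φ k L (u i.2) = _
    rw [hlift i hi]
  have h2 : vE = w' := Φ_injective E L (algebraMap E L).injective (h1.trans e.symm)
  have h3 : Finsupp.linearCombination E (D k₀ E) vE = 0 := by
    have : vE ∈ LinearMap.ker (Finsupp.linearCombination E (D k₀ E)) := by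
      rw [KaehlerDifferential.kerTotal_eq, h2]
      exact hw'
    exact this
  have h4 : KaehlerDifferential.mapBaseChange k₀ k E yE = 0 := by
    rw [← h3]
    simp only [yE, vE, map_sum, map_smul, lc_Φ k₀, hu, KaehlerDifferential.mapBaseChange_tmul]
  have : Algebra.FormallySmooth k E := H E ⟨_, rfl⟩
  have h5 : yE = 0 := by
    apply mapBaseChange_injective_of_formallySmooth (R := k₀) (F := k) (K := E)
    rw [h4, map_zero]
  have h6 : (∑ i ∈ S, i.1 ⊗ₜ[k] i.2 : L ⊗[k] Ω[k⁄k₀]) =
      LinearMap.rTensor (Ω[k⁄k₀]) (E.val.toLinearMap) yE := by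
    simp only [yE, map_sum, LinearMap.rTensor_tmul]
    refine Finset.sum_congr rfl fun i hi => ?_
    congr 1
    exact (hlift i hi).symm
  rw [h6, h5, map_zero]

/-- For fields `k ⊆ L` with `L` geometrically reduced over `k` (no finiteness), and any base ring `k₀ → k`,
the map `L ⊗[k] Ω[k⁄k₀] → Ω[L⁄k₀]` is injective. -/
theorem mapBaseChange_injective_of_isGeometricallyReduced [Algebra.IsGeometricallyReduced k L] :
    Function.Injective (KaehlerDifferential.mapBaseChange k₀ k L) := by
  apply mapBaseChange_injective_of_forall_fg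
  intro E hE
  have : Algebra.EssFiniteType k E := IntermediateField.essFiniteType_iff.2 hE
  have : Algebra.IsGeometricallyReduced k E :=
    Algebra.IsGeometricallyReduced.of_injective E.val E.val.injective
  exact formallySmooth_of_essFiniteType_of_isGeometricallyReduced k E

/-- Over a perfect field `k` (e.g. characteristic zero), for any field extension `L` and any base ring
`k₀ → k`, the map `L ⊗[k] Ω[k⁄k₀] → Ω[L⁄k₀]` is injective. -/
theorem mapBaseChange_injective_of_perfectField [PerfectField k] :
    Function.Injective (KaehlerDifferential.mapBaseChange k₀ k L) := by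
  apply mapBaseChange_injective_of_forall_fg
  intro E hE
  have : Algebra.EssFiniteType k E := IntermediateField.essFiniteType_iff.2 hE
  exact Algebra.FormallySmooth.of_perfectField

end Main

end Groth.Agent.Lib.Helper97.KaehlerColim
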