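import Groth.Agent.Lib.Helper49.PBasisField
import Mathlib.RingTheory.Kaehler.Basic
import Mathlib.FieldTheory.IntermediateField.Adjoin.Basic

/-!
# Derivations detect `p`-th powers in a field of characteristic `p`

`exists_derivation_ne_zero`: if `a : K` is not a `p`-th power in the field `K` of characteristic `p`
then some `ℤ`-derivation `D : K → K` has `D a ≠ 0` (indeed `D a = 1`).
Built on helper49's p-basis library.
-/

set_option autoImplicit false
universe u

namespace Groth.Agent.Lib.Helper97.PthPower

open EGA41 Groth.Agent.Lib.Helper49.PBasis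

variable {K : Type u} [Field K] (p : ℕ) [Fact p.Prime] [CharP K p]

/-- The subfield of `p`-th powers as an intermediate field over the prime subfield. -/
noncomputable def powField : IntermediateField (⊥ : Subfield K) K :=
  Subfield.toIntermediateField ((frobenius K p).fieldRange) (fun x => by
    have : (⊥ : Subfield K) ≤ (frobenius K p).fieldRange := bot_le
    exact this x.2)

lemma mem_powField_iff (y : K) : y ∈ powField (K := K) p ↔ ∃ b : K, b ^ p = y := by
  change y ∈ (frobenius K p).fieldRange ↔ _
  rw [RingHom.mem_fieldRange]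
  simp only [frobenius_def]

theorem exists_derivation_eq_one (a : K) (ha : ∀ b : K, b ^ p ≠ a) :
    ∃ D : Derivation ℤ K K, D a = 1 := by
  classical
  let k₀ : Subfield K := ⊥
  have hL : IsPIndependent p k₀ (Subtype.val : ({a} : Set K) → K) := by
    rw [indep_set_iff]
    intro t ht
    have hta : t = a := ht
    subst hta
    intro hmem
    have hle : IntermediateField.adjoin k₀ ((Set.range fun y : K => y ^ p) ∪ (({t} : Set K) \ {t})) ≤
        powField (K := K) p := by
      rw [IntermediateField.adjoin_le_iff]
      rintro y (⟨z, rfl⟩ | hy)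
      · exact (mem_powField_iff p _).2 ⟨z, rfl⟩
      · simp at hy
    obtain ⟨b, hb⟩ := (mem_powField_iff p t).1 (hle hmem)
    exact ha b hb
  have hS : IsPGenerating p k₀ (Subtype.val : ↥(Set.univ : Set K) → K) := by
    rw [gen_set_iff, Set.union_univ, IntermediateField.adjoin_univ]
  obtain ⟨B, hLB, -, hB⟩ := exists_pBasis_between (p := p) (k := k₀) (Set.univ : Set K) {a}
    (Set.subset_univ _) hS hL
  have haB : a ∈ B := hLB rfl
  obtain ⟨D, hD⟩ := exists_derivation hB K (fun i => if i.1 = a then 1 else 0)
  refine ⟨D.restrictScalars ℤ, ?_⟩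
  rw [Derivation.restrictScalars_apply]
  have := hD ⟨a, haB⟩
  simpa using this

theorem exists_derivation_ne_zero (a : K) (ha : ∀ b : K, b ^ p ≠ a) :
    ∃ D : Derivation ℤ K K, D a ≠ 0 := by
  obtain ⟨D, hD⟩ := exists_derivation_eq_one p a ha
  exact ⟨D, by rw [hD]; exact one_ne_zero⟩

/-- If all `ℤ`-derivations `K → K` kill `a` then `a` is a `p`-th power. -/
theorem exists_pow_eq_of_forall_derivation (a : K) (h : ∀ D : Derivation ℤ K K, D a = 0) :
    ∃ b : K, b ^ p = a := by
  by_contra hcon
  have hcon : ∀ b : K, b ^ p ≠ a := fun b hb => hcon ⟨b, hb⟩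
  obtain ⟨D, hD⟩ := exists_derivation_ne_zero p a hcon
  exact hD (h D)

end Groth.Agent.Lib.Helper97.PthPower
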