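import Groth.Prelude.Def_W4c5adicflatcomplDec
import Mathlib.RingTheory.AdicCompletion.Completeness
import Mathlib.RingTheory.AdicCompletion.Algebra
import Mathlib.RingTheory.Noetherian.Basic
import Mathlib.RingTheory.Filtration
import Mathlib.RingTheory.Flat.EquationalCriterion
import Mathlib.Tactic

set_option autoImplicit false
open W4c5adicflatcompl

namespace Groth.Agent.Lib.Helper97.Decaying

variable {A : Type*} [CommRing A] (I : Ideal A) (Z : Type*) (N : Type*) [AddCommGroup N] [Module A N]

lemma map_mem_pow_smul_top {N' : Type*} [AddCommGroup N'] [Module A N'] (φ : N →ₗ[A] N') (n : ℕ)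
    {x : N} (hx : x ∈ (I ^ n • ⊤ : Submodule A N)) : φ x ∈ (I ^ n • ⊤ : Submodule A N') := by
  have h : (I ^ n • ⊤ : Submodule A N).map φ ≤ I ^ n • ⊤ := by
    rw [Submodule.map_smul'']
    exact Submodule.smul_mono le_rfl le_top
  exact h (Submodule.mem_map_of_mem hx)

lemma apply_mem_of_mem_smul_top (n : ℕ) (f : decaying I Z N)
    (hf : f ∈ (I ^ n • ⊤ : Submodule A (decaying I Z N))) (z : Z) :
    (f : Z → N) z ∈ (I ^ n • ⊤ : Submodule A N) :=
  map_mem_pow_smul_top I (decaying I Z N) ((LinearMap.proj z).comp (decaying I Z N).subtype) n hf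

lemma pow_smul_top_mono {m n : ℕ} (h : m ≤ n) :
    (I ^ n • ⊤ : Submodule A N) ≤ I ^ m • ⊤ :=
  Submodule.smul_mono_left (Ideal.pow_le_pow_right h)

variable {N} in
lemma decomp {r : ℕ} (a : Fin r → A) (P : Submodule A N) (x : N)
    (hx : x ∈ (Ideal.span (Set.range a)) • P) :
    ∃ b : Fin r → N, (∀ k, b k ∈ P) ∧ x = ∑ k, a k • b k := by
  refine Submodule.smul_induction_on hx ?_ ?_
  · intro c hc p hp
    obtain ⟨w, rfl⟩ := (Ideal.mem_span_range_iff_exists_fun).1 hc
    refine ⟨fun k => w k • p, fun k => P.smul_mem _ hp, ?_⟩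
    rw [Finset.sum_smul]
    refine Finset.sum_congr rfl fun k _ => ?_
    rw [smul_smul, mul_comm]
  · rintro x y ⟨b, hb, rfl⟩ ⟨b', hb', rfl⟩
    exact ⟨b + b', fun k => P.add_mem (hb k) (hb' k), by
      simp [smul_add, Finset.sum_add_distrib]⟩

theorem mem_smul_top_of_forall_apply_mem [IsNoetherianRing A] [IsHausdorff I N] (n : ℕ)
    (f : decaying I Z N) (hf : ∀ z, (f : Z → N) z ∈ (I ^ n • ⊤ : Submodule A N)) :
    f ∈ (I ^ n • ⊤ : Submodule A (decaying I Z N)) := by
  classical
  obtain ⟨r, a, ha⟩ := Submodule.fg_iff_exists_fin_generating_family.1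
    (IsNoetherian.noetherian (I ^ n))
  have key : ∀ z, ∃ b : Fin r → N, (f : Z → N) z = ∑ k, a k • b k ∧
      ∀ m, (f : Z → N) z ∈ (I ^ (n + m) • ⊤ : Submodule A N) →
        ∀ k, b k ∈ (I ^ m • ⊤ : Submodule A N) := by
    intro z
    by_cases hall : ∀ m, (f : Z → N) z ∈ (I ^ (n + m) • ⊤ : Submodule A N)
    · have h0 : (f : Z → N) z = 0 := by
        apply IsHausdorff.haus ‹IsHausdorff I N›
        intro j
        rw [SModEq.zero]
        exact pow_smul_top_mono I N (Nat.le_add_left j n) (hall j)
      exact ⟨0, by simp [h0], fun m _ k => Submodule.zero_mem _⟩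
    · simp only [not_forall] at hall
      have hm₀ := Nat.find_spec hall
      have hpos : Nat.find hall ≠ 0 := by
        intro h0
        apply hm₀
        rw [h0, add_zero]
        exact hf z
      obtain ⟨m₁, hm₁⟩ : ∃ m₁, Nat.find hall = m₁ + 1 := Nat.exists_eq_succ_of_ne_zero hpos
      have hmem : (f : Z → N) z ∈ (I ^ (n + m₁) • ⊤ : Submodule A N) := by
        by_contra h
        have := Nat.find_min' hall h
        omega
      rw [pow_add, Submodule.mul_smul] at hmem
      have hmem' : (f : Z → N) z ∈ (Ideal.span (Set.range a)) • (I ^ m₁ • ⊤ : Submodule A N) := by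
        have : Ideal.span (Set.range a) = I ^ n := ha
        rw [this]; exact hmem
      obtain ⟨b, hb, hx⟩ := decomp a _ _ hmem'
      refine ⟨b, hx, fun m hm k => ?_⟩
      have hle : m ≤ m₁ := by
        by_contra hlt
        apply hm₀
        refine pow_smul_top_mono I N ?_ hm
        omega
      exact pow_smul_top_mono I N hle (hb k)
  choose b hb1 hb2 using key
  have hdec : ∀ k, (fun z => b z k) ∈ decaying I Z N := by
    intro k m
    refine (f.2 (n + m)).subset ?_
    intro z hz
    by_contra h
    simp only [Set.mem_ofPred_eq, not_not] at h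
    exact hz (hb2 z m h k)
  have hsum : f = ∑ k, a k • (⟨fun z => b z k, hdec k⟩ : decaying I Z N) := by
    apply Subtype.ext
    funext z
    rw [Submodule.coe_sum, Finset.sum_apply, hb1 z]
    rfl
  rw [hsum]
  refine Submodule.sum_mem _ fun k _ => Submodule.smul_mem_smul ?_ Submodule.mem_top
  rw [← ha]; exact Submodule.subset_span ⟨k, rfl⟩

theorem mem_smul_top_iff [IsNoetherianRing A] [IsHausdorff I N] (n : ℕ) (f : decaying I Z N) :
    f ∈ (I ^ n • ⊤ : Submodule A (decaying I Z N)) ↔
      ∀ z, (f : Z → N) z ∈ (I ^ n • ⊤ : Submodule A N) :=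
  ⟨fun h z => apply_mem_of_mem_smul_top I Z N n f h z, mem_smul_top_of_forall_apply_mem I Z N n f⟩

theorem isAdicComplete_decaying [IsNoetherianRing A] [IsAdicComplete I N] :
    IsAdicComplete I (decaying I Z N) where
  haus' := by
    intro f hf
    apply Subtype.ext; funext z
    apply IsHausdorff.haus (inferInstance : IsHausdorff I N)
    intro n
    have := hf n
    rw [SModEq.zero] at this ⊢
    exact apply_mem_of_mem_smul_top I Z N n f this z
  prec' := by
    intro f hf
    have hz : ∀ z, ∃ L : N, ∀ n, (f n : Z → N) z ≡ L [SMOD (I ^ n • ⊤ : Submodule A N)] := by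
      intro z
      apply IsPrecomplete.prec inferInstance
      intro m n hmn
      have := hf hmn
      rw [SModEq.sub_mem] at this ⊢
      exact apply_mem_of_mem_smul_top I Z N m (f m - f n) this z
    choose L hL using hz
    have hLdec : L ∈ decaying I Z N := by
      intro n
      refine ((f n).2 n).subset ?_
      intro z hz
      by_contra h
      simp only [Set.mem_ofPred_eq, not_not] at h
      apply hz
      have := hL z n; rw [SModEq.sub_mem] at this
      have h2 := Submodule.sub_mem _ h this
      simpa using h2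
    refine ⟨⟨L, hLdec⟩, fun n => ?_⟩
    rw [SModEq.sub_mem]
    apply mem_smul_top_of_forall_apply_mem
    intro z
    have := hL z n; rw [SModEq.sub_mem] at this
    exact this

section sum

variable (B : Type*) [Ring B] [Module A B] (M : Type*) [AddCommGroup M] [Module A M]
  [Module B M] [IsScalarTower A B M]

variable {B M} in
lemma smul_mem_pow_smul_top (n : ℕ) {b : B} (hb : b ∈ (I ^ n • ⊤ : Submodule A B)) (m : M) :
    b • m ∈ (I ^ n • ⊤ : Submodule A M) :=
  map_mem_pow_smul_top I B
    ({ toFun := fun b => b • m, map_add' := fun x y => add_smul x y m,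
       map_smul' := fun a x => smul_assoc a x m } : B →ₗ[A] M) n hb

theorem exists_sumMap [IsAdicComplete I M] (f : Z → M) :
    ∃ φ : decaying I Z B →ₗ[A] M, ∀ (g : decaying I Z B) (n : ℕ) (S : Finset Z),
      (∀ z, z ∉ S → (g : Z → B) z ∈ (I ^ n • ⊤ : Submodule A B)) →
      φ g - ∑ z ∈ S, (g : Z → B) z • f z ∈ (I ^ n • ⊤ : Submodule A M) := by
  classical
  have hcongr : ∀ (g : decaying I Z B) (n : ℕ) (S S' : Finset Z),
      (∀ z, z ∉ S → (g : Z → B) z ∈ (I ^ n • ⊤ : Submodule A B)) →
      (∀ z, z ∉ S' → (g : Z → B) z ∈ (I ^ n • ⊤ : Submodule A B)) →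
      (∑ z ∈ S, (g : Z → B) z • f z) - ∑ z ∈ S', (g : Z → B) z • f z ∈
        (I ^ n • ⊤ : Submodule A M) := by
    intro g n S S' hS hS'
    have h1 : ∀ T T' : Finset Z, (∀ z, z ∉ T → (g : Z → B) z ∈ (I ^ n • ⊤ : Submodule A B)) →
        (∑ z ∈ T ∪ T', (g : Z → B) z • f z) - ∑ z ∈ T, (g : Z → B) z • f z ∈
          (I ^ n • ⊤ : Submodule A M) := by
      intro T T' hT
      rw [← Finset.union_sdiff_self_eq_union, Finset.sum_union Finset.disjoint_sdiff,
        add_sub_cancel_left]
      refine Submodule.sum_mem _ fun z hz => ?_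
      exact smul_mem_pow_smul_top I n (hT z (Finset.mem_sdiff.1 hz).2) _
    have h2 := h1 S S' hS
    have h3 := h1 S' S hS'
    rw [Finset.union_comm] at h3
    have := Submodule.sub_mem _ h3 h2
    simpa using this
  have hex : ∀ g : decaying I Z B, ∃ x : M, ∀ (n : ℕ) (S : Finset Z),
      (∀ z, z ∉ S → (g : Z → B) z ∈ (I ^ n • ⊤ : Submodule A B)) →
      x - ∑ z ∈ S, (g : Z → B) z • f z ∈ (I ^ n • ⊤ : Submodule A M) := by
    intro g
    let T : ℕ → Finset Z := fun n => (g.2 n).toFinset
    have hT : ∀ n z, z ∉ T n → (g : Z → B) z ∈ (I ^ n • ⊤ : Submodule A B) := by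
      intro n z hz
      by_contra h
      exact hz ((g.2 n).mem_toFinset.2 h)
    obtain ⟨x, hx⟩ := IsPrecomplete.prec (inferInstance : IsPrecomplete I M)
      (f := fun n => ∑ z ∈ T n, (g : Z → B) z • f z) (by
        intro m n hmn
        rw [SModEq.sub_mem]
        exact hcongr g m (T m) (T n) (hT m)
          (fun z hz => pow_smul_top_mono I B hmn (hT n z hz)))
    refine ⟨x, fun n S hS => ?_⟩
    have h1 := hx n
    rw [SModEq.sub_mem] at h1
    have h2 := hcongr g n (T n) S (hT n) hS
    have := Submodule.sub_mem _ h2 h1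
    have h3 : x - ∑ z ∈ S, (g : Z → B) z • f z =
        (∑ z ∈ T n, (g : Z → B) z • f z - ∑ z ∈ S, (g : Z → B) z • f z) -
          (∑ z ∈ T n, (g : Z → B) z • f z - x) := by abel
    rw [h3]; exact this
  choose φ₀ hφ₀ using hex
  have hT : ∀ (g : decaying I Z B) n z, z ∉ (g.2 n).toFinset →
      (g : Z → B) z ∈ (I ^ n • ⊤ : Submodule A B) := by
    intro g n z hz
    by_contra h
    exact hz ((g.2 n).mem_toFinset.2 h)
  refine ⟨{ toFun := φ₀, map_add' := ?_, map_smul' := ?_ }, hφ₀⟩
  · intro g g'
    rw [← sub_eq_zero]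
    apply IsHausdorff.haus (inferInstance : IsHausdorff I M)
    intro n
    rw [SModEq.zero]
    let S := (g.2 n).toFinset ∪ (g'.2 n).toFinset
    have hS : ∀ z, z ∉ S → (g : Z → B) z ∈ (I ^ n • ⊤ : Submodule A B) := fun z hz =>
      hT g n z (fun h => hz (Finset.mem_union_left _ h))
    have hS' : ∀ z, z ∉ S → (g' : Z → B) z ∈ (I ^ n • ⊤ : Submodule A B) := fun z hz =>
      hT g' n z (fun h => hz (Finset.mem_union_right _ h))
    have h1 := hφ₀ g n S hS
    have h2 := hφ₀ g' n S hS'
    have h3 := hφ₀ (g + g') n S (fun z hz => by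
      rw [Submodule.coe_add, Pi.add_apply]
      exact Submodule.add_mem _ (hS z hz) (hS' z hz))
    have h4 : ∑ z ∈ S, ((g + g' : decaying I Z B) : Z → B) z • f z =
        ∑ z ∈ S, (g : Z → B) z • f z + ∑ z ∈ S, (g' : Z → B) z • f z := by
      rw [← Finset.sum_add_distrib]
      refine Finset.sum_congr rfl fun z _ => ?_
      rw [Submodule.coe_add, Pi.add_apply, add_smul]
    rw [h4] at h3
    have := Submodule.sub_mem _ h3 (Submodule.add_mem _ h1 h2)
    have h5 : φ₀ (g + g') - (φ₀ g + φ₀ g') =
        (φ₀ (g + g') - (∑ z ∈ S, (g : Z → B) z • f z + ∑ z ∈ S, (g' : Z → B) z • f z)) -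
        ((φ₀ g - ∑ z ∈ S, (g : Z → B) z • f z) + (φ₀ g' - ∑ z ∈ S, (g' : Z → B) z • f z)) := by
      abel
    rw [h5]; exact this
  · intro a g
    rw [RingHom.id_apply, ← sub_eq_zero]
    apply IsHausdorff.haus (inferInstance : IsHausdorff I M)
    intro n
    rw [SModEq.zero]
    let S := (g.2 n).toFinset
    have hS : ∀ z, z ∉ S → (g : Z → B) z ∈ (I ^ n • ⊤ : Submodule A B) := hT g n
    have h1 := hφ₀ g n S hS
    have h3 := hφ₀ (a • g) n S (fun z hz => by
      rw [Submodule.coe_smul, Pi.smul_apply]
      exact Submodule.smul_mem _ _ (hS z hz))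
    have h4 : ∑ z ∈ S, ((a • g : decaying I Z B) : Z → B) z • f z =
        a • ∑ z ∈ S, (g : Z → B) z • f z := by
      rw [Finset.smul_sum]
      refine Finset.sum_congr rfl fun z _ => ?_
      rw [Submodule.coe_smul, Pi.smul_apply, smul_assoc]
    rw [h4] at h3
    have := Submodule.sub_mem _ h3 (Submodule.smul_mem _ a h1)
    have h5 : φ₀ (a • g) - a • φ₀ g =
        (φ₀ (a • g) - a • ∑ z ∈ S, (g : Z → B) z • f z) -
          a • (φ₀ g - ∑ z ∈ S, (g : Z → B) z • f z) := by
      rw [smul_sub]; abel
    rw [h5]; exact this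

end sum

section universal

variable [IsNoetherianRing A]

lemma exists_sub_smul_one_mem (x : AdicCompletion I A) (n : ℕ) :
    ∃ a : A, x - a • (1 : AdicCompletion I A) ∈ (I ^ n • ⊤ : Submodule A (AdicCompletion I A)) := by
  have fg : I.FG := IsNoetherian.noetherian I
  obtain ⟨a, ha⟩ := Submodule.mkQ_surjective _ (AdicCompletion.eval I A n x)
  refine ⟨a, ?_⟩
  have h1 : AdicCompletion.eval I A n 1 = 1 := by
    rw [AdicCompletion.eval_apply]; exact AdicCompletion.val_one I n
  have h2 : a • (1 : A ⧸ (I ^ n • ⊤ : Ideal A)) = (I ^ n • ⊤ : Submodule A A).mkQ a := by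
    rw [show (1 : A ⧸ (I ^ n • ⊤ : Ideal A)) = (I ^ n • ⊤ : Submodule A A).mkQ 1 from rfl,
      ← map_smul]
    exact congrArg _ (mul_one a)
  rw [AdicCompletion.pow_smul_top_eq_ker_eval fg, LinearMap.mem_ker, map_sub, map_smul, ← ha,
    sub_eq_zero, h1, h2]

theorem ext_of_single [DecidableEq Z] (M : Type*) [AddCommGroup M] [Module A M] [IsHausdorff I M]
    (φ φ' : decaying I Z (AdicCompletion I A) →ₗ[A] M)
    (h : ∀ z, φ (single I z (1 : AdicCompletion I A)) = φ' (single I z 1)) : φ = φ' := by
  have fg : I.FG := IsNoetherian.noetherian I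
  have hcomp : IsAdicComplete I (AdicCompletion I A) := AdicCompletion.isAdicComplete fg
  rw [← sub_eq_zero]
  have hψ : ∀ z, (φ - φ') (single I z (1 : AdicCompletion I A)) = 0 := fun z => by
    rw [LinearMap.sub_apply, h z, sub_self]
  generalize φ - φ' = ψ at hψ
  ext g
  rw [LinearMap.zero_apply]
  apply IsHausdorff.haus (inferInstance : IsHausdorff I M)
  intro n
  rw [SModEq.zero]
  choose c hc using fun z => exists_sub_smul_one_mem I ((g : Z → AdicCompletion I A) z) n
  let T : Finset Z := (g.2 n).toFinset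
  have hT : ∀ z, z ∉ T → (g : Z → AdicCompletion I A) z ∈
      (I ^ n • ⊤ : Submodule A (AdicCompletion I A)) := by
    intro z hz
    by_contra h
    exact hz ((g.2 n).mem_toFinset.2 h)
  let gn : decaying I Z (AdicCompletion I A) := ∑ z ∈ T, c z • single I z (1 : AdicCompletion I A)
  have h1 : ψ gn = 0 := by
    simp only [gn, map_sum, map_smul, hψ, smul_zero, Finset.sum_const_zero]
  have h2 : g - gn ∈ (I ^ n • ⊤ : Submodule A (decaying I Z (AdicCompletion I A))) := by
    apply mem_smul_top_of_forall_apply_mem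
    intro z
    have h3 : ((g - gn : decaying I Z (AdicCompletion I A)) : Z → AdicCompletion I A) z =
        (g : Z → AdicCompletion I A) z - (if z ∈ T then c z • (1 : AdicCompletion I A) else 0) := by
      simp only [gn, Submodule.coe_sub, Submodule.coe_sum, Submodule.coe_smul, coe_single,
        Pi.sub_apply, Finset.sum_apply, Pi.smul_apply, Pi.single_apply, smul_ite, smul_zero,
        Finset.sum_ite_eq]
    rw [h3]
    by_cases hz : z ∈ T
    · rw [if_pos hz]; exact hc z
    · rw [if_neg hz, sub_zero]; exact hT z hz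
  have h4 : ψ g = ψ (g - gn) := by rw [map_sub, h1, sub_zero]
  rw [h4]
  exact map_mem_pow_smul_top I _ ψ n h2

theorem existsUnique_single [DecidableEq Z] (M : Type*) [AddCommGroup M] [Module A M]
    [IsAdicComplete I M] (f : Z → M) :
    ∃! φ : decaying I Z (AdicCompletion I A) →ₗ[A] M,
      ∀ z, φ (single I z (1 : AdicCompletion I A)) = f z := by
  have fg : I.FG := IsNoetherian.noetherian I
  have hcomp : IsAdicComplete I (AdicCompletion I M) := AdicCompletion.isAdicComplete fg
  let e := AdicCompletion.ofLinearEquiv I M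
  obtain ⟨φ', hφ'⟩ := exists_sumMap I Z (AdicCompletion I A) (AdicCompletion I M) (fun z => e (f z))
  have hsingle : ∀ z, φ' (single I z (1 : AdicCompletion I A)) = e (f z) := by
    intro z
    rw [← sub_eq_zero]
    apply IsHausdorff.haus (inferInstance : IsHausdorff I (AdicCompletion I M))
    intro n
    rw [SModEq.zero]
    have := hφ' (single I z (1 : AdicCompletion I A)) n {z} (fun z' hz' => by
      rw [coe_single, Pi.single_apply, if_neg (by simpa using hz')]
      exact Submodule.zero_mem _)
    simpa using this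
  refine ⟨e.symm.toLinearMap ∘ₗ φ', fun z => ?_, fun φ hφ => ?_⟩
  · simp [hsingle z]
  · apply ext_of_single I Z M
    intro z
    rw [hφ z]
    simp [hsingle z]

end universal

section flat

lemma pi_mem_smul_top {l : ℕ} (J : Ideal A) (v : Fin l → A) (hv : ∀ i, v i ∈ J) :
    v ∈ (J • ⊤ : Submodule A (Fin l → A)) := by
  classical
  have h : v = ∑ i, v i • (Pi.single i (1 : A) : Fin l → A) := by
    funext i'
    simp [Finset.sum_apply, Pi.single_apply]
  rw [h]
  exact Submodule.sum_mem _ fun i _ => Submodule.smul_mem_smul (hv i) Submodule.mem_top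

theorem flat_decaying [IsNoetherianRing A] [IsHausdorff I A] :
    Module.Flat A (decaying I Z A) := by
  classical
  apply Module.Flat.of_forall_isTrivialRelation
  intro l f x hx
  let Φ : (Fin l → A) →ₗ[A] A := ∑ i, f i • LinearMap.proj i
  have hΦ : ∀ w : Fin l → A, Φ w = ∑ i, f i * w i := by
    intro w
    simp [Φ, LinearMap.sum_apply]
  obtain ⟨s, k, hk⟩ := Submodule.fg_iff_exists_fin_generating_family.1
    (IsNoetherian.noetherian (LinearMap.ker Φ))
  obtain ⟨c, hc⟩ := Ideal.exists_pow_inf_eq_pow_smul I (LinearMap.ker Φ)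
  let v : Z → (Fin l → A) := fun z i => (x i : Z → A) z
  have hvK : ∀ z, v z ∈ LinearMap.ker Φ := by
    intro z
    rw [LinearMap.mem_ker, hΦ]
    have := congrArg (fun g : decaying I Z A => (g : Z → A) z) hx
    simpa [Submodule.coe_sum, Finset.sum_apply] using this
  have htop : ∀ m : ℕ, (I ^ m • ⊤ : Submodule A A) = I ^ m := fun m => by
    rw [smul_eq_mul, Ideal.mul_top]
  have key : ∀ z, ∃ y : Fin s → A, v z = ∑ j, y j • k j ∧
      ∀ n, v z ∈ (I ^ (n + c) • ⊤ : Submodule A (Fin l → A)) → ∀ j, y j ∈ I ^ n := by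
    intro z
    by_cases hall : ∀ n, v z ∈ (I ^ (n + c) • ⊤ : Submodule A (Fin l → A))
    · have h0 : v z = 0 := by
        funext i
        apply IsHausdorff.haus ‹IsHausdorff I A›
        intro j
        rw [SModEq.zero]
        have h1 := map_mem_pow_smul_top I _ (LinearMap.proj i : (Fin l → A) →ₗ[A] A) (j + c) (hall j)
        exact pow_smul_top_mono I A (Nat.le_add_right j c) h1
      exact ⟨0, by simp [h0], fun n _ j => Submodule.zero_mem _⟩
    · simp only [not_forall] at hall
      have hm₀ := Nat.find_spec hall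
      have hmem : v z ∈ I ^ (Nat.find hall - 1) • LinearMap.ker Φ := by
        rcases Nat.eq_zero_or_pos (Nat.find hall) with h0 | hpos
        · rw [h0, Nat.zero_sub, pow_zero, Ideal.one_eq_top, Submodule.top_smul]
          exact hvK z
        · obtain ⟨m₁, hm₁⟩ : ∃ m₁, Nat.find hall = m₁ + 1 :=
            Nat.exists_eq_succ_of_ne_zero hpos.ne'
          have h1 : v z ∈ (I ^ (m₁ + c) • ⊤ : Submodule A (Fin l → A)) := by
            by_contra h
            have := Nat.find_min' hall h
            omega
          have h2 : v z ∈ (I ^ (m₁ + c) • ⊤ : Submodule A (Fin l → A)) ⊓ LinearMap.ker Φ :=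
            ⟨h1, hvK z⟩
          rw [hc (m₁ + c) (Nat.le_add_left c m₁), Nat.add_sub_cancel] at h2
          rw [hm₁, Nat.add_sub_cancel]
          exact Submodule.smul_mono le_rfl inf_le_right h2
      rw [← hk, Submodule.mem_ideal_smul_span_iff_exists_sum] at hmem
      obtain ⟨a, ha, hsum⟩ := hmem
      refine ⟨a, ?_, fun n hn j => ?_⟩
      · rw [← hsum]
        exact Finsupp.sum_fintype _ _ (fun i => zero_smul _ _)
      · have hle : n ≤ Nat.find hall - 1 := by
          by_contra hlt
          apply hm₀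
          refine pow_smul_top_mono I _ ?_ hn
          omega
        exact Ideal.pow_le_pow_right hle (ha j)
  choose y hy1 hy2 using key
  have hdec : ∀ j, (fun z => y z j) ∈ decaying I Z A := by
    intro j n
    have hfin : (⋃ i : Fin l, {z | (x i : Z → A) z ∉ (I ^ (n + c) • ⊤ : Submodule A A)}).Finite :=
      Set.finite_iUnion fun i => (x i).2 (n + c)
    refine hfin.subset ?_
    intro z hz
    by_contra h
    simp only [Set.mem_iUnion, Set.mem_ofPred_eq, not_exists, not_not] at h
    apply hz
    rw [htop]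
    refine hy2 z n (pi_mem_smul_top _ _ fun i => ?_) j
    have := h i
    rwa [htop] at this
  refine ⟨s, fun i j => k j i, fun j => ⟨fun z => y z j, hdec j⟩, fun i => ?_, fun j => ?_⟩
  · apply Subtype.ext
    funext z
    have h1 := congrFun (hy1 z) i
    simp only [Finset.sum_apply, Pi.smul_apply, smul_eq_mul] at h1
    rw [Submodule.coe_sum, Finset.sum_apply]
    simp only [Submodule.coe_smul, Pi.smul_apply, smul_eq_mul]
    rw [show (x i : Z → A) z = v z i from rfl, h1]
    exact Finset.sum_congr rfl fun j _ => mul_comm _ _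
  · have hkj : k j ∈ LinearMap.ker Φ := by
      rw [← hk]; exact Submodule.subset_span ⟨j, rfl⟩
    rw [LinearMap.mem_ker, hΦ] at hkj
    exact hkj

end flat

section congr

variable {N} {N' : Type*} [AddCommGroup N'] [Module A N']

def decayingMap (e : N →ₗ[A] N') : decaying I Z N →ₗ[A] decaying I Z N' where
  toFun f := ⟨fun z => e ((f : Z → N) z), fun n => (f.2 n).subset (by
      intro z hz
      by_contra h
      simp only [Set.mem_ofPred_eq, not_not] at h
      exact hz (map_mem_pow_smul_top I N e n h))⟩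
  map_add' f g := by
    apply Subtype.ext; funext z
    simp
  map_smul' a f := by
    apply Subtype.ext; funext z
    simp

@[simp] lemma decayingMap_apply (e : N →ₗ[A] N') (f : decaying I Z N) (z : Z) :
    ((decayingMap I Z e f : decaying I Z N') : Z → N') z = e ((f : Z → N) z) := rfl

def decayingCongr (e : N ≃ₗ[A] N') : decaying I Z N ≃ₗ[A] decaying I Z N' :=
  LinearEquiv.ofLinearMap (decayingMap I Z e.toLinearMap) (decayingMap I Z e.symm.toLinearMap)
    (by
      apply LinearMap.ext; intro f
      apply Subtype.ext; funext z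
      simp)
    (by
      apply LinearMap.ext; intro f
      apply Subtype.ext; funext z
      simp)

end congr

section retract

theorem isAdicComplete_of_retract {P D : Type*} [AddCommGroup P] [Module A P] [AddCommGroup D]
    [Module A D] [IsAdicComplete I D] (i : P →ₗ[A] D) (r : D →ₗ[A] P) (hri' : ∀ p, r (i p) = p) :
    IsAdicComplete I P := by
  refine { toIsHausdorff := ⟨?_⟩, toIsPrecomplete := ⟨?_⟩ }
  · intro x hx
    have h0 : i x = 0 := by
      apply IsHausdorff.haus (inferInstance : IsHausdorff I D)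
      intro n
      have := hx n
      rw [SModEq.zero] at this ⊢
      exact map_mem_pow_smul_top I P i n this
    rw [← hri' x, h0, map_zero]
  · intro x hx
    obtain ⟨L, hL⟩ := IsPrecomplete.prec (inferInstance : IsPrecomplete I D)
      (f := fun n => i (x n)) (by
        intro m n hmn
        have := hx hmn
        rw [SModEq.sub_mem] at this ⊢
        rw [← map_sub]
        exact map_mem_pow_smul_top I P i m this)
    refine ⟨r L, fun n => ?_⟩
    have := hL n
    rw [SModEq.sub_mem] at this ⊢
    have h2 := map_mem_pow_smul_top I _ r n this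
    rwa [map_sub, hri'] at h2

theorem isAdicComplete_of_linearEquiv {P D : Type*} [AddCommGroup P] [Module A P] [AddCommGroup D]
    [Module A D] [IsAdicComplete I D] (e : P ≃ₗ[A] D) : IsAdicComplete I P :=
  isAdicComplete_of_retract I e.toLinearMap e.symm.toLinearMap (fun p => e.symm_apply_apply p)

end retract

section flatker

theorem mem_smul_ker_of_flat {D M : Type*} [AddCommGroup D] [Module A D] [AddCommGroup M]
    [Module A M] [Module.Flat A M] (φ : D →ₗ[A] M) (hφ : Function.Surjective φ) (J : Ideal A)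
    (x : D) (hx : φ x = 0) (hxJ : x ∈ (J • ⊤ : Submodule A D)) :
    x ∈ J • LinearMap.ker φ := by
  classical
  have hspan : (⊤ : Submodule A D) = Submodule.span A (Set.range (id : D → D)) := by simp
  rw [hspan, Submodule.mem_ideal_smul_span_iff_exists_sum] at hxJ
  obtain ⟨a, ha, hsum⟩ := hxJ
  have hsum' : ∑ i : a.support, a i.1 • (i.1 : D) = x := by
    rw [← hsum, Finsupp.sum]
    exact Finset.sum_coe_sort a.support (fun d => a d • id d)
  have hrel : ∑ i : a.support, a i.1 • φ i.1 = 0 := by
    rw [← hx, ← hsum', map_sum]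
    simp only [map_smul]
  obtain ⟨k, c, y, hy, hc⟩ := Module.Flat.isTrivialRelation_of_sum_smul_eq_zero hrel
  choose e he using fun j => hφ (y j)
  have hκ : ∀ i : a.support, (i.1 : D) - ∑ j, c i j • e j ∈ LinearMap.ker φ := by
    intro i
    rw [LinearMap.mem_ker, map_sub, map_sum]
    simp only [map_smul, he]
    rw [← hy i, sub_self]
  have hzero : ∑ i : a.support, a i.1 • ∑ j, c i j • e j = 0 := by
    simp only [Finset.smul_sum, smul_smul]
    rw [Finset.sum_comm]
    refine Finset.sum_eq_zero fun j _ => ?_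
    rw [← Finset.sum_smul, hc j, zero_smul]
  have hx2 : x = ∑ i : a.support, a i.1 • ((i.1 : D) - ∑ j, c i j • e j) := by
    simp only [smul_sub, Finset.sum_sub_distrib]
    rw [hzero, sub_zero, hsum']
  rw [hx2]
  exact Submodule.sum_mem _ fun i _ => Submodule.smul_mem_smul (ha _) (hκ i)

end flatker

section flatkerquot

theorem mem_smul_ker_sup_of_flat_quotient {D M' : Type*} [AddCommGroup D] [Module A D]
    [AddCommGroup M'] [Module A M'] (Q : Ideal A) [Module (A ⧸ Q) M'] [IsScalarTower A (A ⧸ Q) M']
    [Module.Flat (A ⧸ Q) M'] (φ : D →ₗ[A] M') (hφ : Function.Surjective φ) (J : Ideal A)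
    (x : D) (hx : φ x = 0) (hxJ : x ∈ (J • ⊤ : Submodule A D)) :
    x ∈ J • LinearMap.ker φ ⊔ (Q • ⊤ : Submodule A D) := by
  classical
  have hspan : (⊤ : Submodule A D) = Submodule.span A (Set.range (id : D → D)) := by simp
  rw [hspan, Submodule.mem_ideal_smul_span_iff_exists_sum] at hxJ
  obtain ⟨a, ha, hsum⟩ := hxJ
  have hsum' : ∑ i : a.support, a i.1 • (i.1 : D) = x := by
    rw [← hsum, Finsupp.sum]
    exact Finset.sum_coe_sort a.support (fun d => a d • id d)
  have hsm : ∀ (r : A) (v : M'), (Ideal.Quotient.mk Q r : A ⧸ Q) • v = r • v := fun r v =>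
    algebraMap_smul (A ⧸ Q) r v
  have hrel : ∑ i : a.support, (Ideal.Quotient.mk Q (a i.1) : A ⧸ Q) • φ i.1 = 0 := by
    simp only [hsm]
    rw [← hx, ← hsum', map_sum]
    simp only [map_smul]
  obtain ⟨k, cbar, y, hy, hc⟩ := Module.Flat.isTrivialRelation_of_sum_smul_eq_zero hrel
  simp only at hy hc
  choose c hcl using fun i j => Ideal.Quotient.mk_surjective (cbar i j)
  choose e he using fun j => hφ (y j)
  have hκ : ∀ i : a.support, (i.1 : D) - ∑ j, c i j • e j ∈ LinearMap.ker φ := by
    intro i
    rw [LinearMap.mem_ker, map_sub, map_sum]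
    simp only [map_smul, he]
    rw [hy i, sub_eq_zero]
    refine Finset.sum_congr rfl fun j _ => ?_
    rw [← hcl i j, hsm]
  have hq : ∀ j, ∑ i : a.support, a i.1 * c i j ∈ Q := by
    intro j
    rw [← Ideal.Quotient.eq_zero_iff_mem, map_sum, ← hc j]
    refine Finset.sum_congr rfl fun i _ => ?_
    rw [map_mul, hcl]
  have hsecond : ∑ i : a.support, a i.1 • ∑ j, c i j • e j ∈ (Q • ⊤ : Submodule A D) := by
    simp only [Finset.smul_sum, smul_smul]
    rw [Finset.sum_comm]
    refine Submodule.sum_mem _ fun j _ => ?_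
    rw [← Finset.sum_smul]
    exact Submodule.smul_mem_smul (hq j) Submodule.mem_top
  have hx2 : x = ∑ i : a.support, a i.1 • ((i.1 : D) - ∑ j, c i j • e j) +
      ∑ i : a.support, a i.1 • ∑ j, c i j • e j := by
    simp only [smul_sub, Finset.sum_sub_distrib]
    rw [sub_add_cancel, hsum']
  rw [hx2]
  refine Submodule.add_mem_sup ?_ hsecond
  exact Submodule.sum_mem _ fun i _ => Submodule.smul_mem_smul (ha _) (hκ i)

theorem isAdicComplete_of_pow_smul_top_eq_bot {M' : Type*} [AddCommGroup M'] [Module A M'] (N : ℕ)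
    (h : (I ^ N • ⊤ : Submodule A M') = ⊥) : IsAdicComplete I M' := by
  refine { toIsHausdorff := ⟨?_⟩, toIsPrecomplete := ⟨?_⟩ }
  · intro x hx
    have := hx N
    rw [SModEq.zero, h, Submodule.mem_bot] at this
    exact this
  · intro f hf
    refine ⟨f N, fun n => ?_⟩
    rcases le_total n N with hn | hn
    · exact hf hn
    · have := hf hn
      rw [SModEq.sub_mem, h, Submodule.mem_bot, sub_eq_zero] at this
      rw [this]

end flatkerquot

section restrict

variable {B : Type*} [CommRing B] [Algebra A B] (J : Ideal B)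

lemma smul_top_le_of_map_le (hIJ : I.map (algebraMap A B) ≤ J) (M : Type*) [AddCommGroup M]
    [Module A M] [Module B M] [IsScalarTower A B M] (n : ℕ) {x : M}
    (hx : x ∈ (I ^ n • ⊤ : Submodule A M)) : x ∈ (J ^ n • ⊤ : Submodule B M) := by
  refine Submodule.smul_induction_on hx ?_ ?_
  · intro a ha y _
    rw [← algebraMap_smul B a y]
    refine Submodule.smul_mem_smul ?_ Submodule.mem_top
    have h1 : algebraMap A B a ∈ (I ^ n).map (algebraMap A B) := Ideal.mem_map_of_mem _ ha
    rw [Ideal.map_pow] at h1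
    exact Ideal.pow_right_mono hIJ n h1
  · intro y y' hy hy'
    exact Submodule.add_mem _ hy hy'

theorem isAdicComplete_of_map_le [IsNoetherianRing A] (hIJ : I.map (algebraMap A B) ≤ J)
    (M : Type*) [AddCommGroup M] [Module A M] [Module B M] [IsScalarTower A B M]
    [IsAdicComplete J M] : IsAdicComplete I M := by
  classical
  refine { toIsHausdorff := ⟨?_⟩, toIsPrecomplete := ⟨?_⟩ }
  · intro x hx
    apply IsHausdorff.haus (inferInstance : IsHausdorff J M)
    intro n
    have := hx n
    rw [SModEq.zero] at this ⊢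
    exact smul_top_le_of_map_le I J hIJ M n this
  · intro f hf
    obtain ⟨L, hL⟩ := IsPrecomplete.prec (inferInstance : IsPrecomplete J M) (f := f) (by
      intro m n hmn
      have := hf hmn
      rw [SModEq.sub_mem] at this ⊢
      exact smul_top_le_of_map_le I J hIJ M m this)
    refine ⟨L, fun n => ?_⟩
    rw [SModEq.sub_mem]
    obtain ⟨r, a, ha⟩ := Submodule.fg_iff_exists_fin_generating_family.1
      (IsNoetherian.noetherian (I ^ n))
    have hstep : ∀ j, ∃ y : Fin r → M, (∀ k, y k ∈ (I ^ j • ⊤ : Submodule A M)) ∧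
        f (n + j) - f (n + j + 1) = ∑ k, a k • y k := by
      intro j
      have h1 := hf (Nat.le_succ (n + j))
      rw [SModEq.sub_mem, pow_add, Submodule.mul_smul] at h1
      have h2 : f (n + j) - f (n + j + 1) ∈
          (Ideal.span (Set.range a)) • (I ^ j • ⊤ : Submodule A M) := by
        have : Ideal.span (Set.range a) = I ^ n := ha
        rw [this]; exact h1
      exact decomp a _ _ h2
    choose y hy1 hy2 using hstep
    let Y : Fin r → ℕ → M := fun k N => ∑ j ∈ Finset.range N, y j k
    have hYc : ∀ k, ∃ Yk : M, ∀ N, Y k N ≡ Yk [SMOD (J ^ N • ⊤ : Submodule B M)] := by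
      intro k
      apply IsPrecomplete.prec (inferInstance : IsPrecomplete J M)
      intro m₁ m₂ hm
      rw [SModEq.sub_mem]
      have h1 : Y k m₁ - Y k m₂ = -∑ j ∈ Finset.Ico m₁ m₂, y j k := by
        simp only [Y]
        rw [Finset.sum_Ico_eq_sub _ hm]; abel
      rw [h1]
      refine Submodule.neg_mem _ (Submodule.sum_mem _ fun j hj => ?_)
      have hj' := (Finset.mem_Ico.1 hj).1
      have h2 := smul_top_le_of_map_le I J hIJ M j (hy1 j k)
      exact Submodule.smul_mono_left (Ideal.pow_le_pow_right hj') h2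
    choose Yl hYl using hYc
    have htel : ∀ N, ∑ k, a k • Y k N = f n - f (n + N) := by
      intro N
      induction N with
      | zero => simp [Y]
      | succ N ih =>
        have h1 : ∀ k, Y k (N + 1) = Y k N + y N k := fun k => by
          simp only [Y]; rw [Finset.sum_range_succ]
        simp only [h1, smul_add, Finset.sum_add_distrib]
        rw [ih, ← hy2 N]
        rw [show n + (N + 1) = n + N + 1 from rfl]
        abel
    have hfinal : f n - L = ∑ k, a k • Yl k := by
      rw [← sub_eq_zero]
      apply IsHausdorff.haus (inferInstance : IsHausdorff J M)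
      intro N
      rw [SModEq.zero]
      have h1 : f n - L - ∑ k, a k • Yl k =
          (f (n + N) - L) + ∑ k, a k • (Y k N - Yl k) := by
        simp only [smul_sub, Finset.sum_sub_distrib]
        rw [htel N]; abel
      rw [h1]
      refine Submodule.add_mem _ ?_ (Submodule.sum_mem _ fun k _ => ?_)
      · have := hL (n + N)
        rw [SModEq.sub_mem] at this
        exact Submodule.smul_mono_left (Ideal.pow_le_pow_right (Nat.le_add_left N n)) this
      · have := hYl k N
        rw [SModEq.sub_mem] at this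
        rw [← algebraMap_smul B (a k)]
        exact Submodule.smul_mem _ _ this
    rw [hfinal]
    refine Submodule.sum_mem _ fun k _ => Submodule.smul_mem_smul ?_ Submodule.mem_top
    rw [← ha]; exact Submodule.subset_span ⟨k, rfl⟩

end restrict

section density

lemma exists_sub_of_mem (hfg : I.FG) (x : AdicCompletion I N) (n : ℕ) :
    ∃ t : N, x - AdicCompletion.of I N t ∈ (I ^ n • ⊤ : Submodule A (AdicCompletion I N)) := by
  obtain ⟨t, ht⟩ := Submodule.mkQ_surjective _ (AdicCompletion.eval I N n x)
  refine ⟨t, ?_⟩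
  rw [AdicCompletion.pow_smul_top_eq_ker_eval hfg, LinearMap.mem_ker, map_sub,
    AdicCompletion.eval_of, ht, sub_self]

end density

end Groth.Agent.Lib.Helper97.Decaying
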