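import Groth.Agent.Lib.Helper97.AbsKaehlerRank
import Mathlib.FieldTheory.Relrank

/-!
# `[K : K^(p^e)] = [K : K^p]^e`, and `[K : K^p] = p^r` for finitely generated extensions of a
perfect field
-/

set_option autoImplicit false
universe u

namespace Groth.Agent.Lib.Helper97.FrobTower

open KaehlerDifferential

variable (p : ℕ) [Fact p.Prime] {K : Type u} [Field K] [CharP K p]

theorem finrank_top_subfield : Module.finrank (⊤ : Subfield K) K = 1 := by
  rw [← Subfield.relfinrank_top_right, Subfield.relfinrank_self]

theorem finrank_iterateFrobenius_range [ExpChar K p] (n : ℕ)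
    (hn : Module.finrank (frobenius K p).fieldRange K = n) (e : ℕ) :
    Module.finrank (iterateFrobenius K p e).fieldRange K = n ^ e := by
  induction e with
  | zero =>
    have h0 : iterateFrobenius K p 0 = RingHom.id K := by
      ext x
      rw [iterateFrobenius_def, pow_zero, pow_one, RingHom.id_apply]
    have h1 : (iterateFrobenius K p 0).fieldRange = ⊤ := by
      rw [h0, eq_top_iff]
      intro x _
      exact ⟨x, rfl⟩
    rw [h1, finrank_top_subfield, pow_zero]
  | succ e ih =>
    have hcomp : (iterateFrobenius K p e).comp (frobenius K p) = iterateFrobenius K p (e + 1) := by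
      ext x
      rw [RingHom.comp_apply, iterateFrobenius_def, iterateFrobenius_def, frobenius_def, ← pow_mul,
        pow_succ']
    have h1 : (iterateFrobenius K p (e + 1)).fieldRange =
        (frobenius K p).fieldRange.map (iterateFrobenius K p e) := by
      rw [RingHom.map_fieldRange, hcomp]
    have h2 : (iterateFrobenius K p e).fieldRange = (⊤ : Subfield K).map (iterateFrobenius K p e) :=
      RingHom.fieldRange_eq_map _
    have hle : (iterateFrobenius K p (e + 1)).fieldRange ≤ (iterateFrobenius K p e).fieldRange := by
      rw [h1, h2]
      exact (Subfield.gc_map_comap _).monotone_l le_top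
    rw [← Subfield.relfinrank_mul_finrank_top hle, ih, h1, h2, Subfield.relfinrank_map_map,
      Subfield.relfinrank_top_right, hn, pow_succ']

theorem subsingleton_kaehler_of_perfect (k : Type u) [Field k] [CharP k p] [PerfectRing k p] :
    Subsingleton (Ω[k⁄ℤ]) := by
  rw [← Submodule.subsingleton_iff k, ← subsingleton_iff_bot_eq_top,
    ← KaehlerDifferential.span_range_derivation ℤ k, eq_comm, Submodule.span_eq_bot]
  rintro _ ⟨x, rfl⟩
  haveI : ExpChar k p := ExpChar.prime Fact.out
  obtain ⟨y, rfl⟩ := surjective_frobenius k p x
  rw [frobenius_def, Derivation.leibniz_pow, ← Nat.cast_smul_eq_nsmul k p,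
    CharP.cast_eq_zero k p, zero_smul]

/-- `[K : K^p] = p^r` for a finitely generated extension of transcendence degree `r` of a perfect
field. -/
theorem finrank_frobenius_range_of_perfect (k : Type u) [Field k] [CharP k p] [PerfectRing k p]
    [Algebra k K] [Algebra.EssFiniteType k K] (r : ℕ) (hr : Algebra.trdeg k K = r) :
    Module.finrank (frobenius K p).fieldRange K = p ^ r := by
  have := subsingleton_kaehler_of_perfect p k
  obtain ⟨hfin, hrank⟩ := AbsKaehlerRank.finrank_kaehler_int (F := k) (K := K) r hr
  rw [LaurentPBasis.finrank_frobenius_range p, hrank, Module.finrank_zero_of_subsingleton, zero_add]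

end Groth.Agent.Lib.Helper97.FrobTower
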