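import Mathlib.RingTheory.Kaehler.Basic
import Mathlib.RingTheory.Kaehler.Polynomial
import Mathlib.RingTheory.TensorProduct.Basic
import Mathlib.FieldTheory.Minpoly.Field
import Mathlib.RingTheory.Unramified.Field

/-!
# Kähler differentials of a simple algebraic field extension

For fields `K ⊆ F = K[x]` (`x` algebraic with minimal polynomial `P`) and a base ring `k → K`,
the kernel of `F ⊗[K] Ω[K⁄k] → Ω[F⁄k]` is contained in the line spanned by
`η = ∑ xⁱ ⊗ d(Pᵢ)`.
-/

set_option autoImplicit false
universe u v

open Polynomial TensorProduct KaehlerDifferential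

namespace Groth.Agent.Lib.Helper97.Cartier

section Simple

variable {k : Type v} {K F : Type u} [CommRing k] [Field K] [Field F]
  [Algebra k K] [Algebra k F] [Algebra K F] [IsScalarTower k K F]

/-- coefficientwise differential, evaluated at `x`: `f ↦ ∑ xⁱ ⊗ d(fᵢ)`. -/
noncomputable def coeffD (x : F) : K[X] →ₗ[k] F ⊗[K] Ω[K⁄k] :=
  Polynomial.lsum fun i =>
    ((TensorProduct.mk K F Ω[K⁄k] (x ^ i)).restrictScalars k).comp (D k K).toLinearMap

lemma coeffD_monomial (x : F) (i : ℕ) (a : K) :
    coeffD (k := k) x (monomial i a) = (x ^ i) ⊗ₜ[K] D k K a := by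
  simp [coeffD, Polynomial.lsum_apply, Polynomial.sum_monomial_index]

lemma coeffD_C (x : F) (a : K) :
    coeffD (k := k) x (C a) = (1 : F) ⊗ₜ[K] D k K a := by
  rw [← monomial_zero_left, coeffD_monomial, pow_zero]

lemma coeffD_apply (x : F) (f : K[X]) :
    coeffD (k := k) x f = f.sum fun i a => (x ^ i) ⊗ₜ[K] D k K a := by
  simp [coeffD, Polynomial.lsum_apply]


section Der

variable [Algebra K[X] F] [IsScalarTower K K[X] F] [IsScalarTower k K[X] F]

lemma algebraMap_monomial (i : ℕ) (a : K) :
    algebraMap K[X] F (monomial i a) = algebraMap K F a * (algebraMap K[X] F X) ^ i := by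
  rw [← C_mul_X_pow_eq_monomial, map_mul, map_pow, ← algebraMap_eq, ← IsScalarTower.algebraMap_apply]

lemma coeffD_mul (f g : K[X]) :
    coeffD (k := k) (algebraMap K[X] F X) (f * g) =
      f • coeffD (k := k) (algebraMap K[X] F X) g + g • coeffD (k := k) (algebraMap K[X] F X) f := by
  induction f using Polynomial.induction_on' with
  | add f₁ f₂ h₁ h₂ =>
    rw [add_mul, map_add, h₁, h₂, map_add, add_smul, smul_add]; abel
  | monomial i a =>
    induction g using Polynomial.induction_on' with
    | add g₁ g₂ h₁ h₂ =>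
      rw [mul_add, map_add, h₁, h₂, map_add, add_smul, smul_add]; abel
    | monomial j b =>
      rw [monomial_mul_monomial, coeffD_monomial, coeffD_monomial, coeffD_monomial,
        Derivation.leibniz, tmul_add, TensorProduct.smul_tmul', TensorProduct.smul_tmul',
        Algebra.smul_def, Algebra.smul_def, algebraMap_monomial, algebraMap_monomial,
        tmul_smul, tmul_smul, TensorProduct.smul_tmul', TensorProduct.smul_tmul',
        Algebra.smul_def, Algebra.smul_def]
      congr 2 <;> ring

/-- The `k`-derivation `K[X] → F ⊗[K] Ω[K⁄k]`, `f ↦ ∑ xⁱ ⊗ d(fᵢ)`. -/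
noncomputable def coeffDer : Derivation k K[X] (F ⊗[K] Ω[K⁄k]) :=
  Derivation.mk' (coeffD (k := k) (algebraMap K[X] F X)) coeffD_mul

lemma coeffDer_apply (f : K[X]) :
    coeffDer (k := k) (F := F) f = coeffD (k := k) (algebraMap K[X] F X) f := rfl


theorem ker_mapBaseChange_le_span
    (hsurj : Function.Surjective (algebraMap K[X] F)) (P : K[X])
    (hker : RingHom.ker (algebraMap K[X] F) = Ideal.span {P}) :
    LinearMap.ker (mapBaseChange k K F) ≤
      Submodule.span F {coeffD (k := k) (algebraMap K[X] F X) P} := by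
  intro ω hω
  let r₀ : Ω[K[X]⁄k] →ₗ[K[X]] F ⊗[K] Ω[K⁄k] :=
    (coeffDer (k := k) (F := F)).liftKaehlerDifferential
  let r : F ⊗[K[X]] Ω[K[X]⁄k] →ₗ[F] F ⊗[K] Ω[K⁄k] := r₀.liftBaseChange F
  let j₀ : Ω[K⁄k] →ₗ[K] F ⊗[K[X]] Ω[K[X]⁄k] :=
    ((TensorProduct.mk K[X] F Ω[K[X]⁄k] 1).restrictScalars K).comp
      (KaehlerDifferential.map k k K K[X])
  let j : F ⊗[K] Ω[K⁄k] →ₗ[F] F ⊗[K[X]] Ω[K[X]⁄k] := j₀.liftBaseChange F
  have h1 : (r.restrictScalars K).comp j₀ = TensorProduct.mk K F Ω[K⁄k] 1 := by
    apply Derivation.liftKaehlerDifferential_unique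
    ext a
    simp only [Derivation.coe_comp, LinearMap.coe_comp, Function.comp_apply,
      LinearMap.coe_restrictScalars, j₀, KaehlerDifferential.map_D, TensorProduct.mk_apply, r,
      LinearMap.liftBaseChange_tmul, one_smul, r₀, Derivation.liftKaehlerDifferential_comp_D,
      coeffDer_apply, Polynomial.algebraMap_eq, coeffD_C, Derivation.coeFn_coe]
  have hrj : ∀ ω, r (j ω) = ω := by
    intro ω
    induction ω using TensorProduct.induction_on with
    | zero => simp
    | add a b ha hb => rw [map_add, map_add, ha, hb]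
    | tmul l ω =>
      have := LinearMap.congr_fun h1 ω
      simp only [LinearMap.coe_comp, Function.comp_apply, LinearMap.coe_restrictScalars,
        TensorProduct.mk_apply] at this
      rw [LinearMap.liftBaseChange_tmul, map_smul, this, TensorProduct.smul_tmul', smul_eq_mul,
        mul_one]
  have hφ : ∀ ω, mapBaseChange k K[X] F (j ω) = mapBaseChange k K F ω := by
    intro ω
    induction ω using TensorProduct.induction_on with
    | zero => simp
    | add a b ha hb => rw [map_add, map_add, ha, hb, map_add]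
    | tmul l ω =>
      rw [LinearMap.liftBaseChange_tmul, map_smul, mapBaseChange_tmul]
      congr 1
      simp only [j₀, LinearMap.coe_comp, Function.comp_apply, LinearMap.coe_restrictScalars,
        TensorProduct.mk_apply, mapBaseChange_tmul, one_smul]
      have : ((KaehlerDifferential.map k k K[X] F).restrictScalars K).comp
          (KaehlerDifferential.map k k K K[X]) = KaehlerDifferential.map k k K F := by
        apply Derivation.liftKaehlerDifferential_unique
        ext a
        simp only [Derivation.coe_comp, LinearMap.coe_comp, Function.comp_apply,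
          LinearMap.coe_restrictScalars, KaehlerDifferential.map_D, Derivation.coeFn_coe,
          ← IsScalarTower.algebraMap_apply]
      exact LinearMap.congr_fun this ω
  have h0 : mapBaseChange k K[X] F (j ω) = 0 := by rw [hφ]; exact hω
  obtain ⟨c, hc⟩ := (KaehlerDifferential.exact_kerCotangentToTensor_mapBaseChange k K[X] F hsurj
    (j ω)).mp h0
  obtain ⟨⟨g, hg⟩, rfl⟩ := Ideal.toCotangent_surjective _ c
  rw [kerCotangentToTensor_toCotangent] at hc
  obtain ⟨h, rfl⟩ : ∃ h, h * P = g := by
    rw [hker] at hg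
    exact Ideal.mem_span_singleton'.mp hg
  have hP0 : algebraMap K[X] F P = 0 := by
    rw [← RingHom.mem_ker, hker]; exact Ideal.mem_span_singleton_self P
  have : ω = algebraMap K[X] F h • coeffD (k := k) (algebraMap K[X] F X) P := by
    rw [← hrj ω, ← hc]
    simp only [r, LinearMap.liftBaseChange_tmul, one_smul, r₀, Derivation.leibniz, map_add,
      map_smul, Derivation.liftKaehlerDifferential_comp_D, coeffDer_apply]
    rw [← algebraMap_smul F P, hP0, zero_smul, add_zero, algebraMap_smul]
  rw [this]
  exact Submodule.smul_mem _ _ (Submodule.mem_span_singleton_self _)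

end Der


/-- `d(f(x)) = ∑ xⁱ d(fᵢ) + f'(x) dx`. -/
lemma D_aeval (x : F) (f : K[X]) :
    D k F (aeval x f) =
      mapBaseChange k K F (coeffD (k := k) x f) + aeval x (derivative f) • D k F x := by
  induction f using Polynomial.induction_on' with
  | add f g hf hg =>
    simp only [map_add, hf, hg, add_smul]; abel
  | monomial i a =>
    rw [coeffD_monomial, mapBaseChange_tmul, KaehlerDifferential.map_D, derivative_monomial,
      aeval_monomial, aeval_monomial, Derivation.leibniz, Derivation.leibniz_pow, map_mul,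
      map_natCast, add_comm]
    congr 1
    rw [← Nat.cast_smul_eq_nsmul F, smul_smul, smul_smul, mul_assoc]

lemma coeffD_mem_ker (x : F) (P : K[X]) (hP : aeval x P = 0) (hP' : derivative P = 0) :
    coeffD (k := k) x P ∈ LinearMap.ker (mapBaseChange k K F) := by
  have := D_aeval (k := k) x P
  rw [hP, hP', map_zero, map_zero, zero_smul, add_zero] at this
  exact this.symm

theorem ker_mapBaseChange_le_span' (x : F) (hgen : Algebra.adjoin K {x} = ⊤) :
    LinearMap.ker (mapBaseChange k K F) ≤
      Submodule.span F {coeffD (k := k) x (minpoly K x)} := by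
  letI : Algebra K[X] F := (aeval x : K[X] →ₐ[K] F).toRingHom.toAlgebra
  have hmap : ∀ f : K[X], algebraMap K[X] F f = aeval x f := fun f => rfl
  have : IsScalarTower K K[X] F := .of_algebraMap_eq' (aeval x : K[X] →ₐ[K] F).comp_algebraMap.symm
  have : IsScalarTower k K[X] F := .of_algebraMap_eq fun a => by
    rw [hmap, Polynomial.algebraMap_apply, aeval_C, ← IsScalarTower.algebraMap_apply]
  have hX : algebraMap K[X] F X = x := aeval_X x
  have hsurj : Function.Surjective (algebraMap K[X] F) := by
    have : (aeval x : K[X] →ₐ[K] F).range = ⊤ := by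
      rw [← Algebra.adjoin_singleton_eq_range_aeval, hgen]
    exact AlgHom.range_eq_top _ |>.mp this
  have hker : RingHom.ker (algebraMap K[X] F) = Ideal.span {minpoly K x} :=
    minpoly.ker_aeval_eq_span_minpoly K x
  have := ker_mapBaseChange_le_span (k := k) (F := F) hsurj (minpoly K x) hker
  rwa [hX] at this


omit [Algebra k F] [IsScalarTower k K F] in
/-- `Ω[F⁄K]` is spanned by `dx` if `F = K[x]`. -/
lemma span_D_eq_top (x : F) (hgen : Algebra.adjoin K {x} = ⊤) :
    Submodule.span F {D K F x} = ⊤ := by
  rw [eq_top_iff, ← KaehlerDifferential.span_range_derivation K F, Submodule.span_le]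
  rintro _ ⟨y, rfl⟩
  have hy : y ∈ (aeval x : K[X] →ₐ[K] F).range := by
    rw [← Algebra.adjoin_singleton_eq_range_aeval, hgen]; trivial
  obtain ⟨f, rfl⟩ := hy
  change D K F (aeval x f) ∈ _
  rw [Derivation.map_aeval]
  exact Submodule.smul_mem _ _ (Submodule.mem_span_singleton_self _)

omit [Algebra k F] [IsScalarTower k K F] in
lemma finrank_kaehler_le_one (x : F) (hgen : Algebra.adjoin K {x} = ⊤) :
    Module.finrank F (Ω[F⁄K]) ≤ 1 := by
  have h := span_D_eq_top x hgen
  have h1 : Module.finrank F (Submodule.span F {D K F x}) ≤ 1 := by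
    simpa using finrank_span_le_card (R := F) ({D K F x} : Set (Ω[F⁄K]))
  rw [h, finrank_top] at h1
  exact h1

omit [Algebra k F] [IsScalarTower k K F] in
lemma finiteType_of_adjoin (x : F) (hgen : Algebra.adjoin K {x} = ⊤) : Algebra.FiniteType K F :=
  ⟨⟨{x}, by simpa using hgen⟩⟩

omit [Algebra k F] [IsScalarTower k K F] in
lemma finrank_kaehler_eq_one (x : F) (hgen : Algebra.adjoin K {x} = ⊤)
    (hsep : ¬ IsSeparable K x) :
    Module.finrank F (Ω[F⁄K]) = 1 := by
  have hle := finrank_kaehler_le_one x hgen
  have := finiteType_of_adjoin x hgen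
  have hfin : Module.Finite F (Ω[F⁄K]) := inferInstance
  have h0 : Module.finrank F (Ω[F⁄K]) ≠ 0 := by
    intro h0
    have hsub : Subsingleton (Ω[F⁄K]) := Module.finrank_zero_iff.mp h0
    have : Algebra.FormallyUnramified K F := ⟨hsub⟩
    have := Algebra.FormallyUnramified.isSeparable K F
    exact hsep (Algebra.IsSeparable.isSeparable K x)
  omega


lemma coeffD_ne_zero (x : F) (hx : IsIntegral K x) (i : ℕ)
    (hi : D k K ((minpoly K x).coeff i) ≠ 0) :
    coeffD (k := k) x (minpoly K x) ≠ 0 := by
  classical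
  set P := minpoly K x with hP
  obtain ⟨l, hl⟩ : ∃ l : Module.Dual K Ω[K⁄k], l (D k K (P.coeff i)) ≠ 0 := by
    by_contra h
    push Not at h
    exact hi ((Module.forall_dual_apply_eq_zero_iff K _).mp h)
  let Λ : F ⊗[K] Ω[K⁄k] →ₗ[F] F := ((Algebra.linearMap K F).comp l).liftBaseChange F
  let Q : K[X] := ∑ n ∈ P.support, monomial n (l (D k K (P.coeff n)))
  have hQc : ∀ n, Q.coeff n = l (D k K (P.coeff n)) := by
    intro n
    simp only [Q, finset_sum_coeff, coeff_monomial]
    rw [Finset.sum_ite_eq']
    split_ifs with h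
    · rfl
    · rw [notMem_support_iff.mp h, map_zero, map_zero]
  have hΛ : Λ (coeffD (k := k) x P) = aeval x Q := by
    rw [coeffD_apply, Polynomial.sum_def, map_sum, map_sum]
    refine Finset.sum_congr rfl fun n _ => ?_
    rw [LinearMap.liftBaseChange_tmul, aeval_monomial]
    simp [mul_comm]
  intro h0
  rw [h0, map_zero] at hΛ
  have hQ0 : Q ≠ 0 := fun h => hl (by rw [← hQc, h, coeff_zero])
  have hdeg := minpoly.degree_le_of_ne_zero K x hQ0 hΛ.symm
  have hmonic : P.Monic := minpoly.monic hx
  have hlt : Q.degree < P.degree := by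
    rw [degree_eq_natDegree hmonic.ne_zero, degree_lt_iff_coeff_zero]
    intro m hm
    rw [hQc]
    rcases hm.eq_or_lt with rfl | hm
    · rw [hmonic.coeff_natDegree, (D k K).map_one_eq_zero, map_zero]
    · rw [coeff_eq_zero_of_natDegree_lt hm, map_zero, map_zero]
  exact absurd hdeg (not_le.mpr hlt)

/-- In characteristic `p`, if `d a = 0` forces `a` to be a `p`-th power, then an irreducible
polynomial with vanishing derivative has a coefficient with nonzero differential. -/
lemma exists_coeff_D_ne_zero (p : ℕ) [Fact p.Prime] [CharP K p]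
    (H : ∀ a : K, D k K a = 0 → ∃ b : K, b ^ p = a)
    (P : K[X]) (hP : Irreducible P) (hP' : derivative P = 0) :
    ∃ i, D k K (P.coeff i) ≠ 0 := by
  by_contra hcon
  push Not at hcon
  have hp : p ≠ 0 := (Fact.out : p.Prime).ne_zero
  have h1 : expand K p (contract p P) = P := expand_contract p hP' hp
  have h2 : contract p P ∈ (mapRingHom (frobenius K p)).range := by
    rw [mem_map_range]
    intro n
    rw [coeff_contract hp]
    obtain ⟨b, hb⟩ := H _ (hcon (n * p))
    exact ⟨b, hb⟩
  obtain ⟨Q, hQ⟩ := h2
  rw [coe_mapRingHom] at hQ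
  rw [← hQ, ← map_expand, map_frobenius_expand] at h1
  rw [← h1] at hP
  exact not_irreducible_pow (Fact.out : p.Prime).ne_one hP

end Simple

end Groth.Agent.Lib.Helper97.Cartier
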