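import Groth.Agent.S11003
import Groth.Agent.Lib.Helper97.CartierSimple
import Mathlib.FieldTheory.KummerPolynomial
import Mathlib.FieldTheory.PurelyInseparable.Basic

/-!
# Separating variables and `kK^p` in geometric function fields of one variable (char `p`)
-/

set_option autoImplicit false
universe u v

open KaehlerDifferential Polynomial

namespace Groth.Agent.Lib.Helper97.FunFldSep

section General

variable (k : Type u) (K : Type v) [Field k] [Field K] [Algebra k K]

/-- `kK^p`. -/
abbrev kKp (p : ℕ) : IntermediateField k K :=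
  IntermediateField.adjoin k (Set.range fun y : K => y ^ p)

/-- The kernel of the universal derivation, an intermediate field. -/
def kerD : IntermediateField k K :=
  Subalgebra.toIntermediateField
    { carrier := {x | D k K x = 0}
      mul_mem' := by
        intro a b ha hb
        simp only [Set.mem_setOf_eq] at *
        rw [Derivation.leibniz, ha, hb, smul_zero, smul_zero, add_zero]
      one_mem' := (D k K).map_one_eq_zero
      add_mem' := by
        intro a b ha hb
        simp only [Set.mem_setOf_eq] at *
        rw [map_add, ha, hb, add_zero]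
      zero_mem' := map_zero _
      algebraMap_mem' := fun c => (D k K).map_algebraMap c }
    (by
      intro x hx
      change D k K x⁻¹ = 0
      have hx' : D k K x = 0 := hx
      rw [Derivation.leibniz_inv, hx', smul_zero])

variable {k K}

lemma mem_kerD_iff (x : K) : x ∈ kerD k K ↔ D k K x = 0 := Iff.rfl

lemma kKp_le_kerD (p : ℕ) [CharP K p] : kKp k K p ≤ kerD k K := by
  rw [IntermediateField.adjoin_le_iff]
  rintro _ ⟨y, rfl⟩
  change D k K (y ^ p) = 0
  rw [Derivation.leibniz_pow, ← Nat.cast_smul_eq_nsmul K, CharP.cast_eq_zero, zero_smul]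

lemma D_eq_zero_of_mem_kKp (p : ℕ) [CharP K p] {x : K} (hx : x ∈ kKp k K p) : D k K x = 0 :=
  kKp_le_kerD p hx

end General

section SepVar

variable {k : Type u} {K : Type v} [Field k] [Field K] [Algebra k K]

/-- A separating variable has nonzero differential, which spans `Ω[K⁄k]`. -/
lemma D_sepVar (t : K) (ht : Transcendental k t)
    [Algebra.IsSeparable (IntermediateField.adjoin k ({t} : Set K)) K] :
    D k K t ≠ 0 ∧ Submodule.span K {D k K t} = ⊤ := by
  have hind : AlgebraicIndependent k (fun _ : Unit => t) :=
    algebraicIndependent_unique_type_iff.mpr ht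
  have hrange : Set.range (fun _ : Unit => t) = {t} := Set.range_const
  have : Algebra.IsSeparable (IntermediateField.adjoin k (Set.range (fun _ : Unit => t))) K := by
    rw [hrange]; infer_instance
  obtain ⟨b, hb⟩ := Groth.Agent.Lib.Helper76.exists_basis_kaehler_of_isSeparable
    (fun _ : Unit => t) hind
  refine ⟨by rw [← hb ()]; exact b.ne_zero (), ?_⟩
  rw [← hb (), ← b.span_eq]
  congr 1
  ext y
  simp only [Set.mem_singleton_iff, Set.mem_range]
  constructor
  · rintro rfl; exact ⟨(), rfl⟩
  · rintro ⟨⟨⟩, rfl⟩; rfl

lemma essFiniteType_of_isFunctionField (hK : FunFld.IsFunctionField k K) :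
    Algebra.EssFiniteType k K := by
  obtain ⟨⟨x, hx, hfin⟩, -⟩ := hK
  have : Algebra.EssFiniteType k (IntermediateField.adjoin k ({x} : Set K)) :=
    (IntermediateField.essFiniteType_iff).mpr ⟨{x}, by simp⟩
  exact Algebra.EssFiniteType.comp k (IntermediateField.adjoin k ({x} : Set K)) K

/-- A geometric function field of one variable has a separating variable. -/
theorem exists_sepVar (hK : FunFld.IsFunctionField k K) (hg : FunFld.IsGeometric k K) :
    ∃ t : K, Transcendental k t ∧
      Algebra.IsSeparable (IntermediateField.adjoin k ({t} : Set K)) K := by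
  have := essFiniteType_of_isFunctionField hK
  obtain ⟨⟨x, hx, hfin⟩, -⟩ := hK
  obtain ⟨s, hs, hsep⟩ : ∃ s : Finset K, IsTranscendenceBasis k ((↑) : s → K) ∧
      Algebra.IsSeparable (IntermediateField.adjoin k (s : Set K)) K := by
    obtain _ | ⟨p, hp, hpk⟩ := CharP.exists' k
    · exact exists_isTranscendenceBasis_and_isSeparable_of_perfectField k K
    · have : CharP k p := hpk
      exact exists_isTranscendenceBasis_and_isSeparable_of_linearIndepOn_pow_of_essFiniteType
        p hp.out (k := k) (K := K)
        (fun s hs => Groth.Agent.S11003.linearIndepOn_pow_of_isGeometric hg p hp.out s hs)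
  have hind : AlgebraicIndependent k (fun _ : Fin 1 => x) :=
    algebraicIndependent_unique_type_iff.mpr hx
  have halg : Algebra.IsAlgebraic (Algebra.adjoin k (Set.range (fun _ : Fin 1 => x))) K := by
    rw [Set.range_const, ← IntermediateField.isAlgebraic_adjoin_iff_top]
    infer_instance
  have hx1 : IsTranscendenceBasis k (fun _ : Fin 1 => x) :=
    hind.isTranscendenceBasis_iff_isAlgebraic.mpr halg
  have hcard := IsTranscendenceBasis.lift_cardinalMk_eq hs hx1
  have h1 : s.card = 1 := by
    have : Cardinal.mk s = 1 := by simpa using hcard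
    rw [Cardinal.mk_fintype] at this
    have h2 : Fintype.card s = 1 := by exact_mod_cast this
    simpa using h2
  obtain ⟨t, rfl⟩ := Finset.card_eq_one.mp h1
  refine ⟨t, ?_, ?_⟩
  · exact hs.1.transcendental ⟨t, Finset.mem_singleton_self t⟩
  · convert hsep <;> simp

end SepVar

section CharP

variable {k : Type u} {K : Type v} [Field k] [Field K] [Algebra k K]
  (p : ℕ) [Fact p.Prime] [CharP K p]

/-- `K = k(K^p, t)` for a separating variable `t`. -/
lemma adjoin_pow_union_sepVar (t : K)
    [Algebra.IsSeparable (IntermediateField.adjoin k ({t} : Set K)) K] :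
    IntermediateField.adjoin k ((Set.range fun y : K => y ^ p) ∪ {t}) = ⊤ := by
  let E := IntermediateField.adjoin k ({t} : Set K)
  let M : IntermediateField E K := IntermediateField.adjoin E (Set.range fun y : K => y ^ p)
  have hsep : Algebra.IsSeparable M K := inferInstance
  have : CharP M p := RingHom.charP (algebraMap M K) (algebraMap M K).injective p
  have : ExpChar M p := ExpChar.prime (Fact.out : p.Prime)
  have hpi : IsPurelyInseparable M K := (isPurelyInseparable_iff_pow_mem M p).mpr fun x =>
    ⟨1, ⟨⟨x ^ p, IntermediateField.subset_adjoin _ _ ⟨x, rfl⟩⟩, by simp⟩⟩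
  have hsurj := IsPurelyInseparable.surjective_algebraMap_of_isSeparable M K
  have hM : M = ⊤ := by
    rw [eq_top_iff]
    intro x _
    obtain ⟨y, rfl⟩ := hsurj x
    exact y.2
  have h := IntermediateField.adjoin_adjoin_left k ({t} : Set K) (Set.range fun y : K => y ^ p)
  change M.restrictScalars k = _ at h
  rw [hM, IntermediateField.restrictScalars_top] at h
  rw [Set.union_comm]
  exact h.symm

/-- If `t ∉ F` but `t ^ p ∈ F` (char `p`), then `[F(t) : F] = p`. -/
lemma finrank_adjoin_simple_of_pow_mem {F : Type*} [Field F] [Algebra F K] (t : K)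
    (htp : t ^ p ∈ (algebraMap F K).range) (ht : t ∉ (algebraMap F K).range) :
    IsIntegral F t ∧ minpoly F t = X ^ p - C (Classical.choose htp) ∧
      Module.finrank F (IntermediateField.adjoin F ({t} : Set K)) = p := by
  set a := Classical.choose htp with ha
  have haa : algebraMap F K a = t ^ p := Classical.choose_spec htp
  have hp : p.Prime := Fact.out
  have hirr : Irreducible (X ^ p - C a : F[X]) := by
    apply X_pow_sub_C_irreducible_of_prime hp
    intro b hb
    apply ht
    refine ⟨b, ?_⟩
    have h1 : (algebraMap F K b) ^ p = t ^ p := by rw [← map_pow, hb, haa]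
    exact frobenius_inj K p h1
  have hmonic : (X ^ p - C a : F[X]).Monic := monic_X_pow_sub_C a hp.ne_zero
  have hroot : aeval t (X ^ p - C a : F[X]) = 0 := by
    simp [haa]
  have hint : IsIntegral F t := ⟨_, hmonic, hroot⟩
  have hmin : minpoly F t = X ^ p - C a :=
    (minpoly.eq_of_irreducible_of_monic hirr hroot hmonic).symm
  refine ⟨hint, hmin, ?_⟩
  rw [IntermediateField.adjoin.finrank hint, hmin, natDegree_X_pow_sub_C]

/-- `[K : kK^p] = p` when there is a separating variable. -/
theorem finrank_kKp (t : K) (ht : Transcendental k t)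
    [Algebra.IsSeparable (IntermediateField.adjoin k ({t} : Set K)) K] :
    Module.finrank (kKp k K p) K = p := by
  have hD := (D_sepVar t ht).1
  have htF : t ∉ (algebraMap (kKp k K p) K).range := by
    rintro ⟨⟨y, hy⟩, rfl⟩
    exact hD (D_eq_zero_of_mem_kKp p hy)
  have htp : t ^ p ∈ (algebraMap (kKp k K p) K).range :=
    ⟨⟨t ^ p, IntermediateField.subset_adjoin _ _ ⟨t, rfl⟩⟩, rfl⟩
  obtain ⟨-, -, hfr⟩ := finrank_adjoin_simple_of_pow_mem p t htp htF
  have hgen : IntermediateField.adjoin (kKp k K p) ({t} : Set K) = ⊤ := by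
    rw [← IntermediateField.restrictScalars_eq_top_iff (K := k),
      IntermediateField.adjoin_adjoin_left]
    exact adjoin_pow_union_sepVar p t
  rw [hgen, IntermediateField.finrank_top'] at hfr
  exact hfr

/-- `dx = 0 ⇒ x ∈ kK^p` when there is a separating variable. -/
theorem mem_kKp_of_D_eq_zero (t : K) (ht : Transcendental k t)
    [Algebra.IsSeparable (IntermediateField.adjoin k ({t} : Set K)) K] (x : K)
    (hx : D k K x = 0) : x ∈ kKp k K p := by
  by_contra hxF
  have hp : p.Prime := Fact.out
  have hfr := finrank_kKp p t ht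
  have hxF' : x ∉ (algebraMap (kKp k K p) K).range := by
    rintro ⟨⟨y, hy⟩, rfl⟩
    exact hxF hy
  have hxp : x ^ p ∈ (algebraMap (kKp k K p) K).range :=
    ⟨⟨x ^ p, IntermediateField.subset_adjoin _ _ ⟨x, rfl⟩⟩, rfl⟩
  obtain ⟨hint, hmin, hfrx⟩ := finrank_adjoin_simple_of_pow_mem p x hxp hxF'
  have hfd : FiniteDimensional (kKp k K p) K :=
    Module.finite_of_finrank_pos (by rw [hfr]; exact hp.pos)
  have htop : IntermediateField.adjoin (kKp k K p) ({x} : Set K) = ⊤ :=
    IntermediateField.eq_of_le_of_finrank_eq le_top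
      (by rw [hfrx, IntermediateField.finrank_top', hfr])
  have hgen : Algebra.adjoin (kKp k K p) ({x} : Set K) = ⊤ := by
    rw [← IntermediateField.adjoin_simple_toSubalgebra_of_isAlgebraic hint.isAlgebraic, htop,
      IntermediateField.top_toSubalgebra]
  have : CharP (kKp k K p) p :=
    RingHom.charP (algebraMap (kKp k K p) K) (algebraMap (kKp k K p) K).injective p
  have hnsep : ¬ IsSeparable (kKp k K p) x := by
    intro h
    rw [IsSeparable, hmin, separable_def] at h
    have hd : derivative (X ^ p - C (Classical.choose hxp) : (kKp k K p)[X]) = 0 := by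
      rw [derivative_sub, derivative_C, derivative_X_pow, CharP.cast_eq_zero, map_zero,
        zero_mul, sub_zero]
    rw [hd, isCoprime_zero_right, ← hmin] at h
    exact minpoly.not_isUnit _ _ h
  have h1 := Groth.Agent.Lib.Helper97.Cartier.finrank_kaehler_eq_one x hgen hnsep
  have hspan := Groth.Agent.Lib.Helper97.Cartier.span_D_eq_top x hgen
  have hDF : D (kKp k K p) K x = 0 := by
    have := KaehlerDifferential.map_D k (kKp k K p) K K x
    rw [hx, map_zero] at this
    simpa using this.symm
  rw [hDF] at hspan
  have h0 : Module.finrank K (Ω[K⁄(kKp k K p)]) = 0 := by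
    rw [← finrank_top K (Ω[K⁄(kKp k K p)]), ← hspan]
    simp
  omega

/-- `x ∉ kK^p ⇒ K/k(x)` separable algebraic. -/
theorem isSeparable_adjoin_of_not_mem [Algebra.EssFiniteType k K] (t : K)
    (ht : Transcendental k t)
    [Algebra.IsSeparable (IntermediateField.adjoin k ({t} : Set K)) K] (x : K)
    (hx : x ∉ kKp k K p) :
    Algebra.IsSeparable (IntermediateField.adjoin k ({x} : Set K)) K := by
  have hDx : D k K x ≠ 0 := fun h => hx (mem_kKp_of_D_eq_zero p t ht x h)
  obtain ⟨-, hspan⟩ := D_sepVar t ht
  have hspanx : ∀ ω : Ω[K⁄k], ∃ c : K, ω = c • D k K x := by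
    have hxt : D k K x ∈ Submodule.span K {D k K t} := by rw [hspan]; trivial
    obtain ⟨c, hc⟩ := Submodule.mem_span_singleton.mp hxt
    have hc0 : c ≠ 0 := by
      rintro rfl
      rw [zero_smul] at hc
      exact hDx hc.symm
    intro ω
    have hω : ω ∈ Submodule.span K {D k K t} := by rw [hspan]; trivial
    obtain ⟨d, rfl⟩ := Submodule.mem_span_singleton.mp hω
    refine ⟨d * c⁻¹, ?_⟩
    rw [← hc, smul_smul, mul_assoc, inv_mul_cancel₀ hc0, mul_one]
  set E := IntermediateField.adjoin k ({x} : Set K) with hE
  have hsub : Subsingleton (Ω[K⁄E]) := by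
    have h0 : ∀ ω' : Ω[K⁄E], ω' = 0 := by
      intro ω'
      obtain ⟨ω, rfl⟩ := KaehlerDifferential.map_surjective k E K ω'
      obtain ⟨c, rfl⟩ := hspanx ω
      rw [map_smul, KaehlerDifferential.map_D]
      have : algebraMap K K x = algebraMap E K ⟨x, IntermediateField.mem_adjoin_simple_self k x⟩ :=
        rfl
      rw [this, Derivation.map_algebraMap, smul_zero]
    exact ⟨fun a b => by rw [h0 a, h0 b]⟩
  have : Algebra.FormallyUnramified E K := ⟨hsub⟩
  have : Algebra.EssFiniteType E K := Algebra.EssFiniteType.of_comp k E K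
  exact Algebra.FormallyUnramified.isSeparable E K

/-- `x ∈ kK^p ⇒ K/k(x)` is not separable algebraic. -/
theorem not_isSeparable_adjoin_of_mem (t : K) (ht : Transcendental k t) (x : K)
    (hx : x ∈ kKp k K p) :
    ¬ Algebra.IsSeparable (IntermediateField.adjoin k ({x} : Set K)) K := by
  intro hsep
  by_cases hxt : Transcendental k x
  · exact (D_sepVar x hxt).1 (D_eq_zero_of_mem_kKp p hx)
  · rw [Transcendental, not_not] at hxt
    have h1 : Algebra.IsAlgebraic k (IntermediateField.adjoin k ({x} : Set K)) :=
      IntermediateField.isAlgebraic_adjoin_simple hxt.isIntegral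
    have h2 : Algebra.IsAlgebraic (IntermediateField.adjoin k ({x} : Set K)) K :=
      Algebra.IsSeparable.isAlgebraic _ _
    have h3 : Algebra.IsAlgebraic k K :=
      Algebra.IsAlgebraic.trans k (IntermediateField.adjoin k ({x} : Set K)) K
    exact ht (h3.isAlgebraic t)

end CharP

end Groth.Agent.Lib.Helper97.FunFldSep
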