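import Groth.Agent.Lib.Helper97.TwistExact
import Groth.Agent.Lib.Lead.Tw2
import Groth.Agent.S0022

/-!
# More helpers for Castelnuovo–Mumford regularity on `P^n_k`

* `subsingleton_HH_X₃`: `H^p(X₂) = 0` and `H^{p+1}(X₁) = 0` give `H^p(X₃) = 0` for a short exact sequence.
* `subsingleton_HH_of_iso'`
* `nonempty_twist_twist_iso`: `(F ⊗ O(a)) ⊗ O(b) ≅ F ⊗ O(a + b)` on `P^n_k`.
* `subsingleton_HH_twist_of_lt`: `H^i(P^n, F(d)) = 0` for `i > n`, `F` quasi-coherent.
-/

set_option autoImplicit false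
universe u
open CategoryTheory CategoryTheory.Limits AlgebraicGeometry

namespace Groth.Agent.Lib.Helper97.TwistExact

open Groth.Agent.Lib.Helper78.ModStalkExact Abelian

variable {X : Scheme.{u}}

theorem subsingleton_HH_X₃ {S : ShortComplex X.Modules} (hS : S.ShortExact) (p : ℕ)
    (h2 : Subsingleton (Coh.HH X S.X₂ p)) (h1 : Subsingleton (Coh.HH X S.X₁ (p + 1))) :
    Subsingleton (Coh.HH X S.X₃ p) := by
  have hT := shortExact_toSh S hS
  refine ⟨fun a b => ?_⟩
  suffices h0 : ∀ x : Coh.HH X S.X₃ p, x = 0 from (h0 a).trans (h0 b).symm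
  intro x₃
  have h : x₃.comp hT.extClass rfl = 0 :=
    @Subsingleton.elim (Coh.HH X S.X₁ (p + 1)) h1 _ _
  obtain ⟨x₂, rfl⟩ := Ext.covariant_sequence_exact₃ _ hT x₃ rfl h
  have : x₂ = 0 := @Subsingleton.elim (Coh.HH X S.X₂ p) h2 _ _
  rw [this, Ext.zero_comp]
  rfl

theorem subsingleton_HH_of_iso' {M N : X.Modules} (φ : M ≅ N) (q : ℕ)
    (h : Subsingleton (Coh.HH X M q)) : Subsingleton (Coh.HH X N q) := by
  let ψ : Coh.toAb M ≅ Coh.toAb N := (SheafOfModules.toSheaf X.ringCatSheaf).mapIso φ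
  refine ⟨fun x y => ?_⟩
  have hx : x = Sheaf.H.map ψ.hom q (Sheaf.H.map ψ.inv q x) := by
    rw [← Sheaf.H.map_comp_apply, Iso.inv_hom_id, Sheaf.H.map_id_apply]
  have hy : y = Sheaf.H.map ψ.hom q (Sheaf.H.map ψ.inv q y) := by
    rw [← Sheaf.H.map_comp_apply, Iso.inv_hom_id, Sheaf.H.map_id_apply]
  rw [hx, hy, Subsingleton.elim (Sheaf.H.map ψ.inv q x) (Sheaf.H.map ψ.inv q y)]

/-- `F ⊗ -` as a functor. -/
noncomputable def tensLF (F : X.Modules) : X.Modules ⥤ X.Modules :=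
  (ModSite.tensorBi X.sheaf).obj F

theorem tensLF_obj (F M : X.Modules) : (tensLF F).obj M = CohB1.tensorMod F M := rfl

section Pn

variable (k : Type u) [Field k] (n : ℕ)

theorem nonempty_twist_mul (a b : ℤ) :
    Nonempty (CohB1.tensorMod (Twist.twistProjSpace n k a) (Twist.twistProjSpace n k b) ≅
      Twist.twistProjSpace n k (a + b)) :=
  (Groth.Agent.S2352.result (CohB1.polyGrading n k)
    (Groth.Agent.Lib.Helper60.AutPn.hgen_poly n k)).2.1 a b

theorem nonempty_twist_twist_iso (F : (CohB1.ProjSpace n k).Modules) (a b : ℤ) :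
    Nonempty (CohB1.tensorMod (CohB1.tensorMod F (Twist.twistProjSpace n k a))
        (Twist.twistProjSpace n k b) ≅ CohB1.tensorMod F (Twist.twistProjSpace n k (a + b))) := by
  obtain ⟨e⟩ := nonempty_twist_mul k n a b
  have hOK : Groth.Agent.Lib.Lead.Inv.AssocOK F (Twist.twistProjSpace n k a)
      (Twist.twistProjSpace n k b) :=
    Groth.Agent.Lib.Lead.Inv.assocOK_of_mid_right
      (Groth.Agent.Lib.Helper60.AutPn.isInvertible_twist k n a)
      (Groth.Agent.Lib.Helper60.AutPn.isInvertible_twist k n b)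
  exact ⟨Groth.Agent.Lib.Lead.Inv.assocIso hOK ≪≫ (tensLF F).mapIso e⟩

theorem subsingleton_HH_twist_of_lt (F : (CohB1.ProjSpace n k).Modules)
    (hF : Coh.IsQCoh F) (d : ℤ) (i : ℕ) (hi : n < i) :
    Subsingleton (Coh.HH (CohB1.ProjSpace n k) (CohB1.tensorMod F (Twist.twistProjSpace n k d)) i) := by
  haveI : F.IsQuasicoherent := hF
  haveI : Coh.IsQCoh (CohB1.tensorMod F (Twist.twistProjSpace n k d)) :=
    Groth.Agent.Lib.Lead.Inv.isQuasicoherent_tensorMod_right F
      (Groth.Agent.Lib.Helper60.AutPn.isInvertible_twist k n d)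
  exact Groth.Agent.S0022.result n k _ i hi

end Pn

end Groth.Agent.Lib.Helper97.TwistExact
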