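import Groth.Agent.Lib.Helper97.DefoLoc6

/-!
# Local triviality of first-order deformations of a finite locally free module: main theorem
-/

set_option autoImplicit false
universe u
open CategoryTheory CategoryTheory.Limits AlgebraicGeometry TopologicalSpace Opposite

namespace Groth.Agent.Lib.Helper97.DefoLoc

open Groth.Agent.Lib.Helper35.Gen Groth.Agent.Lib.Helper35.AbSheaf
open Groth.Agent.Lib.Helper60.ProjUPLib Groth.Agent.Lib.Helper60.FrameLib
open DefoSh

variable {X : Scheme.{u}} {k : Type u} [Field k] [X.Over (Spec (CommRingCat.of k))] {E : X.Modules}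

theorem epsA_mul_self : epsA k * epsA k = 0 := by
  change (DualNumber.eps : DualNumber k) * DualNumber.eps = 0
  exact DualNumber.eps_mul_eps

theorem res_epsA : (ArtFun.Art.dual k k).res (epsA k) = 0 := by
  change TrivSqZeroExt.fst (DualNumber.eps : DualNumber k) = 0
  exact DualNumber.fst_eps

theorem act_eps_sq (D : DefoSh.Defo E (ArtFun.Art.dual k k)) :
    (D.act (epsA k) : D.sheaf ⟶ D.sheaf) ≫ D.act (epsA k) = 0 := by
  have h := map_mul D.act (epsA k) (epsA k)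
  rw [epsA_mul_self, map_zero, End.mul_def] at h
  exact h.symm

theorem trivDual_act_eps :
    ((DefoSh.Defo.trivDual k E).act (epsA k) : E ⊞ E ⟶ E ⊞ E) =
      (biprod.fst : E ⊞ E ⟶ E) ≫ biprod.inr :=
  DefoSh.dualAct_eps E

theorem key_eps {Y : Scheme.{u}} (R : X.Modules ⥤ Y.Modules) [R.Additive] (E M : X.Modules)
    (σ : R.obj E ⟶ R.obj M) (ε : M ⟶ M) (hε : ε ≫ ε = 0) :
    R.map ((biprod.fst : E ⊞ E ⟶ E) ≫ biprod.inr) ≫
        (R.map (biprod.fst : E ⊞ E ⟶ E) ≫ σ + R.map (biprod.snd : E ⊞ E ⟶ E) ≫ σ ≫ R.map ε) =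
      (R.map (biprod.fst : E ⊞ E ⟶ E) ≫ σ + R.map (biprod.snd : E ⊞ E ⟶ E) ≫ σ ≫ R.map ε) ≫
        R.map ε := by
  rw [Preadditive.comp_add, Preadditive.add_comp]
  have e1 : R.map ((biprod.fst : E ⊞ E ⟶ E) ≫ biprod.inr) ≫
      R.map (biprod.fst : E ⊞ E ⟶ E) ≫ σ = 0 := by
    rw [← Category.assoc, ← R.map_comp, Category.assoc, biprod.inr_fst, comp_zero,
      Functor.map_zero, zero_comp]
  have e2 : R.map ((biprod.fst : E ⊞ E ⟶ E) ≫ biprod.inr) ≫
      R.map (biprod.snd : E ⊞ E ⟶ E) ≫ σ ≫ R.map ε =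
      R.map (biprod.fst : E ⊞ E ⟶ E) ≫ σ ≫ R.map ε := by
    rw [← Category.assoc, ← R.map_comp, Category.assoc, biprod.inr_snd, Category.comp_id]
  have e3 : (R.map (biprod.snd : E ⊞ E ⟶ E) ≫ σ ≫ R.map ε) ≫ R.map ε = 0 := by
    rw [Category.assoc, Category.assoc, ← R.map_comp, hε, Functor.map_zero, comp_zero,
      comp_zero]
  rw [e1, e2, e3, zero_add, add_zero, Category.assoc]

theorem exists_local_triv (hE : FlatMod.IsFinLocFree E) (D : DefoSh.Defo E (ArtFun.Art.dual k k))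
    (x : X) :
    ∃ (U : X.Opens) (e : D.sheaf.restrict U.ι ≅ (DefoSh.Defo.trivDual k E).sheaf.restrict U.ι),
      x ∈ U ∧
      e.hom ≫ (Scheme.Modules.restrictFunctor U.ι).map (DefoSh.Defo.trivDual k E).π =
        (Scheme.Modules.restrictFunctor U.ι).map D.π ∧
      ∀ a : ArtFun.Art.dual k k, (Scheme.Modules.restrictFunctor U.ι).map (D.act a) ≫ e.hom =
        e.hom ≫ (Scheme.Modules.restrictFunctor U.ι).map ((DefoSh.Defo.trivDual k E).act a) := by
  obtain ⟨n, V, e, d, hxV, he, hd⟩ := exists_frame_with_lifts D.π x (D.surj x) hE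
  let R := Scheme.Modules.restrictFunctor V.ι
  let σ : E.restrict V.ι ⟶ D.sheaf.restrict V.ι := sigHom he D.sheaf d
  have hσ : σ ≫ R.map D.π = 𝟙 _ := by
    have h1 := sigHom_comp_restrict he D.π d
    have h2 : (fun i => (D.π.app V).hom (d i)) = e := funext hd
    rw [h2, sigHom_self] at h1
    exact h1
  let T := DefoSh.Defo.trivDual k E
  let τ : T.sheaf.restrict V.ι ⟶ D.sheaf.restrict V.ι :=
    R.map (biprod.fst : E ⊞ E ⟶ E) ≫ σ + R.map (biprod.snd : E ⊞ E ⟶ E) ≫ σ ≫ R.map (D.act (epsA k))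
  have hτπ : τ ≫ R.map D.π = R.map T.π := by
    change (R.map (biprod.fst : E ⊞ E ⟶ E) ≫ σ +
      R.map (biprod.snd : E ⊞ E ⟶ E) ≫ σ ≫ R.map (D.act (epsA k))) ≫ R.map D.π =
        R.map (biprod.fst : E ⊞ E ⟶ E)
    rw [Preadditive.add_comp, Category.assoc, hσ, Category.comp_id, Category.assoc, Category.assoc,
      ← R.map_comp, D.act_π (epsA k) res_epsA, Functor.map_zero, comp_zero, comp_zero, add_zero]
  have hτε : R.map (T.act (epsA k)) ≫ τ = τ ≫ R.map (D.act (epsA k)) := by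
    have h0 : (T.act (epsA k) : E ⊞ E ⟶ E ⊞ E) = (biprod.fst : E ⊞ E ⟶ E) ≫ biprod.inr :=
      trivDual_act_eps
    have h1 := key_eps R E D.sheaf σ (D.act (epsA k)) (act_eps_sq D)
    have h2 : R.map (T.act (epsA k) : E ⊞ E ⟶ E ⊞ E) =
        R.map ((biprod.fst : E ⊞ E ⟶ E) ≫ biprod.inr) := congrArg (fun f => R.map f) h0
    exact (congrArg (fun f => f ≫ (R.map (biprod.fst : E ⊞ E ⟶ E) ≫ σ +
      R.map (biprod.snd : E ⊞ E ⟶ E) ≫ σ ≫ R.map (D.act (epsA k)))) h2).trans h1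
  have hτa := act_comm_of_eps T D V τ hτε
  have : IsIso τ := isIso_of_restrict T D V τ hτa hτπ
  refine ⟨V, (asIso τ).symm, hxV, ?_, ?_⟩
  · change inv τ ≫ R.map T.π = R.map D.π
    rw [IsIso.inv_comp_eq, hτπ]
  · intro a
    change R.map (D.act a) ≫ inv τ = inv τ ≫ R.map (T.act a)
    rw [IsIso.comp_inv_eq, Category.assoc, IsIso.eq_inv_comp, hτa a]

end Groth.Agent.Lib.Helper97.DefoLoc
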