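import Mathlib.RingTheory.Kaehler.Basic
import Mathlib.Algebra.Module.LinearMap.Index
import Mathlib.RingTheory.Flat.Equalizer
import Mathlib.LinearAlgebra.TensorProduct.RightExactness
import Mathlib.LinearAlgebra.Dimension.Constructions
import Mathlib.RingTheory.Flat.Basic

/-!
# Index of `L ⊗[K] Ω[K⁄k] → Ω[L⁄k]` and its behaviour in towers
-/

set_option autoImplicit false
universe u v

open TensorProduct KaehlerDifferential

namespace Groth.Agent.Lib.Helper97.Cartier

section LinAlg

variable {F L : Type*} [Field F] [Field L] [Algebra F L]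
variable {V W : Type*} [AddCommGroup V] [Module F V] [AddCommGroup W] [Module F W]

/-- kernel of a base changed map (field extension) -/
noncomputable def kerBaseChangeEquiv (f : V →ₗ[F] W) :
    L ⊗[F] LinearMap.ker f ≃ₗ[L] LinearMap.ker (f.baseChange L) :=
  LinearMap.tensorKerEquiv L L f

/-- cokernel of a base changed map -/
noncomputable def cokerBaseChangeEquiv (f : V →ₗ[F] W) :
    ((L ⊗[F] W) ⧸ LinearMap.range (f.baseChange L)) ≃ₗ[L] L ⊗[F] (W ⧸ LinearMap.range f) := by
  have hex : Function.Exact (f.baseChange L) ((LinearMap.range f).mkQ.baseChange L) :=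
    lTensor_exact L (LinearMap.exact_map_mkQ_range f) (Submodule.mkQ_surjective _)
  have hsurj : Function.Surjective ((LinearMap.range f).mkQ.baseChange L) :=
    LinearMap.lTensor_surjective L (Submodule.mkQ_surjective _)
  exact hex.linearEquivOfSurjective hsurj

lemma finite_ker_baseChange (f : V →ₗ[F] W) [Module.Finite F (LinearMap.ker f)] :
    Module.Finite L (LinearMap.ker (f.baseChange L)) :=
  Module.Finite.equiv (kerBaseChangeEquiv f)

lemma finite_coker_baseChange (f : V →ₗ[F] W) [Module.Finite F (W ⧸ LinearMap.range f)] :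
    Module.Finite L ((L ⊗[F] W) ⧸ LinearMap.range (f.baseChange L)) :=
  Module.Finite.equiv (cokerBaseChangeEquiv f).symm

lemma index_baseChange (f : V →ₗ[F] W) : (f.baseChange L).index = f.index := by
  rw [LinearMap.index_eq_finrank_sub, LinearMap.index_eq_finrank_sub,
    ← (kerBaseChangeEquiv (L := L) f).finrank_eq, (cokerBaseChangeEquiv (L := L) f).finrank_eq,
    Module.finrank_baseChange, Module.finrank_baseChange]

end LinAlg

section Equiv

variable {L : Type*} [Field L] {U V W : Type*} [AddCommGroup U] [Module L U]
  [AddCommGroup V] [Module L V] [AddCommGroup W] [Module L W]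

/-- kernel of `f ∘ e` for an equivalence `e` -/
noncomputable def kerCompEquiv (f : V →ₗ[L] W) (e : U ≃ₗ[L] V) :
    LinearMap.ker (f ∘ₗ e.toLinearMap) ≃ₗ[L] LinearMap.ker f :=
  LinearEquiv.ofSubmodules e _ _ (by
    rw [LinearMap.ker_comp, Submodule.map_comap_eq_of_surjective e.surjective])

lemma range_comp_equiv (f : V →ₗ[L] W) (e : U ≃ₗ[L] V) :
    LinearMap.range (f ∘ₗ e.toLinearMap) = LinearMap.range f :=
  LinearMap.range_comp_of_range_eq_top _ (LinearEquiv.range e)

lemma index_comp_equiv (f : V →ₗ[L] W) (e : U ≃ₗ[L] V) :
    (f ∘ₗ e.toLinearMap).index = f.index := by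
  rw [LinearMap.index_eq_finrank_sub, LinearMap.index_eq_finrank_sub, range_comp_equiv,
    (kerCompEquiv f e).finrank_eq]

end Equiv


section Kaehler

variable (k : Type v) (K L : Type u) [CommRing k] [Field K] [Field L]
  [Algebra k K] [Algebra k L] [Algebra K L] [IsScalarTower k K L]

/-- The cokernel of `L ⊗[K] Ω[K⁄k] → Ω[L⁄k]` is `Ω[L⁄K]`. -/
noncomputable def cokerEquiv :
    (Ω[L⁄k] ⧸ LinearMap.range (mapBaseChange k K L)) ≃ₗ[L] Ω[L⁄K] :=
  (KaehlerDifferential.exact_mapBaseChange_map k K L).linearEquivOfSurjective
    (KaehlerDifferential.map_surjective k K L)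

/-- `L ⊗[K] Ω[K⁄k] → Ω[L⁄k]` has finite-dimensional kernel and cokernel. -/
structure Good : Prop where
  ker : Module.Finite L (LinearMap.ker (mapBaseChange k K L))
  coker : Module.Finite L (Ω[L⁄k] ⧸ LinearMap.range (mapBaseChange k K L))

/-- The Cartier index `rank Ω[L⁄K] - rank Υ_{L/K/k}`. -/
noncomputable def cind : ℤ := - (mapBaseChange k K L).index

lemma cind_eq : cind k K L =
    (Module.finrank L (Ω[L⁄K]) : ℤ) - Module.finrank L (LinearMap.ker (mapBaseChange k K L)) := by
  rw [cind, LinearMap.index_eq_finrank_sub, (cokerEquiv k K L).finrank_eq]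
  ring

variable {k K L}

lemma Good.finite_kaehler (h : Good k K L) : Module.Finite L (Ω[L⁄K]) :=
  have := h.coker
  Module.Finite.equiv (cokerEquiv k K L)

variable (k K L)

lemma good_of_bijective (h : Function.Bijective (mapBaseChange k K L)) : Good k K L := by
  constructor
  · rw [LinearMap.ker_eq_bot.mpr h.1]; infer_instance
  · rw [LinearMap.range_eq_top.mpr h.2]; infer_instance

lemma cind_of_bijective (h : Function.Bijective (mapBaseChange k K L)) : cind k K L = 0 := by
  rw [cind, show mapBaseChange k K L = (LinearEquiv.ofBijective _ h).toLinearMap from rfl,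
    LinearEquiv.index_eq_zero, neg_zero]

section Tower

variable (F : Type u) [Field F] [Algebra k F] [Algebra K F] [Algebra F L]
  [IsScalarTower k K F] [IsScalarTower k F L] [IsScalarTower K F L]

lemma mapBaseChange_tower :
    (mapBaseChange k F L ∘ₗ (mapBaseChange k K F).baseChange L) =
      mapBaseChange k K L ∘ₗ
        (AlgebraTensorModule.cancelBaseChange K F L L (Ω[K⁄k])).toLinearMap := by
  apply LinearMap.ext
  intro z
  induction z using TensorProduct.induction_on with
  | zero => simp
  | add a b ha hb => rw [map_add, map_add, ha, hb]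
  | tmul l y =>
    induction y using TensorProduct.induction_on with
    | zero => simp
    | add a b ha hb => rw [tmul_add, map_add, map_add, ha, hb]
    | tmul c ω =>
      simp only [LinearMap.coe_comp, Function.comp_apply, LinearMap.baseChange_tmul,
        mapBaseChange_tmul, LinearEquiv.coe_coe, AlgebraTensorModule.cancelBaseChange_tmul,
        map_smul]
      have : ((KaehlerDifferential.map k k F L).restrictScalars K).comp
          (KaehlerDifferential.map k k K F) = KaehlerDifferential.map k k K L := by
        apply Derivation.liftKaehlerDifferential_unique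
        ext a
        simp only [Derivation.coe_comp, LinearMap.coe_comp, Function.comp_apply,
          LinearMap.coe_restrictScalars, KaehlerDifferential.map_D, Derivation.coeFn_coe,
          ← IsScalarTower.algebraMap_apply]
      have h2 : KaehlerDifferential.map k k F L (KaehlerDifferential.map k k K F ω) =
          KaehlerDifferential.map k k K L ω := LinearMap.congr_fun this ω
      rw [smul_assoc, h2, smul_comm]

variable {k K L} in
theorem Good.trans_aux (h1 : Good k K F) (h2 : Good k F L) :
    Good k K L ∧ cind k K L = cind k K F + cind k F L := by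
  have := h1.ker
  have := h1.coker
  have := h2.ker
  have := h2.coker
  have hfk : Module.Finite L (LinearMap.ker ((mapBaseChange k K F).baseChange L)) :=
    finite_ker_baseChange _
  have hfc : Module.Finite L
      ((L ⊗[F] Ω[F⁄k]) ⧸ LinearMap.range ((mapBaseChange k K F).baseChange L)) :=
    finite_coker_baseChange _
  have hcomp := mapBaseChange_tower k K L F
  have hidx : (mapBaseChange k F L ∘ₗ (mapBaseChange k K F).baseChange L).index =
      (mapBaseChange k F L).index + ((mapBaseChange k K F).baseChange L).index :=
    LinearMap.index_comp _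
  have hkfin : Module.Finite L
      (LinearMap.ker (mapBaseChange k F L ∘ₗ (mapBaseChange k K F).baseChange L)) := by
    rw [LinearMap.ker_comp]; infer_instance
  have hcfin : Module.Finite L
      (Ω[L⁄k] ⧸ LinearMap.range (mapBaseChange k F L ∘ₗ (mapBaseChange k K F).baseChange L)) := by
    rw [LinearMap.range_comp]; infer_instance
  rw [hcomp] at hidx hkfin hcfin
  rw [index_comp_equiv, index_baseChange] at hidx
  rw [range_comp_equiv] at hcfin
  have hk2 : Module.Finite L (LinearMap.ker (mapBaseChange k K L)) :=
    Module.Finite.equiv (kerCompEquiv (mapBaseChange k K L)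
      (AlgebraTensorModule.cancelBaseChange K F L L (Ω[K⁄k])))
  refine ⟨⟨hk2, hcfin⟩, ?_⟩
  rw [cind, cind, cind, hidx]
  ring

variable {k K L} in
theorem Good.trans (h1 : Good k K F) (h2 : Good k F L) : Good k K L :=
  (Good.trans_aux F h1 h2).1

variable {k K L} in
theorem cind_trans (h1 : Good k K F) (h2 : Good k F L) :
    cind k K L = cind k K F + cind k F L :=
  (Good.trans_aux F h1 h2).2

end Tower

end Kaehler

end Groth.Agent.Lib.Helper97.Cartier
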