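import Groth.Agent.Lib.Helper97.CartierSimple
import Groth.Agent.Lib.Helper97.CartierIndex
import Groth.Agent.Lib.Helper97.KaehlerColim
import Groth.Agent.S14436
import Mathlib.RingTheory.Etale.Kaehler
import Mathlib.RingTheory.Smooth.Field
import Mathlib.RingTheory.AlgebraicIndependent.TranscendenceBasis
import Mathlib.RingTheory.AlgebraicIndependent.Transcendental
import Mathlib.FieldTheory.IntermediateField.Adjoin.Basic

/-!
# Cartier's equality `rank Ω[L⁄K] - rank Υ_{L/K/k} = trdeg_K L` (and inequality)
-/

set_option autoImplicit false
universe u v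

open TensorProduct KaehlerDifferential Polynomial

namespace Groth.Agent.Lib.Helper97.Cartier

/-- The hypothesis on the base ring `k` under which Cartier's equality holds: over every field
of characteristic `p`, elements with vanishing differential are `p`-th powers. (True for `k = ℤ`.) -/
def PthPowerHyp (k : Type v) [CommRing k] : Prop :=
  ∀ (E : Type u) [Field E] [Algebra k E] (p : ℕ) [Fact p.Prime] [CharP E p] (a : E),
    D k E a = 0 → ∃ b : E, b ^ p = a

variable (k : Type v) (K L : Type u) [CommRing k] [Field K] [Field L]
  [Algebra k K] [Algebra k L] [Algebra K L] [IsScalarTower k K L]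

structure CartierData : Prop where
  good : Good k K L
  trdeg_lt : Algebra.trdeg K L < Cardinal.aleph0
  le : (Cardinal.toNat (Algebra.trdeg K L) : ℤ) ≤ cind k K L
  eq : PthPowerHyp.{u} k → cind k K L = Cardinal.toNat (Algebra.trdeg K L)

variable {k K L}

theorem CartierData.trans (F : Type u) [Field F] [Algebra k F] [Algebra K F] [Algebra F L]
    [IsScalarTower k K F] [IsScalarTower k F L] [IsScalarTower K F L]
    (h1 : CartierData k K F) (h2 : CartierData k F L) : CartierData k K L := by
  have htr : Algebra.trdeg K F + Algebra.trdeg F L = Algebra.trdeg K L := trdeg_add_eq K F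
  have hnat : Cardinal.toNat (Algebra.trdeg K L) =
      Cardinal.toNat (Algebra.trdeg K F) + Cardinal.toNat (Algebra.trdeg F L) := by
    rw [← htr, Cardinal.toNat_add h1.trdeg_lt h2.trdeg_lt]
  have hc := cind_trans F h1.good h2.good
  refine ⟨h1.good.trans F h2.good, ?_, ?_, ?_⟩
  · rw [← htr]; exact Cardinal.add_lt_aleph0 h1.trdeg_lt h2.trdeg_lt
  · rw [hc, hnat]; push_cast; exact add_le_add h1.le h2.le
  · intro H
    rw [hc, hnat, h1.eq H, h2.eq H]; push_cast; rfl

variable (k K L)

/-- Separable algebraic extensions: index `0`. -/
theorem cartierData_of_isSeparable [Algebra.IsSeparable K L] : CartierData k K L := by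
  have : Algebra.FormallyEtale K L := Algebra.FormallyEtale.of_isSeparable K L
  have hbij : Function.Bijective (mapBaseChange k K L) :=
    (tensorKaehlerEquivOfFormallyEtale k K L).bijective
  have htr : Algebra.trdeg K L = 0 := trdeg_eq_zero
  refine ⟨good_of_bijective k K L hbij, ?_, ?_, ?_⟩
  · rw [htr]; exact Cardinal.aleph0_pos
  · rw [htr, cind_of_bijective k K L hbij]; simp
  · intro _; rw [htr, cind_of_bijective k K L hbij]; simp

omit [Algebra k K] [Algebra k L] [IsScalarTower k K L] in
/-- A field generated by `x` is algebraic over the subalgebra generated by `x`. -/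
lemma isAlgebraic_adjoin_of_adjoin_eq_top (x : L) (hgen : IntermediateField.adjoin K {x} = ⊤) :
    Algebra.IsAlgebraic (Algebra.adjoin K {x}) L := by
  constructor
  intro y
  have hy : y ∈ IntermediateField.adjoin K {x} := by rw [hgen]; trivial
  obtain ⟨r, s, rfl⟩ := (IntermediateField.mem_adjoin_simple_iff K y).mp hy
  by_cases hs : aeval x s = 0
  · rw [hs, div_zero]; exact isAlgebraic_zero
  · have hr' : aeval x r ∈ Algebra.adjoin K {x} := by
      rw [Algebra.adjoin_singleton_eq_range_aeval]; exact ⟨r, rfl⟩
    have hs' : aeval x s ∈ Algebra.adjoin K {x} := by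
      rw [Algebra.adjoin_singleton_eq_range_aeval]; exact ⟨s, rfl⟩
    refine ⟨C (⟨aeval x s, hs'⟩ : Algebra.adjoin K {x}) * X - C ⟨aeval x r, hr'⟩, ?_, ?_⟩
    · intro h
      have := congrArg (fun q => q.coeff 1) h
      simp only [coeff_sub, coeff_C_mul, coeff_X_one, mul_one, coeff_C_succ, sub_zero,
        coeff_zero] at this
      exact hs (congrArg Subtype.val this)
    · simp only [map_sub, map_mul, aeval_C, aeval_X]
      change aeval x s * (aeval x r / aeval x s) - aeval x r = 0
      field_simp
      ring

/-- Simple transcendental extensions: index `1`. -/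
theorem cartierData_of_transcendental (x : L) (hx : Transcendental K x)
    (hgen : IntermediateField.adjoin K {x} = ⊤) : CartierData k K L := by
  have hind : AlgebraicIndependent K (fun _ : Fin 1 => x) :=
    algebraicIndependent_unique_type_iff.mpr hx
  have hrange : Set.range (fun _ : Fin 1 => x) = {x} := Set.range_const
  have hsm : Algebra.FormallySmooth K L :=
    .of_algebraicIndependent hind (by rw [hrange]; exact hgen)
  have hinj : Function.Injective (mapBaseChange k K L) :=
    KaehlerColim.mapBaseChange_injective_of_formallySmooth
  have halg : Algebra.IsAlgebraic (Algebra.adjoin K (Set.range (fun _ : Fin 1 => x))) L := by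
    rw [hrange]; exact isAlgebraic_adjoin_of_adjoin_eq_top K L x hgen
  have hbasis : IsTranscendenceBasis K (fun _ : Fin 1 => x) :=
    hind.isTranscendenceBasis_iff_isAlgebraic.mpr halg
  have hsep : Algebra.IsSeparable
      ↥(IntermediateField.adjoin K (Set.range (fun _ : Fin 1 => x))) L := by
    constructor
    intro y
    have hy : y ∈ IntermediateField.adjoin K (Set.range (fun _ : Fin 1 => x)) := by
      rw [hrange, hgen]; trivial
    exact isSeparable_algebraMap
      (⟨y, hy⟩ : ↥(IntermediateField.adjoin K (Set.range (fun _ : Fin 1 => x))))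
  have hrank : Module.finrank L (Ω[L⁄K]) = 1 :=
    Groth.Agent.S14436.result K L ⟨{x}, by simpa using hgen⟩ 1 _ hbasis hsep
  have htr : Algebra.trdeg K L = 1 := by
    have := hbasis.lift_cardinalMk_eq_trdeg
    simpa using this.symm
  have hess : Algebra.EssFiniteType K L :=
    IntermediateField.fg_top_iff.mp ⟨{x}, by simpa using hgen⟩
  have hker : LinearMap.ker (mapBaseChange k K L) = ⊥ := LinearMap.ker_eq_bot.mpr hinj
  have hgood : Good k K L := by
    constructor
    · rw [hker]; infer_instance
    · exact Module.Finite.equiv (cokerEquiv k K L).symm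
  have hc : cind k K L = 1 := by
    rw [cind_eq, hrank, hker, finrank_bot]; simp
  refine ⟨hgood, ?_, ?_, ?_⟩
  · rw [htr]; exact Cardinal.one_lt_aleph0
  · rw [htr, hc]; simp
  · intro _; rw [htr, hc]; simp

/-- Simple algebraic extensions `L = K[x]`: index `0` or `1`, and `0` under `PthPowerHyp`. -/
theorem cartierData_of_isIntegral (x : L) (hx : IsIntegral K x)
    (hgen : Algebra.adjoin K {x} = ⊤) : CartierData k K L := by
  by_cases hsep : IsSeparable K x
  · have : Algebra.IsSeparable K L := by
      constructor
      intro y
      have h1 : x ∈ separableClosure K L := mem_separableClosure_iff.mpr hsep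
      have h2 : Algebra.adjoin K {x} ≤ (separableClosure K L).toSubalgebra :=
        Algebra.adjoin_le (by simpa using h1)
      rw [hgen] at h2
      exact mem_separableClosure_iff.mp (h2 (Algebra.mem_top (x := y)))
    exact cartierData_of_isSeparable k K L
  · have hall : ∀ y : L, IsIntegral K y := by
      intro y
      have h2 := adjoin_le_integralClosure hx
      rw [hgen] at h2
      exact h2 (Algebra.mem_top (x := y))
    have : Algebra.IsAlgebraic K L := ⟨fun y => (hall y).isAlgebraic⟩
    have htr : Algebra.trdeg K L = 0 := trdeg_eq_zero
    have hirr : Irreducible (minpoly K x) := minpoly.irreducible hx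
    have hP' : derivative (minpoly K x) = 0 := by
      by_contra h
      exact hsep ((separable_iff_derivative_ne_zero hirr).mpr h)
    have hrank : Module.finrank L (Ω[L⁄K]) = 1 := finrank_kaehler_eq_one x hgen hsep
    have hle := ker_mapBaseChange_le_span' (k := k) x hgen
    have hmem := coeffD_mem_ker (k := k) x (minpoly K x) (minpoly.aeval K x) hP'
    have hkfin : Module.Finite L (LinearMap.ker (mapBaseChange k K L)) :=
      Submodule.finiteDimensional_of_le hle
    have hk1 : Module.finrank L (LinearMap.ker (mapBaseChange k K L)) ≤ 1 := by
      refine (Submodule.finrank_mono hle).trans ?_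
      simpa using finrank_span_le_card (R := L)
        ({coeffD (k := k) x (minpoly K x)} : Set (L ⊗[K] Ω[K⁄k]))
    have := finiteType_of_adjoin x hgen
    have hgood : Good k K L := ⟨hkfin, Module.Finite.equiv (cokerEquiv k K L).symm⟩
    have hc := cind_eq k K L
    rw [hrank] at hc
    refine ⟨hgood, ?_, ?_, ?_⟩
    · rw [htr]; exact Cardinal.aleph0_pos
    · rw [htr, hc]; simp only [map_zero, Nat.cast_zero, Nat.cast_one]; omega
    · intro H
      obtain ⟨p, hp⟩ := CharP.exists K
      rcases CharP.char_is_prime_or_zero K p with hpp | hp0
      · have : Fact p.Prime := ⟨hpp⟩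
        obtain ⟨i, hi⟩ := exists_coeff_D_ne_zero (k := k) p (H K p) (minpoly K x) hirr hP'
        have hne := coeffD_ne_zero (k := k) x hx i hi
        have heq : LinearMap.ker (mapBaseChange k K L) =
            Submodule.span L {coeffD (k := k) x (minpoly K x)} :=
          le_antisymm hle ((Submodule.span_singleton_le_iff_mem _ _).mpr hmem)
        rw [heq, finrank_span_singleton hne] at hc
        rw [htr, hc]; simp
      · subst hp0
        have : CharZero K := CharP.charP_to_charZero K
        exact absurd hirr.separable hsep

omit [Algebra k K] [Algebra k L] [IsScalarTower k K L] in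
lemma adjoin_gen_eq_top (a : L) :
    IntermediateField.adjoin K {IntermediateField.AdjoinSimple.gen K a} = ⊤ := by
  rw [eq_top_iff]
  rintro ⟨y, hy⟩ -
  obtain ⟨r, s, hrs⟩ := (IntermediateField.mem_adjoin_simple_iff K y).mp hy
  refine (IntermediateField.mem_adjoin_simple_iff K _).mpr ⟨r, s, ?_⟩
  apply Subtype.ext
  simp only [IntermediateField.coe_div, IntermediateField.AdjoinSimple.coe_aeval_gen_apply]
  exact hrs

/-- The simple extension `K⟮a⟯` of `K` inside `L`. -/
theorem cartierData_adjoin_simple (a : L) :
    CartierData k K ↥(IntermediateField.adjoin K {a}) := by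
  by_cases ha : IsIntegral K a
  · have hx : IsIntegral K (IntermediateField.AdjoinSimple.gen K a) :=
      (IntermediateField.AdjoinSimple.isIntegral_gen K a).mpr ha
    have hgen : Algebra.adjoin K {IntermediateField.AdjoinSimple.gen K a} = ⊤ := by
      have := (IntermediateField.adjoin.powerBasis ha).adjoin_gen_eq_top
      rwa [IntermediateField.adjoin.powerBasis_gen] at this
    exact cartierData_of_isIntegral k K _ _ hx hgen
  · have hx : Transcendental K (IntermediateField.AdjoinSimple.gen K a) := by
      intro h
      apply ha
      rw [← IntermediateField.AdjoinSimple.isIntegral_gen K a]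
      exact h.isIntegral
    exact cartierData_of_transcendental k K _ _ hx (adjoin_gen_eq_top K L a)

section Induct

variable (k : Type v) [CommRing k] (L : Type u) [Field L] [Algebra k L]

theorem cartierData_of_adjoin_finset_eq_top (s : Finset L) :
    ∀ (K : Type u) [Field K] [Algebra k K] [Algebra K L] [IsScalarTower k K L],
      IntermediateField.adjoin K (s : Set L) = ⊤ → CartierData k K L := by
  classical
  induction s using Finset.induction_on with
  | empty =>
    intro K _ _ _ _ h
    rw [Finset.coe_empty, IntermediateField.adjoin_empty] at h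
    have : Algebra.IsSeparable K L := by
      constructor
      intro y
      have hy : y ∈ (⊥ : IntermediateField K L) := by rw [h]; trivial
      obtain ⟨c, rfl⟩ := IntermediateField.mem_bot.mp hy
      exact isSeparable_algebraMap c
    exact cartierData_of_isSeparable k K L
  | insert a s ha ih =>
    intro K _ _ _ _ h
    have hE : IntermediateField.adjoin (IntermediateField.adjoin K {a}) (s : Set L) = ⊤ := by
      rw [← IntermediateField.restrictScalars_eq_top_iff (K := K),
        IntermediateField.adjoin_adjoin_left, ← h, Finset.coe_insert, Set.singleton_union]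
    have : IsScalarTower k ↥(IntermediateField.adjoin K {a}) L :=
      IsScalarTower.of_algebraMap_eq fun c => rfl
    have h2 : CartierData k (IntermediateField.adjoin K {a}) L :=
      ih (IntermediateField.adjoin K {a}) hE
    have h1 : CartierData k K (IntermediateField.adjoin K {a}) :=
      cartierData_adjoin_simple k K L a
    exact h1.trans (IntermediateField.adjoin K {a}) h2

theorem cartierData_of_essFiniteType (K : Type u) [Field K] [Algebra k K] [Algebra K L]
    [IsScalarTower k K L] [Algebra.EssFiniteType K L] : CartierData k K L := by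
  obtain ⟨s, hs⟩ := IntermediateField.fg_top_iff.mpr (inferInstance : Algebra.EssFiniteType K L)
  exact cartierData_of_adjoin_finset_eq_top k L s K hs

end Induct

end Groth.Agent.Lib.Helper97.Cartier
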