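import Groth.Agent.S16952
import Groth.Agent.S0028

/-!
# helper97: the Leray edge map `H^p(Y, f_*G) → H^p(X, G)` is linear over the base, and bijective for
affine `f` and quasi-coherent `G`; hence `finrank` agrees.
-/

set_option autoImplicit false
universe u

open CategoryTheory CategoryTheory.Limits AlgebraicGeometry TopologicalSpace Opposite

namespace Groth.Agent.Lib.Helper97.PushEdgeLin

variable {X Y : Scheme.{u}} (f : X ⟶ Y)

/-- the edge map is bijective for affine morphisms and quasi-coherent modules, in all degrees -/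
theorem pushEdge_bijective [IsAffineHom f] (F : X.Modules) [Coh.IsQCoh F] (p : ℕ) :
    Function.Bijective (CohPull.pushEdge f F p) := by
  have hA : ∀ q : ℕ, CategoryTheory.Limits.IsZero ((CohTop.Rpush f.base (q + 1)).obj (Coh.toAb F)) :=
    fun q => Groth.Agent.S0028.result f F (q + 1) (Nat.succ_pos q)
  have hb := Groth.Agent.S16952.edgeAb_bijective f.base (Coh.toAb F) hA p
  have heq : ⇑(CohPull.pushEdge f F p) = Groth.Agent.S16952.edgeAb f.base (Coh.toAb F) p :=
    funext (Groth.Agent.S16952.pushEdge_eq_edgeAb f F p)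
  rw [heq]
  exact hb

/-- multiplication by a global function on `f_* G` is `f_*` of multiplication by its pullback -/
theorem smulAb_push (G : X.Modules) (r : Coh.Γtop Y) :
    Coh.smulAb ((Scheme.Modules.pushforward f).obj G) r =
      (CohTop.push f.base).map (Coh.smulAb G (f.appTop.hom r)) := by
  ext U m
  refine (Coh.smulAb_app _ r U m).trans ?_
  refine Eq.trans ?_ (Coh.smulAb_app G (f.appTop.hom r) (op (f ⁻¹ᵁ U.unop)) m).symm
  have key : (Coh.resTop X (op (f ⁻¹ᵁ U.unop))) (f.appTop.hom r) =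
      (f.app U.unop).hom (Coh.resTop Y U r) := by
    have := f.naturality (homOfLE (le_top (a := U.unop))).op
    exact (congr($this r)).symm
  refine Eq.trans ?_ (congrArg (fun s => @HSMul.hSMul (X.ringCatSheaf.obj.obj (op (f ⁻¹ᵁ U.unop)))
    (G.val.obj (op (f ⁻¹ᵁ U.unop))) (G.val.obj (op (f ⁻¹ᵁ U.unop))) _ s m) key).symm
  rfl

section Lin

variable (A : Type u) [CommRing A] [X.Over (Spec (CommRingCat.of A))]
  [Y.Over (Spec (CommRingCat.of A))]

theorem toGlobal_comp (hf : f ≫ (Y ↘ Spec (CommRingCat.of A)) = X ↘ Spec (CommRingCat.of A))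
    (a : A) : f.appTop.hom (Coh.toGlobal (Y ↘ Spec (CommRingCat.of A)) a) =
      Coh.toGlobal (X ↘ Spec (CommRingCat.of A)) a := by
  unfold Coh.toGlobal
  rw [← hf]
  rfl

/-- the edge map is linear over the base ring -/
theorem pushEdge_smul (hf : f ≫ (Y ↘ Spec (CommRingCat.of A)) = X ↘ Spec (CommRingCat.of A))
    (G : X.Modules) (p : ℕ) (a : A) (y : Coh.HH Y ((Scheme.Modules.pushforward f).obj G) p) :
    CohPull.pushEdge f G p (a • y) = a • CohPull.pushEdge f G p y := by
  rw [Groth.Agent.S16952.pushEdge_eq_edgeAb, Groth.Agent.S16952.pushEdge_eq_edgeAb]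
  have h1 : a • y = Sheaf.H.map (Coh.smulAb ((Scheme.Modules.pushforward f).obj G)
      (Coh.toGlobal (Y ↘ Spec (CommRingCat.of A)) a)) p y := rfl
  have h2 : ∀ z : Coh.HH X G p, a • z =
      Sheaf.H.map (Coh.smulAb G (Coh.toGlobal (X ↘ Spec (CommRingCat.of A)) a)) p z := fun _ => rfl
  rw [h1, h2, smulAb_push, toGlobal_comp f A hf]
  have h4 := Sheaf.H.map_apply ((CohTop.push f.base).map
    (Coh.smulAb G (Coh.toGlobal (X ↘ Spec (CommRingCat.of A)) a))) (n := p) y
  have h5 := Sheaf.H.map_apply (Coh.smulAb G (Coh.toGlobal (X ↘ Spec (CommRingCat.of A)) a)) (n := p)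
    (Groth.Agent.S16952.edgeAb f.base (Coh.toAb G) p y)
  have h6 := Groth.Agent.Lib.Helper26.ExtEdge.edge_naturality (CohPull.invPushAdj f.base)
    (CohPull.oneTo f.base) (Coh.smulAb G (Coh.toGlobal (X ↘ Spec (CommRingCat.of A)) a)) p y
  exact (congrArg (Groth.Agent.S16952.edgeAb f.base (Coh.toAb G) p) h4).trans (h6.trans h5.symm)

/-- the edge map as a linear equivalence -/
noncomputable def linEquiv [IsAffineHom f]
    (hf : f ≫ (Y ↘ Spec (CommRingCat.of A)) = X ↘ Spec (CommRingCat.of A))
    (G : X.Modules) [Coh.IsQCoh G] (p : ℕ) :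
    Coh.HH Y ((Scheme.Modules.pushforward f).obj G) p ≃ₗ[A] Coh.HH X G p :=
  LinearEquiv.ofBijective
    { toFun := CohPull.pushEdge f G p
      map_add' := map_add _
      map_smul' := fun a y => pushEdge_smul f A hf G p a y }
    (pushEdge_bijective f G p)

theorem finrank_eq [IsAffineHom f]
    (hf : f ≫ (Y ↘ Spec (CommRingCat.of A)) = X ↘ Spec (CommRingCat.of A))
    (G : X.Modules) [Coh.IsQCoh G] (p : ℕ) :
    Module.finrank A (Coh.HH X G p) =
      Module.finrank A (Coh.HH Y ((Scheme.Modules.pushforward f).obj G) p) :=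
  (linEquiv f A hf G p).finrank_eq.symm

end Lin

end Groth.Agent.Lib.Helper97.PushEdgeLin
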