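import Groth.Agent.Lib.Helper26.ProjFormula2
import Groth.Agent.Lib.Helper60.ZeroSch1

/-!
# helper97: projection formula for a closed immersion and an invertible module (sub-lemma T4 for
helper63's S14736 / S14740)
-/

set_option autoImplicit false
universe u

open CategoryTheory CategoryTheory.Limits AlgebraicGeometry

namespace Groth.Agent.Lib.Helper97.PruferSerreT4

/-- projection formula `ι_*(F ⊗ ι^*L) ≅ ι_*F ⊗ L` for an invertible module `L`
(holds for any morphism `ι`; stated with the hypotheses requested) -/
theorem projection {X P : Scheme.{u}} (ι : X ⟶ P) [IsClosedImmersion ι] (F : X.Modules)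
    [F.IsQuasicoherent] (L : P.Modules) (hL : PicF.IsInvertible L) :
    Nonempty ((Scheme.Modules.pushforward ι).obj
        (CohB1.tensorMod F ((Scheme.Modules.pullback ι).obj L)) ≅
      CohB1.tensorMod ((Scheme.Modules.pushforward ι).obj F) L) := by
  have hE : FlatMod.IsFinLocFree L :=
    Groth.Agent.Lib.Helper60.ZeroSch.isFinLocFree_of_isInvertible L hL
  have hiso : IsIso (Groth.Agent.Lib.Helper26.ProjFormula.theta ι F L) :=
    Groth.Agent.Lib.Helper26.ProjFormula.isIso_theta ι F L hE
  exact ⟨(asIso (Groth.Agent.Lib.Helper26.ProjFormula.theta ι F L)).symm⟩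

/-- the same for an arbitrary morphism -/
theorem projection' {X P : Scheme.{u}} (f : X ⟶ P) (F : X.Modules)
    (L : P.Modules) (hL : PicF.IsInvertible L) :
    Nonempty ((Scheme.Modules.pushforward f).obj
        (CohB1.tensorMod F ((Scheme.Modules.pullback f).obj L)) ≅
      CohB1.tensorMod ((Scheme.Modules.pushforward f).obj F) L) := by
  have hE : FlatMod.IsFinLocFree L :=
    Groth.Agent.Lib.Helper60.ZeroSch.isFinLocFree_of_isInvertible L hL
  have hiso : IsIso (Groth.Agent.Lib.Helper26.ProjFormula.theta f F L) :=
    Groth.Agent.Lib.Helper26.ProjFormula.isIso_theta f F L hE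
  exact ⟨(asIso (Groth.Agent.Lib.Helper26.ProjFormula.theta f F L)).symm⟩

end Groth.Agent.Lib.Helper97.PruferSerreT4
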