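import Groth.Agent.Lib.Helper54.PruferSerreT3
import Groth.Agent.Lib.Helper97.PruferSerreT4
import Groth.Agent.Lib.Helper97.TwistExact2
import Groth.Agent.Lib.Helper93.SerreVan
import Groth.Agent.Lib.Helper64.CohPush
import Groth.Agent.Lib.Helper48.FieldFree
import Groth.Agent.S3224
import Groth.Agent.S1647
import Groth.Prelude.Def_Pic13

/-!
# helper97: Castelnuovo–Mumford regularity on a closed subscheme of `P^n_k`, by pushing forward
-/

set_option autoImplicit false
universe u

open CategoryTheory CategoryTheory.Limits AlgebraicGeometry TopologicalSpace Opposite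

namespace Groth.Agent.Lib.Helper97.RegClosed

section General

variable {X P : Scheme.{u}} (i : X ⟶ P) [IsClosedImmersion i]

/-- pushforward along a closed immersion is faithful -/
theorem pushforward_map_injective {G G' : X.Modules} (φ ψ : G ⟶ G')
    (h : (Scheme.Modules.pushforward i).map φ = (Scheme.Modules.pushforward i).map ψ) : φ = ψ := by
  ext W s
  obtain ⟨U₀, hU₀, hUW⟩ := i.isEmbedding.isInducing.isOpen_iff.mp W.2
  have hW : i ⁻¹ᵁ (⟨U₀, hU₀⟩ : P.Opens) = W := Opens.ext hUW
  subst hW
  have := congr(Scheme.Modules.Hom.app $h ⟨U₀, hU₀⟩)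
  exact congr($this s)

/-- global generation descends along the pushforward of a closed immersion -/
theorem isGloballyGenerated_of_pushforward (M : X.Modules)
    (h : Curv2.IsGloballyGenerated ((Scheme.Modules.pushforward i).obj M)) :
    Curv2.IsGloballyGenerated M := by
  obtain ⟨ι, p, hp⟩ := h
  let adj := Scheme.Modules.pullbackPushforwardAdjunction i
  let p' : (Scheme.Modules.pullback i).obj (SheafOfModules.free ι : P.Modules) ⟶ M :=
    (adj.homEquiv _ _).symm p
  have hp' : Epi p' := by
    constructor
    intro N g h hgh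
    have h1 : p ≫ (Scheme.Modules.pushforward i).map g =
        p ≫ (Scheme.Modules.pushforward i).map h := by
      have h2 := congrArg (adj.homEquiv _ _) hgh
      rw [Adjunction.homEquiv_naturality_right, Adjunction.homEquiv_naturality_right] at h2
      have hp'' : adj.homEquiv _ _ p' = p := Equiv.apply_symm_apply _ _
      rw [hp''] at h2
      exact h2
    exact pushforward_map_injective i g h ((cancel_epi p).1 h1)
  exact ⟨ι, (Groth.Agent.Lib.Helper48.FieldFree.pullbackFreeIso i ι).inv ≫ p',
    epi_comp' inferInstance hp'⟩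

end General

section Pn

variable (k : Type u) [Field k] {n : ℕ} {X : Scheme.{u}} (i : X ⟶ CohB1.ProjSpace n k)
  [IsClosedImmersion i] (F : X.Modules)

/-- `H^q(X, F(d)) = 0 ↔ H^q(P^n, (i_*F)(d)) = 0` -/
theorem subsingleton_iff (d : ℤ) (q : ℕ) :
    Subsingleton (Coh.HH X (Pic13.twistOn k i F d) q) ↔
      Subsingleton (Coh.HH (CohB1.ProjSpace n k)
        (CohB1.tensorMod ((Scheme.Modules.pushforward i).obj F) (Twist.twistProjSpace n k d)) q) := by
  obtain ⟨e⟩ := Groth.Agent.Lib.Helper54.PruferSerreT3.hEquiv i (Pic13.twistOn k i F d) q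
  obtain ⟨φ⟩ := Groth.Agent.Lib.Helper97.PruferSerreT4.projection' i F (Twist.twistProjSpace n k d)
    (Groth.Agent.Lib.Helper93.SerreVan.isInvertible_twist n k d)
  constructor
  · intro h
    have h1 : Subsingleton (Coh.HH (CohB1.ProjSpace n k)
        ((Scheme.Modules.pushforward i).obj (Pic13.twistOn k i F d)) q) :=
      e.symm.toEquiv.subsingleton
    exact Groth.Agent.Lib.Helper97.TwistExact.subsingleton_HH_of_iso' φ q h1
  · intro h
    have h1 : Subsingleton (Coh.HH (CohB1.ProjSpace n k)
        ((Scheme.Modules.pushforward i).obj (Pic13.twistOn k i F d)) q) :=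
      Groth.Agent.Lib.Helper97.TwistExact.subsingleton_HH_of_iso' φ.symm q h
    exact e.toEquiv.subsingleton

/-- the main result: regularity propagates and gives global generation -/
theorem main (hF : Coh.IsCoh F) (m : ℤ) (h : Pic13.IsMRegular k i F m) (n' : ℤ) (hn' : m ≤ n') :
    Pic13.IsMRegular k i F n' ∧ Curv2.IsGloballyGenerated (Pic13.twistOn k i F n') := by
  have hG : Coh.IsCoh ((Scheme.Modules.pushforward i).obj F) :=
    Groth.Agent.Lib.Helper64.CohPush.isCoh_pushforward_of_isFinite i F hF
  have hreg : ∀ q : ℕ, 1 ≤ q → Subsingleton (Coh.HH (CohB1.ProjSpace n k)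
      (CohB1.tensorMod ((Scheme.Modules.pushforward i).obj F)
        (Twist.twistProjSpace n k (m - q))) q) :=
    fun q hq => (subsingleton_iff k i F (m - q) q).1 (h q hq)
  have hall := Groth.Agent.S3224.result k n ((Scheme.Modules.pushforward i).obj F) hG m hreg
  refine ⟨fun q hq => (subsingleton_iff k i F (n' - q) q).2 (hall q (n' - q) hq (by omega)), ?_⟩
  -- global generation
  have hreg' : Curv2.IsMRegular k n ((Scheme.Modules.pushforward i).obj F) n' :=
    fun q hq _ => hall q (n' - q) hq (by omega)
  have hgg := Groth.Agent.S1647.result k n ((Scheme.Modules.pushforward i).obj F) hG n' hreg'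
  obtain ⟨φ⟩ := Groth.Agent.Lib.Helper97.PruferSerreT4.projection' i F (Twist.twistProjSpace n k n')
    (Groth.Agent.Lib.Helper93.SerreVan.isInvertible_twist n k n')
  apply isGloballyGenerated_of_pushforward i
  obtain ⟨ι, p, hp⟩ := hgg
  exact ⟨ι, p ≫ φ.inv, epi_comp' hp inferInstance⟩

end Pn

end Groth.Agent.Lib.Helper97.RegClosed
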