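import Groth.Agent.Lib.Helper60.Au4
import Groth.Agent.Lib.Helper60.ZeroSch1
import Groth.Agent.Lib.Helper2.DCohFlat
import Groth.Agent.Lib.Helper12.FlatBridge
import Groth.Agent.S0009
import Groth.Agent.Lib.Helper42.Flat2

/-!
# Exactness of twisting by a finite locally free module; Castelnuovo–Mumford regularity helpers

* `twistF L : X.Modules ⥤ X.Modules`, `M ↦ CohB1.tensorMod M L` (definitionally).
* `shortExact_twist`: for `L` finite locally free, `twistF L` maps short exact sequences to short exact sequences.
* `subsingleton_HH_twist_mid`: vanishing of the middle cohomology of a twisted short exact sequence.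
-/

set_option autoImplicit false
universe u
open CategoryTheory CategoryTheory.Limits AlgebraicGeometry

namespace Groth.Agent.Lib.Helper97.TwistExact

variable {X : Scheme.{u}}

/-- `M ↦ M ⊗ L` as a functor. -/
noncomputable def twistF (L : X.Modules) : X.Modules ⥤ X.Modules :=
  (ModSite.tensorBi X.sheaf).flip.obj L

theorem twistF_obj (L M : X.Modules) : (twistF L).obj M = CohB1.tensorMod M L := rfl

instance twistF_additive (L : X.Modules) : (twistF L).Additive :=
  Groth.Agent.Lib.Helper42.Flat2.tensR_additive X.sheaf L

theorem isFlat_of_isFinLocFree (L : X.Modules) (hL : FlatMod.IsFinLocFree L) :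
    ModSite.IsFlat (O := X.sheaf) L :=
  Groth.Agent.Lib.Helper12.FlatBridge.isFlat_of_flatMod L
    (Groth.Agent.Lib.Helper2.DCohFlat.isFlat_of_isFinLocFree L hL)

theorem isFlat_of_isInvertible (L : X.Modules) (hL : PicF.IsInvertible L) :
    ModSite.IsFlat (O := X.sheaf) L :=
  isFlat_of_isFinLocFree L (Groth.Agent.Lib.Helper60.ZeroSch.isFinLocFree_of_isInvertible L hL)

theorem shortExact_twist (L : X.Modules) (hL : ModSite.IsFlat (O := X.sheaf) L)
    (S : ShortComplex X.Modules) (hS : S.ShortExact) : (S.map (twistF L)).ShortExact := by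
  haveI : PreservesFiniteLimits (twistF L) := hL.1
  haveI : PreservesFiniteColimits (twistF L) := hL.2
  exact hS.map_of_exact (twistF L)

/-- If the outer terms of a short exact sequence have vanishing `H^p` after twisting by a flat `L`,
so does the middle term. -/
theorem subsingleton_HH_twist_mid (L : X.Modules) (hL : ModSite.IsFlat (O := X.sheaf) L)
    (S : ShortComplex X.Modules) (hS : S.ShortExact) (p : ℕ)
    (h1 : Subsingleton (Coh.HH X (CohB1.tensorMod S.X₁ L) p))
    (h3 : Subsingleton (Coh.HH X (CohB1.tensorMod S.X₃ L) p)) :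
    Subsingleton (Coh.HH X (CohB1.tensorMod S.X₂ L) p) :=
  Groth.Agent.S0009.subsingleton_HH_of_shortExact (shortExact_twist L hL S hS) p h1 h3

theorem isFlat_twistProjSpace (k : Type u) [Field k] (n : ℕ) (d : ℤ) :
    ModSite.IsFlat (O := (CohB1.ProjSpace n k).sheaf) (Twist.twistProjSpace n k d) :=
  isFlat_of_isInvertible _ (Groth.Agent.Lib.Helper60.AutPn.isInvertible_twist k n d)

end Groth.Agent.Lib.Helper97.TwistExact
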