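import Groth.Agent.Lib.Helper97.LaurentPBasis
import Groth.Agent.Lib.Helper97.CartierInduct
import Groth.Agent.S2469

/-!
# Rank of absolute differentials of a finitely generated extension; `[K : K^p]`
-/

set_option autoImplicit false
universe u

namespace Groth.Agent.Lib.Helper97.AbsKaehlerRank

open KaehlerDifferential Groth.Agent.Lib.Helper97.Cartier

/-- For `K/F` finitely generated of transcendence degree `d` and `Ω[F⁄ℤ]` finite of rank `r`,
`Ω[K⁄ℤ]` is finite of rank `r + d` (uses Cartier's equality, hence characteristic-free form with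
`ℤ` as base). -/
theorem finrank_kaehler_int {F K : Type u} [Field F] [Field K] [Algebra F K]
    [Algebra.EssFiniteType F K] [Module.Finite F (Ω[F⁄ℤ])] (d : ℕ)
    (hd : Algebra.trdeg F K = d) :
    Module.Finite K (Ω[K⁄ℤ]) ∧
      Module.finrank K (Ω[K⁄ℤ]) = Module.finrank F (Ω[F⁄ℤ]) + d := by
  obtain ⟨h1, h2, h3⟩ := Groth.Agent.S2469.result (K := F) (L := K)
  rw [hd, Cardinal.toNat_natCast] at h3
  change Module.Finite K (LinearMap.ker (mapBaseChange ℤ F K)) at h2
  change (Module.finrank K (Ω[K⁄F]) : ℤ) -
    Module.finrank K (LinearMap.ker (mapBaseChange ℤ F K)) = d at h3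
  have hrn := LinearMap.finrank_range_add_finrank_ker (mapBaseChange ℤ F K)
  rw [Module.finrank_baseChange] at hrn
  have hq : Module.Finite K (Ω[K⁄ℤ] ⧸ LinearMap.range (mapBaseChange ℤ F K)) :=
    Module.Finite.equiv (cokerEquiv ℤ F K).symm
  have hfin : Module.Finite K (Ω[K⁄ℤ]) :=
    Module.Finite.of_submodule_quotient (LinearMap.range (mapBaseChange ℤ F K))
  refine ⟨hfin, ?_⟩
  have hsum := Submodule.finrank_quotient_add_finrank (LinearMap.range (mapBaseChange ℤ F K))
  rw [(cokerEquiv ℤ F K).finrank_eq] at hsum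
  omega

/-- `[K : K^p] = p ^ (d + 1)` for a finitely generated extension of transcendence degree `d` of the
fraction field of a power series ring over a perfect field. -/
theorem finrank_frobenius_range_of_fractionRing_powerSeries (p : ℕ) [Fact p.Prime]
    (k : Type u) [Field k] [CharP k p] [PerfectRing k p]
    (F : Type u) [Field F] [CharP F p] [Algebra (PowerSeries k) F]
    [IsFractionRing (PowerSeries k) F]
    (hX : ∀ b : F, b ^ p ≠ algebraMap (PowerSeries k) F PowerSeries.X)
    (K : Type u) [Field K] [Algebra F K] [CharP K p] [Algebra.EssFiniteType F K]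
    (d : ℕ) (hd : Algebra.trdeg F K = d) :
    Module.finrank (↥(frobenius K p).fieldRange) K = p ^ (d + 1) := by
  have hF := LaurentPBasis.finrank_kaehler_fractionRing p k F hX
  have : Module.Finite F (Ω[F⁄ℤ]) := Module.finite_of_finrank_pos (by rw [hF]; exact one_pos)
  obtain ⟨hfin, hrank⟩ := finrank_kaehler_int d hd
  rw [LaurentPBasis.finrank_frobenius_range p, hrank, hF, add_comm]

end Groth.Agent.Lib.Helper97.AbsKaehlerRank
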