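import Mathlib
import Groth.Agent.S4374
import Groth.Agent.S4373
import Groth.Agent.S0844
import Groth.Agent.Lib.Helper93.SerreVan
import Groth.Agent.Lib.Helper35.ProjRes
import Groth.Agent.Lib.Helper35.VA9
import Groth.Agent.Lib.Helper35.Ample1
import Groth.Agent.Lib.Helper35.ResProp2

/-!
# helper97: `O(d)` on `P^n_R` (`n ≥ 1`, `R ≠ 0`) is ample iff `d > 0`
-/

set_option autoImplicit false
universe u

open CategoryTheory CategoryTheory.Limits AlgebraicGeometry TopologicalSpace Opposite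

namespace Groth.Agent.Lib.Helper97.AmplePn

open Groth.Agent.Lib.Helper35.Gen Groth.Agent.Lib.Helper35.AbSheaf
open Groth.Agent.Lib.Helper60.ProjUPLib

variable (R : Type u) [CommRing R] (n : ℕ)

/-- `O(d)` is ample on `P^n_R` for `d > 0` -/
theorem isAmple_of_pos (d : ℤ) (hd : 0 < d) : CohB1.IsAmple (Twist.twistProjSpace n R d) := by
  obtain ⟨e, rfl⟩ : ∃ e : ℕ, d = e := ⟨d.toNat, (Int.toNat_of_nonneg hd.le).symm⟩
  have he : 0 < e := by exact_mod_cast hd
  let 𝒜 := CohB1.polyGrading n R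
  let g : Fin (n + 1) → MvPolynomial (Fin (n + 1)) R := fun i => MvPolynomial.X i
  have hg : ∀ i, g i ^ e ∈ 𝒜 e := fun i => by
    have h := (MvPolynomial.isHomogeneous_X R i).pow e
    simp only [one_mul] at h
    exact h
  have hadj : Algebra.adjoin R (Set.range g) = ⊤ := MvPolynomial.adjoin_range_X
  exact Groth.Agent.Lib.Helper35.ProjRes.isAmple_twist_of_cover (𝒜 := 𝒜) he
    (fun i => (⟨g i ^ e, hg i⟩ : 𝒜 e))
    (fun x => by
      obtain ⟨i, hi⟩ := exists_mem_basicOpen 𝒜 g hadj x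
      refine ⟨i, ?_⟩
      rw [Proj.basicOpen_pow 𝒜 _ _ he]
      exact hi)

/-- global sections of a module isomorphic to a negative twist vanish (`n ≥ 1`) -/
theorem subsingleton_sections_of_neg (hn : 1 ≤ n) (e : ℤ) (he : e < 0)
    (M : (CohB1.ProjSpace n R).Modules) (φ : M ≅ Twist.twistProjSpace n R e) :
    Subsingleton Γ(M, (⊤ : (CohB1.ProjSpace n R).Opens)) := by
  have h0 : Subsingleton (Coh.HH (CohB1.ProjSpace n R) (Twist.twistProjSpace n R e) 0) :=
    Groth.Agent.S0844.result R n e 0 (fun h => by omega) (fun h => by omega)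
  have hT : IsTerminal (⊤ : Opens (CohB1.ProjSpace n R)) := isTerminalTop
  have E : Coh.HH (CohB1.ProjSpace n R) (Twist.twistProjSpace n R e) 0 ≃+
      (Coh.toAb (Twist.twistProjSpace n R e)).obj.obj (op ⊤) :=
    Sheaf.H.equiv₀ (Coh.toAb (Twist.twistProjSpace n R e)) hT
  have h1 : Subsingleton Γ(Twist.twistProjSpace n R e, (⊤ : (CohB1.ProjSpace n R).Opens)) :=
    ⟨fun a b => E.symm.injective (h0.elim _ _)⟩
  refine ⟨fun a b => ?_⟩
  have h2 : (φ.hom.app ⊤).hom a = (φ.hom.app ⊤).hom b := h1.elim _ _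
  have h3 : ∀ c : Γ(M, (⊤ : (CohB1.ProjSpace n R).Opens)),
      (φ.inv.app ⊤).hom ((φ.hom.app ⊤).hom c) = c := by
    intro c
    have h4 := congrArg (fun f => (Scheme.Modules.Hom.app f ⊤).hom c) φ.hom_inv_id
    exact h4
  rw [← h3 a, ← h3 b, h2]

/-- projective space over a nonzero ring is nonempty -/
theorem nonempty_projSpace [Nontrivial R] : Nonempty (CohB1.ProjSpace n R) := by
  let 𝒜 := CohB1.polyGrading n R
  let f : MvPolynomial (Fin (n + 1)) R := MvPolynomial.X 0
  have hf : f ∈ 𝒜 1 := MvPolynomial.isHomogeneous_X R 0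
  let ev : MvPolynomial (Fin (n + 1)) R →+* R :=
    MvPolynomial.eval (fun i => if i = 0 then (1 : R) else 0)
  have hu : IsUnit (ev f) := by simp [ev, f]
  let g : Localization.Away f →+* R := IsLocalization.Away.lift f hu
  let h : HomogeneousLocalization.Away 𝒜 f →+* R :=
    g.comp (algebraMap (HomogeneousLocalization.Away 𝒜 f) (Localization.Away f))
  have hnt : Nontrivial (HomogeneousLocalization.Away 𝒜 f) := h.domain_nontrivial
  obtain ⟨y⟩ : Nonempty (Spec (CommRingCat.of (HomogeneousLocalization.Away 𝒜 f))) := inferInstance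
  exact ⟨(Proj.awayι 𝒜 f hf one_pos).base y⟩

/-- `O(d)` is not ample on `P^n_R` for `d ≤ 0` (`n ≥ 1`, `R ≠ 0`) -/
theorem false_of_isAmple_nonpos [Nontrivial R] (hn : 1 ≤ n) (d : ℤ)
    (hA : CohB1.IsAmple (Twist.twistProjSpace n R d)) (hd : d ≤ 0) : False := by
  have hcpt : CompactSpace (CohB1.ProjSpace n R) := hA.2.1
  -- `O(-d)` is ample too
  have hA' : CohB1.IsAmple (Twist.twistProjSpace n R (-d)) := by
    rcases hd.lt_or_eq with h | h
    · exact isAmple_of_pos R n (-d) (by omega)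
    · subst h
      simpa using hA
  -- and it is inverse to `O(d)`
  have hinv : ClSub.IsInverseOf (Twist.twistProjSpace n R d) (Twist.twistProjSpace n R (-d)) := by
    obtain ⟨t⟩ := Groth.Agent.Lib.Helper93.SerreVan.nonempty_twist_mul n R d (-d)
    obtain ⟨c⟩ := Groth.Agent.Lib.Helper35.ProjRes.twist_cast (𝒜 := CohB1.polyGrading n R)
      (a := d + -d) (b := 0) (by ring)
    obtain ⟨z⟩ := Groth.Agent.Lib.Helper35.ProjRes.twist_zero_iso (CohB1.polyGrading n R)
    exact ⟨t ≪≫ c ≪≫ z⟩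
  -- hence `P^n_R` is quasi-affine, and `O(-1)` is ample
  have hqa : (CohB1.ProjSpace n R).IsQuasiAffine :=
    Groth.Agent.S4374.result (CohB1.ProjSpace n R) _ _ hinv hA hA'
  have hB : CohB1.IsAmple (Twist.twistProjSpace n R (-1)) :=
    Groth.Agent.S4373.result (CohB1.ProjSpace n R) _
      (Groth.Agent.Lib.Helper93.SerreVan.isInvertible_twist n R (-1))
  obtain ⟨x⟩ : Nonempty (CohB1.ProjSpace n R) := nonempty_projSpace R n
  obtain ⟨m, s, hx, -⟩ := hB.2.2 x
  -- but powers of `O(-1)` have no nonzero sections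
  obtain ⟨φ⟩ := Groth.Agent.Lib.Helper35.ProjRes.tensorPow_twist_iso
    (𝒜 := CohB1.polyGrading n R) (d := -1)
    (fun k => Groth.Agent.Lib.Helper93.SerreVan.hasGens n R (k * -1)) (m + 1)
  have hsub : Subsingleton Γ(CohB1.tensorPow (Twist.twistProjSpace n R (-1)) (m + 1),
      (⊤ : (CohB1.ProjSpace n R).Opens)) :=
    subsingleton_sections_of_neg R n hn (((m + 1 : ℕ) : ℤ) * -1) (by push_cast; omega) _ φ
  set W : (CohB1.ProjSpace n R).Opens := CohB1.genLocus _ s with hW
  have hb : Function.Bijective (s.app W).hom :=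
    Groth.Agent.Lib.Helper35.GenLocus.bijective_app_of_le_genLocus _ s W le_rfl
  have h1 : (s.app W).hom (1 : Γ(CohB1.ProjSpace n R, W)) = 0 := by
    have h := Groth.Agent.Lib.Helper35.ResProp.rs_app s (le_top : W ≤ ⊤)
      (1 : Γ(CohB1.ProjSpace n R, ⊤))
    have h0 : (s.app ⊤).hom (1 : Γ(CohB1.ProjSpace n R, ⊤)) = 0 := hsub.elim _ _
    rw [h0, map_zero] at h
    have h2 : rs (Coh.structureModule (CohB1.ProjSpace n R)) (le_top : W ≤ ⊤)
        (1 : Γ(CohB1.ProjSpace n R, ⊤)) = (1 : Γ(CohB1.ProjSpace n R, W)) :=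
      map_one (rr (CohB1.ProjSpace n R) (le_top : W ≤ ⊤))
    rw [h2] at h
    exact h.symm
  have h2 : (1 : Γ(CohB1.ProjSpace n R, W)) = 0 := hb.1 (h1.trans (map_zero _).symm)
  have h3 : W = ⊥ := by
    have h4 := (CohB1.ProjSpace n R).basicOpen_of_isUnit
      (isUnit_one : IsUnit (1 : Γ(CohB1.ProjSpace n R, W)))
    rw [h2, Scheme.basicOpen_zero] at h4
    exact h4.symm
  rw [h3] at hx
  exact hx

end Groth.Agent.Lib.Helper97.AmplePn
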