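import Mathlib

set_option autoImplicit false
universe u

namespace Groth.Agent.Lib.Helper97.ArtinSA

open TensorProduct

theorem exists_etale_section {A : Type u} [CommRing A] [IsLocalRing A] {B : Type u} [CommRing B]
    [Algebra A B] [Algebra.Smooth A B] (σ : B →ₐ[A] IsLocalRing.ResidueField A) :
    ∃ (R' : Type u) (_ : CommRing R') (_ : Algebra A R'), Algebra.Etale A R' ∧
      ∃ (t : B →ₐ[A] R') (σ' : R' →ₐ[A] IsLocalRing.ResidueField A), σ'.comp t = σ := by
  classical
  let k := IsLocalRing.ResidueField A
  have hp : (RingHom.ker σ.toRingHom).IsPrime := RingHom.ker_isPrime σ.toRingHom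
  have hsm : Algebra.IsSmoothAt A (RingHom.ker σ.toRingHom) := by
    have := Algebra.smoothLocus_eq_univ (R := A) (A := B)
    have h2 : (⟨RingHom.ker σ.toRingHom, hp⟩ : PrimeSpectrum B) ∈ Algebra.smoothLocus A B := by
      rw [this]; trivial
    exact h2
  obtain ⟨f, hf, n, alg, tower, hse⟩ :=
    Algebra.IsSmoothAt.exists_isStandardEtale_mvPolynomial (R := A) (p := RingHom.ker σ.toRingHom)
  have hσf : IsUnit (σ f) := by
    rw [isUnit_iff_ne_zero]
    exact fun h => hf ((RingHom.mem_ker).mpr h)
  let σf : Localization.Away f →ₐ[A] k :=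
    IsLocalization.liftAlgHom (M := Submonoid.powers f) (f := σ) (by
      rintro ⟨_, m, rfl⟩
      show IsUnit (σ (f ^ m))
      rw [map_pow]
      exact hσf.pow m)
  have hσf' : ∀ r : B, σf (algebraMap B (Localization.Away f) r) = σ r := fun r => by
    simp [σf]
  choose a ha using fun i : Fin n => IsLocalRing.residue_surjective (R := A)
    (σf (algebraMap (MvPolynomial (Fin n) A) (Localization.Away f) (MvPolynomial.X i)))
  let ev : MvPolynomial (Fin n) A →ₐ[A] A := MvPolynomial.aeval a
  let _ : Algebra (MvPolynomial (Fin n) A) A := ev.toRingHom.toAlgebra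
  have hevalg : ∀ p : MvPolynomial (Fin n) A, algebraMap (MvPolynomial (Fin n) A) A p = ev p :=
    fun p => rfl
  have hcomm : ∀ p : MvPolynomial (Fin n) A,
      σf (algebraMap (MvPolynomial (Fin n) A) (Localization.Away f) p) =
        IsLocalRing.residue A (ev p) := by
    intro p
    let φ₁ : MvPolynomial (Fin n) A →ₐ[A] k :=
      σf.comp (IsScalarTower.toAlgHom A (MvPolynomial (Fin n) A) (Localization.Away f))
    let φ₂ : MvPolynomial (Fin n) A →ₐ[A] k :=
      (IsScalarTower.toAlgHom A A k).comp ev
    have : φ₁ = φ₂ := by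
      apply MvPolynomial.algHom_ext
      intro i
      simp only [φ₁, φ₂, AlgHom.comp_apply, IsScalarTower.coe_toAlgHom', ev, MvPolynomial.aeval_X]
      exact (ha i).symm
    exact AlgHom.congr_fun this p
  have hEt : Algebra.Etale (MvPolynomial (Fin n) A) (Localization.Away f) := inferInstance
  -- `k` as an algebra over the polynomial ring
  let _ : Algebra (MvPolynomial (Fin n) A) k :=
    ((algebraMap A k).comp ev.toRingHom).toAlgebra
  have hst : IsScalarTower (MvPolynomial (Fin n) A) A k :=
    IsScalarTower.of_algebraMap_eq (fun p => rfl)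
  let g : Localization.Away f →ₐ[MvPolynomial (Fin n) A] k :=
    { σf.toRingHom with
      commutes' := fun p => hcomm p }
  let σ' : A ⊗[MvPolynomial (Fin n) A] Localization.Away f →ₐ[A] k :=
    Algebra.TensorProduct.lift (Algebra.ofId A k) g (fun _ _ => Commute.all _ _)
  have hEt' : Algebra.Etale A (A ⊗[MvPolynomial (Fin n) A] Localization.Away f) := inferInstance
  let inc : Localization.Away f →ₐ[MvPolynomial (Fin n) A]
      A ⊗[MvPolynomial (Fin n) A] Localization.Away f := Algebra.TensorProduct.includeRight
  have hincA : ∀ x : A, inc (algebraMap A (Localization.Away f) x) =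
      algebraMap A (A ⊗[MvPolynomial (Fin n) A] Localization.Away f) x := by
    intro x
    rw [IsScalarTower.algebraMap_apply A (MvPolynomial (Fin n) A) (Localization.Away f),
      inc.commutes, Algebra.TensorProduct.algebraMap_apply, hevalg]
    simp [ev]
  let t : B →ₐ[A] A ⊗[MvPolynomial (Fin n) A] Localization.Away f :=
    { (inc.toRingHom.comp (algebraMap B (Localization.Away f))) with
      commutes' := fun x => by
        change inc (algebraMap B (Localization.Away f) (algebraMap A B x)) = _
        rw [← IsScalarTower.algebraMap_apply A B (Localization.Away f)]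
        exact hincA x }
  refine ⟨A ⊗[MvPolynomial (Fin n) A] Localization.Away f, inferInstance, inferInstance, hEt',
    t, σ', ?_⟩
  ext b
  change σ' (inc (algebraMap B (Localization.Away f) b)) = σ b
  have h1 : σ' (inc (algebraMap B (Localization.Away f) b)) =
      g (algebraMap B (Localization.Away f) b) := by
    change σ' ((1 : A) ⊗ₜ[MvPolynomial (Fin n) A] (algebraMap B (Localization.Away f) b)) = _
    rw [Algebra.TensorProduct.lift_tmul, map_one, one_mul]
  rw [h1]
  exact hσf' b

end Groth.Agent.Lib.Helper97.ArtinSA
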