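import Mathlib.RingTheory.Kaehler.JacobiZariski

set_option autoImplicit false

/-! Naturality of the Jacobi–Zariski connecting map `δ` in the top ring. -/

namespace Groth.Agent.Lib.Helper97.JZNatural

open KaehlerDifferential TensorProduct MvPolynomial Algebra

universe u₁ u₂ u₃ u₄

variable (R : Type u₁) (S : Type u₂) (T : Type u₃) (T' : Type u₄)
  [CommRing R] [CommRing S] [CommRing T] [CommRing T']
  [Algebra R S] [Algebra S T] [Algebra R T] [IsScalarTower R S T]
  [Algebra S T'] [Algebra R T'] [IsScalarTower R S T']
  [Algebra T T'] [IsScalarTower S T T']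

/-- The comparison map `T ⊗[S] Ω → T' ⊗[S] Ω`. -/
noncomputable def comp : T ⊗[S] Ω[S⁄R] →ₗ[T] T' ⊗[S] Ω[S⁄R] :=
  TensorProduct.AlgebraTensorModule.map (Algebra.linearMap T T') LinearMap.id

@[simp] lemma comp_tmul (t : T) (w : Ω[S⁄R]) :
    comp R S T T' (t ⊗ₜ w) = algebraMap T T' t ⊗ₜ w := rfl

/-- The canonical hom of generators `S[T] → S[T']`. -/
noncomputable def selfHom : (Generators.self S T).Hom (Generators.self S T') where
  val i := X (algebraMap T T' i)
  aeval_val i := by simp

attribute [local instance] SMulCommClass.of_commMonoid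

@[simp] lemma selfHom_val (i : T) : (selfHom S T T').val i = X (algebraMap T T' i) := rfl

set_option backward.isDefEq.respectTransparency false in
lemma δAux_selfHom (x : (Generators.self S T).Ring) :
    Generators.H1Cotangent.δAux R (Generators.self S T') ((selfHom S T T').toAlgHom x) =
      comp R S T T' (Generators.H1Cotangent.δAux R (Generators.self S T) x) := by
  induction x using MvPolynomial.induction_on with
  | C s => simp [Generators.H1Cotangent.δAux_C, Generators.Hom.toAlgHom]
  | add x₁ x₂ h₁ h₂ => simp only [map_add, h₁, h₂]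
  | mul_X p i IH =>
    simp only [map_mul, Generators.H1Cotangent.δAux_mul, Generators.Hom.toAlgHom_X,
      Generators.H1Cotangent.δAux_X, smul_zero, zero_add, IH, selfHom_val,
      ← @IsScalarTower.algebraMap_smul (Generators.self S T').Ring T',
      ← @IsScalarTower.algebraMap_smul (Generators.self S T).Ring T,
      Generators.algebraMap_apply, aeval_X, Generators.self_val, id_eq]
    rw [map_smul, algebraMap_smul]

set_option backward.isDefEq.respectTransparency false in
/-- Naturality of the Jacobi–Zariski connecting map in the top ring. -/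
lemma δ_map (x : Algebra.H1Cotangent S T) :
    Algebra.H1Cotangent.δ R S T' (Algebra.H1Cotangent.map S S T T' x) =
      comp R S T T' (Algebra.H1Cotangent.δ R S T x) := by
  obtain ⟨x, hx⟩ := x
  obtain ⟨y, rfl⟩ := Extension.Cotangent.mk_surjective x
  rw [Algebra.H1Cotangent.map, Extension.H1Cotangent.map_eq _ (selfHom S T T').toExtensionHom]
  unfold Algebra.H1Cotangent.δ
  rw [Generators.H1Cotangent.δ_eq_δAux]
  change Generators.H1Cotangent.δ _ _ ⟨_, _⟩ = _
  simp only [LinearMap.domRestrict_apply, Extension.Cotangent.map_mk,
    Generators.H1Cotangent.δ_eq_δAux]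
  exact δAux_selfHom R S T T' y.1

omit [Algebra S T'] [Algebra R T'] [IsScalarTower R S T'] [Algebra T T'] [IsScalarTower S T T'] in
/-- If `H¹(L_{T/R}) = 0`, the connecting map `δ` is injective. -/
lemma δ_injective [Subsingleton (Algebra.H1Cotangent R T)] :
    Function.Injective (Algebra.H1Cotangent.δ R S T) := by
  rw [← LinearMap.ker_eq_bot, (Algebra.H1Cotangent.exact_map_δ R S T).linearMap_ker_eq,
    LinearMap.range_eq_bot]
  ext x
  rw [Subsingleton.elim x 0]
  simp

lemma comp_liftBaseChange_injective :
    Function.Injective ((comp R S T T').liftBaseChange T') := by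
  have : (comp R S T T').liftBaseChange T' =
      (TensorProduct.AlgebraTensorModule.cancelBaseChange S T T' T' Ω[S⁄R]).toLinearMap := by
    ext x
    simp
  rw [this]
  exact (TensorProduct.AlgebraTensorModule.cancelBaseChange S T T' T' Ω[S⁄R]).injective

/-- The first map of the Jacobi–Zariski sequence is injective as soon as `T'` is flat over `T`
and `H¹(L_{T/R}) = 0` for some base `R`. -/
theorem liftBaseChange_injective [Module.Flat T T'] [Subsingleton (Algebra.H1Cotangent R T)] :
    Function.Injective ((Algebra.H1Cotangent.map S S T T').liftBaseChange T') := by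
  have h : (Algebra.H1Cotangent.δ R S T') ∘ₗ
      ((Algebra.H1Cotangent.map S S T T').liftBaseChange T') =
    ((comp R S T T').liftBaseChange T') ∘ₗ ((Algebra.H1Cotangent.δ R S T).baseChange T') := by
    ext x
    simp [δ_map]
  have hinj : Function.Injective (((comp R S T T').liftBaseChange T') ∘ₗ
      ((Algebra.H1Cotangent.δ R S T).baseChange T')) := by
    rw [LinearMap.coe_comp]
    refine (comp_liftBaseChange_injective R S T T').comp ?_
    rw [LinearMap.baseChange_eq_ltensor]
    exact Module.Flat.lTensor_preserves_injective_linearMap _ (δ_injective R S T)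
  rw [← h, LinearMap.coe_comp] at hinj
  exact hinj.of_comp

end Groth.Agent.Lib.Helper97.JZNatural
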