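import Groth.Agent.Lib.Helper97.CartierInduct
import Groth.Agent.Lib.Helper97.PthPower
import Groth.Agent.Lib.Helper97.JZNatural
import Groth.Agent.Lib.Helper49.MacLane

/-!
# Cartier's equality in terms of `H¹` of the naive cotangent complex

For a finitely generated field extension `L/K`:
`dim Ω[L⁄K] - dim H¹(L_{L/K}) = trdeg_K L`.
-/

set_option autoImplicit false
universe u v

open TensorProduct KaehlerDifferential

namespace Groth.Agent.Lib.Helper97.CartierH1

open Groth.Agent.Lib.Helper97.Cartier

section Extend

variable {k : Type v} {E M : Type u} [CommRing k] [CommRing E] [Algebra k E]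
  [AddCommGroup M] [Module E M] [Module k M] [IsScalarTower k E M]

/-- A `ℤ`-derivation killing the image of `k` is a `k`-derivation. -/
noncomputable def extendDerivation (d : Derivation ℤ E M)
    (h : ∀ c : k, d (algebraMap k E c) = 0) : Derivation k E M :=
  Derivation.mk'
    { toFun := d
      map_add' := map_add d
      map_smul' := fun c x => by
        rw [Algebra.smul_def, d.leibniz, h, smul_zero, add_zero, algebraMap_smul]
        rfl }
    (fun a b => d.leibniz a b)

@[simp] lemma extendDerivation_apply (d : Derivation ℤ E M)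
    (h : ∀ c : k, d (algebraMap k E c) = 0) (x : E) : extendDerivation d h x = d x := rfl

end Extend

/-- `PthPowerHyp` holds over the prime field `𝔽_p`. -/
theorem pthPowerHyp_zmod (p : ℕ) [Fact p.Prime] :
    PthPowerHyp.{u} (ULift.{u} (ZMod p)) := by
  intro E _ inst q _ hq a ha
  have hp : CharP E p :=
    charP_of_injective_algebraMap (algebraMap (ULift.{u} (ZMod p)) E).injective p
  obtain rfl : q = p := CharP.eq E hq hp
  apply Groth.Agent.Lib.Helper97.PthPower.exists_pow_eq_of_forall_derivation q a
  intro d
  have h : ∀ c : ULift.{u} (ZMod q), d (algebraMap _ E c) = 0 := by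
    intro c
    obtain ⟨n, rfl⟩ : ∃ n : ℕ, (n : ULift.{u} (ZMod q)) = c :=
      ⟨c.down.val, ULift.ext _ _ (by
        change ((c.down.val : ℕ) : ZMod q) = c.down
        exact ZMod.natCast_zmod_val _)⟩
    rw [map_natCast, Derivation.map_natCast]
  have := (extendDerivation d h).liftKaehlerDifferential_comp_D a
  rw [ha, map_zero] at this
  rw [← extendDerivation_apply d h a, this]

/-- `PthPowerHyp` holds vacuously over a field of characteristic zero. -/
theorem pthPowerHyp_charZero (k : Type v) [Field k] [CharZero k] : PthPowerHyp.{u} k := by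
  intro E _ inst q hq hq' a ha
  exfalso
  have : CharZero E := charZero_of_injective_algebraMap (algebraMap k E).injective
  have := CharP.eq E hq' (CharP.ofCharZero E)
  exact hq.out.ne_zero this

section H1

variable (P : Type v) (K L : Type u) [CommRing P] [Field K] [Field L]
  [Algebra P K] [Algebra P L] [Algebra K L] [IsScalarTower P K L]

/-- When `H¹(L_{L/P}) = 0`, the module `H¹(L_{L/K})` is the imperfection module. -/
noncomputable def h1EquivKer [Subsingleton (Algebra.H1Cotangent P L)] :
    Algebra.H1Cotangent K L ≃ₗ[L] LinearMap.ker (mapBaseChange P K L) :=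
  (LinearEquiv.ofInjective _ (JZNatural.δ_injective P K L)).trans
    (LinearEquiv.ofEq _ _ (Algebra.H1Cotangent.exact_δ_mapBaseChange P K L).linearMap_ker_eq.symm)

theorem cartier_aux [Subsingleton (Algebra.H1Cotangent P L)] [Algebra.EssFiniteType K L]
    (hP : PthPowerHyp.{u} P) :
    Module.Finite L (Ω[L⁄K]) ∧ Module.Finite L (Algebra.H1Cotangent K L) ∧
      (Module.finrank L (Ω[L⁄K]) : ℤ) - Module.finrank L (Algebra.H1Cotangent K L) =
        Cardinal.toNat (Algebra.trdeg K L) := by
  have h := cartierData_of_essFiniteType P L K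
  have := h.good.ker
  refine ⟨h.good.finite_kaehler, Module.Finite.equiv (h1EquivKer P K L).symm, ?_⟩
  have hc := cind_eq P K L
  have heq := h.eq hP
  rw [hc] at heq
  rw [(h1EquivKer P K L).finrank_eq]
  exact heq

end H1

/-- **Cartier's equality**, in terms of `H¹` of the naive cotangent complex. -/
theorem cartier {K L : Type u} [Field K] [Field L] [Algebra K L] [Algebra.EssFiniteType K L] :
    Module.Finite L (Ω[L⁄K]) ∧ Module.Finite L (Algebra.H1Cotangent K L) ∧
      (Module.finrank L (Ω[L⁄K]) : ℤ) - Module.finrank L (Algebra.H1Cotangent K L) =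
        Cardinal.toNat (Algebra.trdeg K L) := by
  obtain ⟨p, hp⟩ := CharP.exists K
  rcases CharP.char_is_prime_or_zero K p with hpp | rfl
  · have : Fact p.Prime := ⟨hpp⟩
    let _ : Algebra (ZMod p) K := ZMod.algebra K p
    let _ : Algebra (ULift.{u} (ZMod p)) K := ULift.algebra' (ZMod p) K
    let _ : Algebra (ULift.{u} (ZMod p)) L :=
      ((algebraMap K L).comp (algebraMap (ULift.{u} (ZMod p)) K)).toAlgebra
    have : IsScalarTower (ULift.{u} (ZMod p)) K L := IsScalarTower.of_algebraMap_eq (fun x => rfl)
    have : CharP L p := charP_of_injective_algebraMap (algebraMap K L).injective p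
    have : Algebra.FormallySmooth (ULift.{u} (ZMod p)) L :=
      Groth.Agent.Lib.Helper49.MacLane.formallySmooth_of_perfect p
    have : Subsingleton (Algebra.H1Cotangent (ULift.{u} (ZMod p)) L) :=
      Algebra.FormallySmooth.subsingleton_h1Cotangent
    exact cartier_aux (ULift.{u} (ZMod p)) K L (pthPowerHyp_zmod p)
  · have : CharZero K := CharP.charP_to_charZero K
    have : Algebra.FormallySmooth K L := Groth.Agent.S4524.formallySmooth_of_charZero
    have : Subsingleton (Algebra.H1Cotangent K L) :=
      Algebra.FormallySmooth.subsingleton_h1Cotangent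
    exact cartier_aux K K L (pthPowerHyp_charZero K)

end Groth.Agent.Lib.Helper97.CartierH1
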