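import Groth.Agent.Lib.Helper97.DeRhamD
import Mathlib.LinearAlgebra.ExteriorPower.Basic

/-!
# The de Rham differential of a receptacle of differentials

For an `R`-derivation `δ : A → M` whose image spans `M`, and an `A`-linear map
`f : M → T_δ = E ⊕ ε E` (graded dual numbers over `E = ExteriorAlgebra A M` with the `A`-algebra
structure `a ↦ a + ε δ a`) with `f m = ι m + ε (…)` and `f (δ b) = ι (δ b)`, we construct the
de Rham differential `d` of `E`, a graded derivation of square zero with `d a = δ a`, `d (δ b) = 0`.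
The case `M = Ω[A⁄R]` is `DeRhamD`; here we also treat quotients of `Ω[A⁄R]`.
-/

set_option autoImplicit false

namespace Groth.Agent.Lib.Helper97.DeRhamRec

universe w u v

open ExteriorAlgebra Groth.Agent.Lib.Helper97.DeRhamD

section Rec

variable {R : Type w} {A : Type u} {M : Type v} [CommRing R] [CommRing A] [Algebra R A]
  [AddCommGroup M] [Module A M] [Module R M] [IsScalarTower R A M]

/-- The graded dual numbers, as an `A`-algebra through `a ↦ a + ε δ a`. -/
@[nolint unusedArguments]
def TD (_ : Derivation R A M) : Type (max u v) := T A M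

variable (δ : Derivation R A M)

noncomputable instance : Ring (TD δ) := inferInstanceAs (Ring (T A M))

/-- `a ↦ a + ε δ a` -/
noncomputable def ψ : A →+* TD δ where
  toFun a := T.mk (algebraMap A _ a) (ι A (δ a))
  map_one' := by
    refine T.ext (map_one _) ?_
    change ι A (δ 1) = 0
    rw [Derivation.map_one_eq_zero, map_zero]
  map_mul' a b := by
    refine T.ext (map_mul _ _ _) ?_
    change ι A (δ (a * b)) =
      inv A _ (algebraMap A _ a) * ι A (δ b) + ι A (δ a) * algebraMap A _ b
    rw [Derivation.leibniz, map_add, map_smul, map_smul, AlgHom.commutes, Algebra.smul_def,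
      Algebra.smul_def, Algebra.commutes b]
  map_zero' := by
    refine T.ext (map_zero _) ?_
    change ι A (δ 0) = 0
    rw [map_zero, map_zero]
  map_add' a b := by
    refine T.ext (map_add _ _ _) ?_
    change ι A (δ (a + b)) = _ + _
    rw [map_add, map_add]
    rfl

theorem ψ_central (a : A) (t : TD δ) : ψ δ a * t = t * ψ δ a := by
  refine T.ext ?_ ?_
  · change algebraMap A _ a * T.fst t = T.fst t * algebraMap A _ a
    exact Algebra.commutes _ _
  · change inv A _ (algebraMap A _ a) * T.snd t + ι A (δ a) * T.fst t =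
      inv A _ (T.fst t) * ι A (δ a) + T.snd t * algebraMap A _ a
    rw [AlgHom.commutes, ι_mul_eq, Algebra.commutes, add_comm]

noncomputable instance : Algebra A (TD δ) := (ψ δ).toAlgebra' (ψ_central δ)

theorem smul_TD (a : A) (t : TD δ) : a • t = ψ δ a * t := Algebra.smul_def a t

theorem fst_smul (a : A) (t : TD δ) : T.fst (a • t) = a • T.fst t := by
  rw [smul_TD, Algebra.smul_def]; rfl

theorem snd_smul (a : A) (t : TD δ) :
    T.snd (a • t) = a • T.snd t + ι A (δ a) * T.fst t := by
  rw [smul_TD, Algebra.smul_def]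
  change inv A _ (algebraMap A _ a) * T.snd t + _ = _
  rw [AlgHom.commutes]
  rfl

noncomputable instance : Algebra R (TD δ) :=
  ((algebraMap A (TD δ)).comp (algebraMap R A)).toAlgebra' fun r t =>
    ψ_central δ (algebraMap R A r) t

instance : IsScalarTower R A (TD δ) := IsScalarTower.of_algebraMap_eq fun _ => rfl

theorem fst_smul_R (r : R) (t : TD δ) : T.fst (r • t) = r • T.fst t := by
  rw [← algebraMap_smul A r t, fst_smul, algebraMap_smul]

theorem snd_smul_R (r : R) (t : TD δ) : T.snd (r • t) = r • T.snd t := by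
  rw [← algebraMap_smul A r t, snd_smul, Derivation.map_algebraMap, map_zero, zero_mul, add_zero,
    algebraMap_smul]

/-- constructor -/
def TD.mk (x m : ExteriorAlgebra A M) : TD δ := T.mk x m

theorem TD.fst_mk (x m : ExteriorAlgebra A M) : T.fst (TD.mk δ x m) = x := rfl
theorem TD.snd_mk (x m : ExteriorAlgebra A M) : T.snd (TD.mk δ x m) = m := rfl

/-- the first projection as an algebra map -/
noncomputable def fstHom : TD δ →ₐ[A] ExteriorAlgebra A M where
  toFun := T.fst
  map_one' := rfl
  map_mul' _ _ := rfl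
  map_zero' := rfl
  map_add' _ _ := rfl
  commutes' _ := rfl

/-- the second projection as an additive map -/
noncomputable def sndHom : TD δ →+ ExteriorAlgebra A M where
  toFun := T.snd
  map_zero' := rfl
  map_add' _ _ := rfl

/-- The data needed to build the differential. -/
structure Data where
  /-- `m ↦ ι m + ε d m` -/
  f : M →ₗ[A] TD δ
  fst_f : ∀ m, T.fst (f m) = ι A m
  f_δ : ∀ b, f (δ b) = TD.mk δ (ι A (δ b)) 0
  span : Submodule.span A (Set.range δ) = ⊤

variable {δ} (h : Data δ)

include h in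
theorem Data.induction {P : M → Prop} (hD : ∀ b, P (δ b))
    (h0 : P 0) (hadd : ∀ x y, P x → P y → P (x + y)) (hsmul : ∀ (a : A) x, P x → P (a • x))
    (ω : M) : P ω := by
  have hω : ω ∈ Submodule.span A (Set.range δ) := by
    rw [h.span]; trivial
  induction hω using Submodule.span_induction with
  | mem x hx => obtain ⟨b, rfl⟩ := hx; exact hD b
  | zero => exact h0
  | add x y _ _ hx hy => exact hadd x y hx hy
  | smul a x _ hx => exact hsmul a x hx

theorem Data.f_anticomm (ω ω' : M) : h.f ω * h.f ω' + h.f ω' * h.f ω = 0 := by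
  induction ω' using h.induction with
  | hD b =>
    induction ω using h.induction with
    | hD a =>
      rw [h.f_δ, h.f_δ]
      refine T.ext ?_ ?_
      · exact ι_add_mul_swap _ _
      · change inv A _ _ * 0 + 0 * _ + (inv A _ _ * 0 + 0 * _) = (0 : ExteriorAlgebra A M)
        simp
    | h0 => rw [map_zero, zero_mul, mul_zero, add_zero]
    | hadd x y hx hy =>
      rw [map_add, add_mul, mul_add, add_add_add_comm, hx, hy, add_zero]
    | hsmul a x hx =>
      rw [map_smul, smul_mul_assoc, mul_smul_comm, ← smul_add, hx, smul_zero]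
  | h0 => rw [map_zero, zero_mul, mul_zero, add_zero]
  | hadd x y hx hy =>
    rw [map_add, add_mul, mul_add, add_add_add_comm, hx, hy, add_zero]
  | hsmul a x hx =>
    rw [map_smul, smul_mul_assoc, mul_smul_comm, ← smul_add, hx, smul_zero]

theorem Data.f_sq (ω : M) : h.f ω * h.f ω = 0 := by
  induction ω using h.induction with
  | hD b =>
    rw [h.f_δ]
    refine T.ext ?_ ?_
    · exact ι_sq_zero _
    · change inv A _ _ * 0 + 0 * _ = (0 : ExteriorAlgebra A M)
      simp
  | h0 => rw [map_zero, zero_mul]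
  | hadd x y hx hy =>
    rw [map_add, add_mul, mul_add, mul_add, hx, hy, zero_add, add_zero, add_comm,
      h.f_anticomm]
  | hsmul a x hx =>
    rw [map_smul, smul_mul_assoc, mul_smul_comm, hx, smul_zero, smul_zero]

/-- `x ↦ x + ε dx` -/
noncomputable def Data.φ : ExteriorAlgebra A M →ₐ[A] TD δ :=
  ExteriorAlgebra.lift A ⟨h.f, h.f_sq⟩

theorem Data.φ_ι (ω : M) : h.φ (ι A ω) = h.f ω :=
  ExteriorAlgebra.lift_ι_apply A h.f h.f_sq ω

theorem Data.fst_φ (x : ExteriorAlgebra A M) : T.fst (h.φ x) = x := by
  have h1 : (fstHom δ).comp h.φ = AlgHom.id A _ := by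
    apply ExteriorAlgebra.hom_ext
    refine LinearMap.ext fun ω => ?_
    change T.fst (h.φ (ι A ω)) = ι A ω
    rw [h.φ_ι, h.fst_f]
  exact DFunLike.congr_fun h1 x

/-- The de Rham differential as an additive map. -/
noncomputable def Data.dAdd : ExteriorAlgebra A M →+ ExteriorAlgebra A M :=
  (sndHom δ).comp (h.φ : ExteriorAlgebra A M →+ TD δ)

theorem Data.dAdd_apply (x : ExteriorAlgebra A M) : h.dAdd x = T.snd (h.φ x) := rfl

theorem Data.dAdd_algebraMap (a : A) : h.dAdd (algebraMap A _ a) = ι A (δ a) := by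
  rw [h.dAdd_apply, AlgHom.commutes]; rfl

theorem Data.dAdd_ι (m : M) : h.dAdd (ι A m) = T.snd (h.f m) := by
  rw [h.dAdd_apply, h.φ_ι]

theorem Data.dAdd_ι_δ (b : A) : h.dAdd (ι A (δ b)) = 0 := by
  rw [h.dAdd_apply, h.φ_ι, h.f_δ]; rfl

theorem Data.dAdd_mul (x y : ExteriorAlgebra A M) :
    h.dAdd (x * y) = h.dAdd x * y + inv A _ x * h.dAdd y := by
  rw [h.dAdd_apply, map_mul]
  change inv A _ (T.fst (h.φ x)) * T.snd (h.φ y) + T.snd (h.φ x) * T.fst (h.φ y) = _
  rw [h.fst_φ, h.fst_φ, add_comm]; rfl

theorem Data.dAdd_smul (a : A) (x : ExteriorAlgebra A M) :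
    h.dAdd (a • x) = ι A (δ a) * x + a • h.dAdd x := by
  rw [Algebra.smul_def, h.dAdd_mul, h.dAdd_algebraMap, AlgHom.commutes, Algebra.smul_def]

theorem Data.dAdd_mul_of_mem {p : ℕ} {x : ExteriorAlgebra A M} (hx : x ∈ ⋀[A]^p M)
    (y : ExteriorAlgebra A M) :
    h.dAdd (x * y) = h.dAdd x * y + ((-1 : ℤ) ^ p) • (x * h.dAdd y) := by
  rw [h.dAdd_mul, inv_of_mem hx, smul_mul_assoc]

theorem Data.dAdd_ι_mem (ω : M) : h.dAdd (ι A ω) ∈ ⋀[A]^2 M := by
  induction ω using h.induction with
  | hD b => rw [h.dAdd_ι_δ]; exact Submodule.zero_mem _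
  | h0 => rw [map_zero, map_zero]; exact Submodule.zero_mem _
  | hadd x y hx hy => rw [map_add, map_add]; exact Submodule.add_mem _ hx hy
  | hsmul a x hx =>
    rw [map_smul, h.dAdd_smul]
    refine Submodule.add_mem _ ?_ (Submodule.smul_mem _ _ hx)
    rw [extPow_two]
    exact Submodule.mul_mem_mul (LinearMap.mem_range_self _ _) (LinearMap.mem_range_self _ _)

theorem Data.dAdd_mem {p : ℕ} {x : ExteriorAlgebra A M} (hx : x ∈ ⋀[A]^p M) :
    h.dAdd x ∈ ⋀[A]^(p + 1) M := by
  induction p generalizing x with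
  | zero =>
    rw [extPow_zero, Submodule.mem_one] at hx
    obtain ⟨a, rfl⟩ := hx
    rw [h.dAdd_algebraMap, zero_add]
    exact ι_mem_one _
  | succ p ih =>
    rw [extPow_succ] at hx
    induction hx using Submodule.mul_induction_on' with
    | mem_mul_mem m hm n hn =>
      obtain ⟨ω, rfl⟩ := hm
      rw [h.dAdd_mul, inv_ι]
      refine Submodule.add_mem _ ?_ ?_
      · have := Submodule.mul_mem_mul (h.dAdd_ι_mem ω) hn
        rwa [← extPow_add, add_comm 2 p] at this
      · rw [neg_mul]
        refine Submodule.neg_mem _ ?_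
        have := Submodule.mul_mem_mul (LinearMap.mem_range_self (ι A) ω) (ih hn)
        rwa [← extPow_succ] at this
    | add x _ y _ hx hy => rw [map_add]; exact Submodule.add_mem _ hx hy

theorem Data.dAdd_dAdd_ι (ω : M) : h.dAdd (h.dAdd (ι A ω)) = 0 := by
  induction ω using h.induction with
  | hD b => rw [h.dAdd_ι_δ, map_zero]
  | h0 => rw [map_zero, map_zero, map_zero]
  | hadd x y hx hy => rw [map_add, map_add, map_add, hx, hy, add_zero]
  | hsmul a x hx =>
    rw [map_smul, h.dAdd_smul, map_add, h.dAdd_smul, hx, smul_zero, add_zero, h.dAdd_mul,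
      h.dAdd_ι_δ, zero_mul, zero_add, inv_ι, neg_mul, neg_add_cancel]

theorem Data.dAdd_dAdd_of_mem {p : ℕ} {x : ExteriorAlgebra A M} (hx : x ∈ ⋀[A]^p M) :
    h.dAdd (h.dAdd x) = 0 := by
  induction p generalizing x with
  | zero =>
    rw [extPow_zero, Submodule.mem_one] at hx
    obtain ⟨a, rfl⟩ := hx
    rw [h.dAdd_algebraMap, h.dAdd_ι_δ]
  | succ p ih =>
    rw [extPow_succ] at hx
    induction hx using Submodule.mul_induction_on' with
    | mem_mul_mem m hm n hn =>
      obtain ⟨ω, rfl⟩ := hm
      rw [h.dAdd_mul, inv_ι, map_add, neg_mul, map_neg, h.dAdd_mul, h.dAdd_mul, h.dAdd_dAdd_ι,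
        ih hn, inv_of_mem (h.dAdd_ι_mem ω)]
      simp
    | add x _ y _ hx hy => rw [map_add, map_add, hx, hy, add_zero]

theorem Data.dAdd_dAdd (x : ExteriorAlgebra A M) : h.dAdd (h.dAdd x) = 0 := by
  induction x using DirectSum.Decomposition.inductionOn (fun i : ℕ => ⋀[A]^i M) with
  | zero => rw [map_zero, map_zero]
  | homogeneous m => exact h.dAdd_dAdd_of_mem m.2
  | add m m' h1 h2 => rw [map_add, map_add, h1, h2, add_zero]

/-- `d` kills products of exact one-forms. -/
theorem Data.dAdd_ιMulti (p : ℕ) (b : Fin p → A) :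
    h.dAdd (ExteriorAlgebra.ιMulti A p (fun i => δ (b i))) = 0 := by
  induction p with
  | zero => 
    rw [ιMulti_zero_apply, ← map_one (algebraMap A (ExteriorAlgebra A M)), h.dAdd_algebraMap,
      Derivation.map_one_eq_zero, map_zero]
  | succ p ih =>
    rw [ιMulti_succ_apply, h.dAdd_mul, h.dAdd_ι_δ, zero_mul, zero_add]
    have := ih (fun i => b i.succ)
    change h.dAdd (ExteriorAlgebra.ιMulti A p (Matrix.vecTail fun i => δ (b i))) = 0 at this
    rw [this, mul_zero]

/-- The rule `d (b₀ • δ b₁ ∧ … ∧ δ b_p) = δ b₀ ∧ δ b₁ ∧ … ∧ δ b_p`. -/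
theorem Data.dAdd_gen (p : ℕ) (b₀ : A) (b : Fin p → A) :
    h.dAdd (b₀ • ExteriorAlgebra.ιMulti A p (fun i => δ (b i))) =
      ExteriorAlgebra.ιMulti A (p + 1) (Fin.cons (δ b₀) (fun i => δ (b i))) := by
  rw [h.dAdd_smul, h.dAdd_ιMulti, smul_zero, add_zero, ιMulti_succ_apply]
  rfl

/-- The de Rham differential as an `R`-linear map. -/
noncomputable def Data.d : ExteriorAlgebra A M →ₗ[R] ExteriorAlgebra A M where
  toFun := h.dAdd
  map_add' := map_add _
  map_smul' r x := by
    rw [RingHom.id_apply, ← algebraMap_smul A r x, h.dAdd_smul, Derivation.map_algebraMap,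
      map_zero, zero_mul, zero_add, algebraMap_smul]

theorem Data.d_apply (x : ExteriorAlgebra A M) : h.d x = h.dAdd x := rfl

/-- The degree-`p` component of the de Rham differential. -/
noncomputable def Data.dDeg (p : ℕ) : ↥(⋀[A]^p M) →ₗ[R] ↥(⋀[A]^(p + 1) M) :=
  LinearMap.codRestrict ((⋀[A]^(p + 1) M).restrictScalars R)
    (h.d ∘ₗ ((⋀[A]^p M).restrictScalars R).subtype) (fun x => h.dAdd_mem x.2)

theorem Data.dDeg_coe (p : ℕ) (x : ↥(⋀[A]^p M)) :
    ((h.dDeg p x : ↥(⋀[A]^(p + 1) M)) : ExteriorAlgebra A M) = h.dAdd (x : ExteriorAlgebra A M) :=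
  rfl

end Rec

section Kaehler

variable (R : Type w) (A : Type u) [CommRing R] [CommRing A] [Algebra R A]

/-- the derivation `b ↦ db + ε·0` -/
noncomputable def D' : Derivation R A (TD (KaehlerDifferential.D R A)) :=
  Derivation.mk'
    { toFun := fun b => TD.mk _ (ι A (KaehlerDifferential.D R A b)) 0
      map_add' := fun a b => by
        refine T.ext ?_ ?_
        · change ι A (KaehlerDifferential.D R A (a + b)) = _ + _
          rw [map_add, map_add]; rfl
        · change (0 : ExteriorAlgebra A (Ω[A⁄R])) = 0 + 0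
          rw [add_zero]
      map_smul' := fun r b => by
        refine T.ext ?_ ?_
        · rw [RingHom.id_apply, fst_smul_R]
          change ι A (KaehlerDifferential.D R A (r • b)) = r • ι A (KaehlerDifferential.D R A b)
          rw [Derivation.map_smul, ← algebraMap_smul A r (KaehlerDifferential.D R A b), map_smul,
            algebraMap_smul]
        · rw [RingHom.id_apply, snd_smul_R]
          change (0 : ExteriorAlgebra A (Ω[A⁄R])) = r • 0
          rw [smul_zero] }
    (fun a b => by
      refine T.ext ?_ ?_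
      · change ι A (KaehlerDifferential.D R A (a * b)) =
          T.fst (a • (TD.mk _ (ι A (KaehlerDifferential.D R A b)) 0 :
            TD (KaehlerDifferential.D R A))) +
          T.fst (b • (TD.mk _ (ι A (KaehlerDifferential.D R A a)) 0 :
            TD (KaehlerDifferential.D R A)))
        rw [fst_smul, fst_smul, Derivation.leibniz, map_add, map_smul, map_smul]
        rfl
      · change (0 : ExteriorAlgebra A (Ω[A⁄R])) =
          T.snd (a • (TD.mk _ (ι A (KaehlerDifferential.D R A b)) 0 :
            TD (KaehlerDifferential.D R A))) +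
          T.snd (b • (TD.mk _ (ι A (KaehlerDifferential.D R A a)) 0 :
            TD (KaehlerDifferential.D R A)))
        rw [snd_smul, snd_smul]
        change 0 = a • (0 : ExteriorAlgebra A (Ω[A⁄R])) + ι A (KaehlerDifferential.D R A a) *
          ι A (KaehlerDifferential.D R A b) + (b • (0 : ExteriorAlgebra A (Ω[A⁄R])) +
          ι A (KaehlerDifferential.D R A b) * ι A (KaehlerDifferential.D R A a))
        rw [smul_zero, smul_zero, zero_add, zero_add, ι_add_mul_swap])

/-- The data for the Kähler differentials. -/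
noncomputable def kaehlerData : Data (KaehlerDifferential.D R A) where
  f := (D' R A).liftKaehlerDifferential
  fst_f ω := by
    have hω : ω ∈ Submodule.span A (Set.range (KaehlerDifferential.D R A)) := by
      rw [KaehlerDifferential.span_range_derivation]; trivial
    induction hω using Submodule.span_induction with
    | mem x hx =>
      obtain ⟨b, rfl⟩ := hx
      rw [Derivation.liftKaehlerDifferential_comp_D]; rfl
    | zero => rw [map_zero, map_zero]; rfl
    | add x y _ _ hx hy =>
      rw [map_add, map_add]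
      change T.fst _ + T.fst _ = _
      rw [hx, hy]
    | smul a x _ hx => rw [map_smul, map_smul, fst_smul, hx]
  f_δ b := (D' R A).liftKaehlerDifferential_comp_D b
  span := KaehlerDifferential.span_range_derivation R A

end Kaehler

section Map

variable {R : Type w} {A : Type u} {M N : Type v} [CommRing R] [CommRing A] [Algebra R A]
  [AddCommGroup M] [Module A M] [Module R M] [IsScalarTower R A M]
  [AddCommGroup N] [Module A N] [Module R N] [IsScalarTower R A N]

theorem map_inv (g : M →ₗ[A] N) (x : ExteriorAlgebra A M) :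
    ExteriorAlgebra.map g (inv A M x) = inv A N (ExteriorAlgebra.map g x) := by
  have h : (ExteriorAlgebra.map g).comp (inv A M) = (inv A N).comp (ExteriorAlgebra.map g) := by
    apply ExteriorAlgebra.hom_ext
    refine LinearMap.ext fun m => ?_
    change ExteriorAlgebra.map g (inv A M (ι A m)) = inv A N (ExteriorAlgebra.map g (ι A m))
    rw [inv_ι, map_neg, map_apply_ι, inv_ι]
  exact DFunLike.congr_fun h x

variable (δ : Derivation R A M) (g : M →ₗ[A] N)

/-- functoriality of the graded dual numbers -/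
noncomputable def mapTD : TD δ →ₐ[A] TD (g.compDer δ) where
  toFun t := TD.mk _ (ExteriorAlgebra.map g (T.fst t)) (ExteriorAlgebra.map g (T.snd t))
  map_one' := by
    refine T.ext ?_ ?_
    · change ExteriorAlgebra.map g 1 = 1
      rw [map_one]
    · change ExteriorAlgebra.map g 0 = 0
      rw [map_zero]
  map_mul' s t := by
    refine T.ext ?_ ?_
    · change ExteriorAlgebra.map g (T.fst s * T.fst t) = _ * _
      rw [map_mul]; rfl
    · change ExteriorAlgebra.map g (inv A M (T.fst s) * T.snd t + T.snd s * T.fst t) =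
        inv A N (ExteriorAlgebra.map g (T.fst s)) * ExteriorAlgebra.map g (T.snd t) +
          ExteriorAlgebra.map g (T.snd s) * ExteriorAlgebra.map g (T.fst t)
      rw [map_add, map_mul, map_mul, map_inv]
  map_zero' := by
    refine T.ext ?_ ?_
    · change ExteriorAlgebra.map g 0 = 0
      rw [map_zero]
    · change ExteriorAlgebra.map g 0 = 0
      rw [map_zero]
  map_add' s t := by
    refine T.ext ?_ ?_
    · change ExteriorAlgebra.map g (T.fst s + T.fst t) = _ + _
      rw [map_add]; rfl
    · change ExteriorAlgebra.map g (T.snd s + T.snd t) = _ + _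
      rw [map_add]; rfl
  commutes' a := by
    refine T.ext ?_ ?_
    · change ExteriorAlgebra.map g (algebraMap A _ a) = algebraMap A _ a
      rw [AlgHom.commutes]
    · change ExteriorAlgebra.map g (ι A (δ a)) = ι A (g (δ a))
      rw [map_apply_ι]

theorem fst_mapTD (t : TD δ) : T.fst (mapTD δ g t) = ExteriorAlgebra.map g (T.fst t) := rfl
theorem snd_mapTD (t : TD δ) : T.snd (mapTD δ g t) = ExteriorAlgebra.map g (T.snd t) := rfl

variable {δ} (h : Data δ) {g} (hg : Function.Surjective g)
  (hk : ∀ m, g m = 0 → mapTD δ g (h.f m) = 0)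

/-- The descended map on one-forms. -/
noncomputable def Data.quotF : N →ₗ[A] TD (g.compDer δ) :=
  (LinearMap.ker g).liftQ ((mapTD δ g).toLinearMap ∘ₗ h.f) (fun m hm => hk m hm) ∘ₗ
    (g.quotKerEquivOfSurjective hg).symm.toLinearMap

theorem Data.quotF_apply (m : M) : h.quotF hg hk (g m) = mapTD δ g (h.f m) := by
  have h1 : (g.quotKerEquivOfSurjective hg).symm (g m) = Submodule.Quotient.mk m := by
    rw [LinearEquiv.symm_apply_eq]; rfl
  rw [Data.quotF, LinearMap.comp_apply, LinearEquiv.coe_coe, h1, Submodule.liftQ_apply]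
  rfl

/-- Descent of the data along a surjection killing the kernel. -/
noncomputable def Data.quot : Data (g.compDer δ) where
  f := h.quotF hg hk
  fst_f n := by
    obtain ⟨m, rfl⟩ := hg n
    rw [h.quotF_apply hg hk]
    change ExteriorAlgebra.map g (T.fst (h.f m)) = _
    rw [h.fst_f, map_apply_ι]
  f_δ b := by
    change h.quotF hg hk (g (δ b)) = _
    rw [h.quotF_apply hg hk, h.f_δ]
    refine T.ext ?_ ?_
    · change ExteriorAlgebra.map g (ι A (δ b)) = ι A (g (δ b))
      rw [map_apply_ι]
    · change ExteriorAlgebra.map g 0 = 0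
      rw [map_zero]
  span := by
    rw [eq_top_iff]
    intro n _
    obtain ⟨m, rfl⟩ := hg n
    have hm : m ∈ Submodule.span A (Set.range δ) := by rw [h.span]; trivial
    have := Submodule.apply_mem_span_image_of_mem_span g hm
    refine Submodule.span_mono ?_ this
    rintro _ ⟨_, ⟨b, rfl⟩, rfl⟩
    exact ⟨b, rfl⟩

theorem Data.quot_f (m : M) : (h.quot hg hk).f (g m) = mapTD δ g (h.f m) :=
  h.quotF_apply hg hk m

theorem Data.quot_φ (x : ExteriorAlgebra A M) :
    (h.quot hg hk).φ (ExteriorAlgebra.map g x) = mapTD δ g (h.φ x) := by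
  have h1 : (h.quot hg hk).φ.comp (ExteriorAlgebra.map g) = (mapTD δ g).comp h.φ := by
    apply ExteriorAlgebra.hom_ext
    refine LinearMap.ext fun m => ?_
    change (h.quot hg hk).φ (ExteriorAlgebra.map g (ι A m)) = mapTD δ g (h.φ (ι A m))
    rw [map_apply_ι, Data.φ_ι, Data.φ_ι, h.quot_f hg hk]
  exact DFunLike.congr_fun h1 x

theorem Data.quot_dAdd (x : ExteriorAlgebra A M) :
    (h.quot hg hk).dAdd (ExteriorAlgebra.map g x) = ExteriorAlgebra.map g (h.dAdd x) := by
  rw [Data.dAdd_apply, h.quot_φ hg hk]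
  rfl

end Map

section Translate

variable {A : Type u} {M N : Type v} [CommRing A]
  [AddCommGroup M] [Module A M] [AddCommGroup N] [Module A N]

theorem coe_map (p : ℕ) (g : M →ₗ[A] N) (x : ↥(⋀[A]^p M)) :
    ((_root_.exteriorPower.map p g x : ↥(⋀[A]^p N)) : ExteriorAlgebra A N) =
      ExteriorAlgebra.map g (x : ExteriorAlgebra A M) := by
  have h : (⋀[A]^p N).subtype ∘ₗ _root_.exteriorPower.map p g =
      (ExteriorAlgebra.map g).toLinearMap ∘ₗ (⋀[A]^p M).subtype := by
    apply _root_.exteriorPower.linearMap_ext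
    ext m
    change ((_root_.exteriorPower.map p g (_root_.exteriorPower.ιMulti A p m) : ↥(⋀[A]^p N)) :
      ExteriorAlgebra A N) = ExteriorAlgebra.map g (ExteriorAlgebra.ιMulti A p m)
    rw [_root_.exteriorPower.map_apply_ιMulti, _root_.exteriorPower.ιMulti_apply_coe,
      ExteriorAlgebra.map_apply_ιMulti]
  exact DFunLike.congr_fun h x

theorem coe_oneEquiv_symm (m : M) :
    (((_root_.exteriorPower.oneEquiv A M).symm m : ↥(⋀[A]^1 M)) : ExteriorAlgebra A M) = ι A m := by
  rw [_root_.exteriorPower.oneEquiv_symm_apply, _root_.exteriorPower.ιMulti_apply_coe, ιMulti_succ_apply,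
    ιMulti_zero_apply, mul_one]

end Translate

section Unique

variable {R : Type w} {A : Type u} {M : Type v} [CommRing R] [CommRing A] [Algebra R A]
  [AddCommGroup M] [Module A M] [Module R M] [IsScalarTower R A M]

/-- The elements `b₀ • δ b₁ ∧ … ∧ δ b_p` generate `⋀^p M` additively when `δ(A)` spans `M`. -/
theorem closure_gen_eq_top (δ : Derivation R A M)
    (hδ : Submodule.span A (Set.range δ) = ⊤) (p : ℕ) :
    AddSubgroup.closure {x : ↥(⋀[A]^p M) | ∃ (b₀ : A) (b : Fin p → A),
      x = b₀ • _root_.exteriorPower.ιMulti A p (fun i => δ (b i))} = ⊤ := by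
  set G := AddSubgroup.closure {x : ↥(⋀[A]^p M) | ∃ (b₀ : A) (b : Fin p → A),
      x = b₀ • _root_.exteriorPower.ιMulti A p (fun i => δ (b i))} with hG
  have hsmul : ∀ (c : A) (x : ↥(⋀[A]^p M)), x ∈ G → c • x ∈ G := by
    intro c x hx
    induction hx using AddSubgroup.closure_induction with
    | mem y hy =>
      obtain ⟨b₀, b, rfl⟩ := hy
      rw [smul_smul]
      exact AddSubgroup.subset_closure ⟨_, _, rfl⟩
    | zero => rw [smul_zero]; exact G.zero_mem
    | add y z _ _ hy hz => rw [smul_add]; exact G.add_mem hy hz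
    | neg y _ hy => rw [smul_neg]; exact G.neg_mem hy
  rw [eq_top_iff]
  intro x hxtop
  clear hxtop
  have hx : x ∈ Submodule.span A
      (_root_.exteriorPower.ιMulti A p '' {a : Fin p → M | Set.range a ⊆ Set.range δ}) := by
    rw [_root_.exteriorPower.ιMulti_span_of_span A p M hδ]; trivial
  induction hx using Submodule.span_induction with
  | mem y hy =>
    obtain ⟨a, ha, rfl⟩ := hy
    have : ∀ i, ∃ b, δ b = a i := fun i => ha ⟨i, rfl⟩
    choose b hb using this
    apply AddSubgroup.subset_closure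
    refine ⟨1, b, ?_⟩
    rw [one_smul]
    congr 1
    funext i
    exact (hb i).symm
  | zero => exact G.zero_mem
  | add y z _ _ hy hz => exact G.add_mem hy hz
  | smul c y _ hy => exact hsmul c y hy

variable {δ : Derivation R A M} (h : Data δ)

/-- A family satisfying the rule is the restriction of the differential. -/
theorem Data.coe_eq_of_rule (d' : ∀ p : ℕ, ↥(⋀[A]^p M) →+ ↥(⋀[A]^(p + 1) M))
    (hd' : ∀ (p : ℕ) (b₀ : A) (b : Fin p → A),
      d' p (b₀ • _root_.exteriorPower.ιMulti A p (fun i => δ (b i))) =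
        _root_.exteriorPower.ιMulti A (p + 1) (Fin.cons (δ b₀) (fun i => δ (b i))))
    (p : ℕ) (y : ↥(⋀[A]^p M)) :
    ((d' p y : ↥(⋀[A]^(p + 1) M)) : ExteriorAlgebra A M) = h.dAdd (y : ExteriorAlgebra A M) := by
  have hy : y ∈ AddSubgroup.closure {x : ↥(⋀[A]^p M) | ∃ (b₀ : A) (b : Fin p → A),
      x = b₀ • _root_.exteriorPower.ιMulti A p (fun i => δ (b i))} := by
    rw [closure_gen_eq_top δ h.span p]; trivial
  induction hy using AddSubgroup.closure_induction with
  | mem x hx =>
    obtain ⟨b₀, b, rfl⟩ := hx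
    rw [hd', _root_.exteriorPower.ιMulti_apply_coe, Submodule.coe_smul, _root_.exteriorPower.ιMulti_apply_coe,
      h.dAdd_gen]
  | zero => simp
  | add x z _ _ hx hz => rw [map_add, Submodule.coe_add, hx, hz, Submodule.coe_add, map_add]
  | neg x _ hx => rw [map_neg, Submodule.coe_neg, hx, Submodule.coe_neg, map_neg]

end Unique

end Groth.Agent.Lib.Helper97.DeRhamRec
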