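import Groth.Prelude.Def_DefoSh2
import Groth.Agent.Lib.Helper62.ModIso

/-!
# Local triviality of first-order deformations, part 1: stalk criteria

* `stalk_bijective_of_addHom`: an additive map between the stalks of two deformations of `E` over `A`
  which commutes with the `A`-actions and the reductions is bijective.
* `isIso_of_restrict`: a morphism between restrictions (to an open `V`) of two deformations which
  commutes with the restricted actions and reductions is an isomorphism.
-/

set_option autoImplicit false
universe u
open CategoryTheory AlgebraicGeometry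

namespace Groth.Agent.Lib.Helper97.DefoLoc

open DefoSh Groth.Agent.Lib.Helper62

variable {k : Type u} [Field k] {X : Scheme.{u}} [X.Over (Spec (CommRingCat.of k))]
  {E : X.Modules} {A : ArtFun.Art k k}

theorem stalk_bijective_of_addHom (D D' : DefoSh.Defo E A) (p : X)
    (f : ↑(D.sheaf.presheaf.stalk p) →+ ↑(D'.sheaf.presheaf.stalk p))
    (hact : ∀ (a : A) v, f (RefHull.stalkMapₗ (D.act a) p v) = RefHull.stalkMapₗ (D'.act a) p (f v))
    (hcomp : ∀ v, RefHull.stalkMapₗ D'.π p (f v) = RefHull.stalkMapₗ D.π p v) :
    Function.Bijective f := by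
  letI := DefoSh.stalkModule D.sheaf D.act.toRingHom p
  letI := DefoSh.stalkModule D'.sheaf D'.act.toRingHom p
  haveI : Module.Flat A ↑(D'.sheaf.presheaf.stalk p) := D'.flat p
  let ψ : ↑(D.sheaf.presheaf.stalk p) →ₗ[A] ↑(D'.sheaf.presheaf.stalk p) :=
    { toFun := f
      map_add' := map_add _
      map_smul' := by
        intro a v
        exact hact a v }
  have hcomp' : ∀ v, RefHull.stalkMapₗ D'.π p (ψ v) = RefHull.stalkMapₗ D.π p v := hcomp
  have := bijective_of_flat_of_isNilpotent (IsLocalRing.maximalIdeal A)
    (isNilpotent_maximalIdeal A) ψ ?_ ?_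
  · exact this
  · intro w
    obtain ⟨v, hv⟩ := D.surj p (RefHull.stalkMapₗ D'.π p w)
    refine ⟨v, D'.ker_le p _ ?_⟩
    rw [map_sub, hcomp', hv, sub_self]
  · intro v hv
    apply D.ker_le p
    rw [← hcomp']
    exact defo_π_of_mem D' p _ hv

end Groth.Agent.Lib.Helper97.DefoLoc
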