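import Groth.Agent.Lib.Helper97.DefoLoc1

/-!
# Local triviality of first-order deformations, part 2: isomorphisms between restrictions
-/

set_option autoImplicit false
universe u
open CategoryTheory AlgebraicGeometry

namespace Groth.Agent.Lib.Helper97.DefoLoc

open DefoSh Groth.Agent.Lib.Helper62

section general

variable {Y : Scheme.{u}}

theorem sm_comp_apply {M N P : Y.Modules} (y : Y) (φ : M ⟶ N) (ψ : N ⟶ P)
    (v : ↑(M.presheaf.stalk y)) :
    RefHull.stalkMapₗ (φ ≫ ψ) y v = RefHull.stalkMapₗ ψ y (RefHull.stalkMapₗ φ y v) := by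
  change ((TopCat.Presheaf.stalkFunctor _ y).map ((Scheme.Modules.toPresheaf Y).map (φ ≫ ψ))).hom v = _
  rw [Functor.map_comp, Functor.map_comp]
  rfl

end general

variable {X : Scheme.{u}}

/-- naturality of the comparison of stalks of a restriction -/
theorem restrictStalk_nat (V : X.Opens) (y : (V : Scheme.{u})) {M N : X.Modules} (g : M ⟶ N)
    (w : ↑((M.restrict V.ι).presheaf.stalk y)) :
    ((Scheme.Modules.restrictStalkNatIso V.ι y).hom.app N).hom
      (RefHull.stalkMapₗ ((Scheme.Modules.restrictFunctor V.ι).map g) y w) =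
    RefHull.stalkMapₗ g (V.ι y) (((Scheme.Modules.restrictStalkNatIso V.ι y).hom.app M).hom w) := by
  have h := (Scheme.Modules.restrictStalkNatIso V.ι y).hom.naturality g
  exact congrArg (fun φ => φ.hom w) h

variable {k : Type u} [Field k] [X.Over (Spec (CommRingCat.of k))]
  {E : X.Modules} {A : ArtFun.Art k k}

/-- a morphism between the restrictions to an open of two deformations, compatible with the
actions and the reductions, is an isomorphism -/
theorem isIso_of_restrict (D D' : DefoSh.Defo E A) (V : X.Opens)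
    (τ : D.sheaf.restrict V.ι ⟶ D'.sheaf.restrict V.ι)
    (hact : ∀ a : A, (Scheme.Modules.restrictFunctor V.ι).map (D.act a) ≫ τ =
      τ ≫ (Scheme.Modules.restrictFunctor V.ι).map (D'.act a))
    (hπ : τ ≫ (Scheme.Modules.restrictFunctor V.ι).map D'.π =
      (Scheme.Modules.restrictFunctor V.ι).map D.π) : IsIso τ := by
  apply isIso_of_stalkMapₗ_bijective
  intro y
  let c := Scheme.Modules.restrictStalkNatIso V.ι y
  let cD : ↑((D.sheaf.restrict V.ι).presheaf.stalk y) →+ ↑(D.sheaf.presheaf.stalk (V.ι y)) :=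
    (c.hom.app D.sheaf).hom
  let cDi : ↑(D.sheaf.presheaf.stalk (V.ι y)) →+ ↑((D.sheaf.restrict V.ι).presheaf.stalk y) :=
    (c.inv.app D.sheaf).hom
  let cD' : ↑((D'.sheaf.restrict V.ι).presheaf.stalk y) →+ ↑(D'.sheaf.presheaf.stalk (V.ι y)) :=
    (c.hom.app D'.sheaf).hom
  let cDi' : ↑(D'.sheaf.presheaf.stalk (V.ι y)) →+ ↑((D'.sheaf.restrict V.ι).presheaf.stalk y) :=
    (c.inv.app D'.sheaf).hom
  let cE : ↑((E.restrict V.ι).presheaf.stalk y) →+ ↑(E.presheaf.stalk (V.ι y)) :=
    (c.hom.app E).hom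
  have h1 : ∀ w, cDi (cD w) = w := fun w => by
    have := c.hom_inv_id_app D.sheaf
    exact congrArg (fun φ => φ.hom w) this
  have h2 : ∀ v, cD (cDi v) = v := fun v => by
    have := c.inv_hom_id_app D.sheaf
    exact congrArg (fun φ => φ.hom v) this
  have h1' : ∀ w, cDi' (cD' w) = w := fun w => by
    have := c.hom_inv_id_app D'.sheaf
    exact congrArg (fun φ => φ.hom w) this
  have h2' : ∀ v, cD' (cDi' v) = v := fun v => by
    have := c.inv_hom_id_app D'.sheaf
    exact congrArg (fun φ => φ.hom v) this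
  let f : ↑(D.sheaf.presheaf.stalk (V.ι y)) →+ ↑(D'.sheaf.presheaf.stalk (V.ι y)) :=
    cD'.comp ((RefHull.stalkMapₗ τ y).toAddMonoidHom.comp cDi)
  have hf : ∀ v, f v = cD' (RefHull.stalkMapₗ τ y (cDi v)) := fun v => rfl
  have hbij : Function.Bijective f := by
    apply stalk_bijective_of_addHom D D' (V.ι y) f
    · intro a v
      rw [hf, hf]
      have e0 : cD (RefHull.stalkMapₗ ((Scheme.Modules.restrictFunctor V.ι).map (D.act a)) y (cDi v)) =
          RefHull.stalkMapₗ (D.act a) (V.ι y) (cD (cDi v)) :=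
        restrictStalk_nat V y (D.act a) (cDi v)
      rw [h2] at e0
      rw [← e0, h1, ← sm_comp_apply, hact a, sm_comp_apply]
      exact restrictStalk_nat V y (D'.act a) _
    · intro v
      rw [hf]
      have e2 : cE (RefHull.stalkMapₗ ((Scheme.Modules.restrictFunctor V.ι).map D'.π) y
            (RefHull.stalkMapₗ τ y (cDi v))) =
          RefHull.stalkMapₗ D'.π (V.ι y) (cD' (RefHull.stalkMapₗ τ y (cDi v))) :=
        restrictStalk_nat V y D'.π (RefHull.stalkMapₗ τ y (cDi v))
      have e3 : cE (RefHull.stalkMapₗ ((Scheme.Modules.restrictFunctor V.ι).map D.π) y (cDi v)) =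
          RefHull.stalkMapₗ D.π (V.ι y) (cD (cDi v)) :=
        restrictStalk_nat V y D.π (cDi v)
      rw [h2] at e3
      rw [← e2, ← sm_comp_apply, hπ, e3]
  have hτ : ∀ w, RefHull.stalkMapₗ τ y w = cDi' (f (cD w)) := fun w => by
    rw [hf, h1, h1']
  constructor
  · intro w w' hww
    have e := congrArg (fun z => cD' z) hww
    simp only at e
    have e' : f (cD w) = f (cD w') := by rw [hf, hf, h1, h1]; exact e
    have e'' := hbij.1 e'
    have := congrArg cDi e''
    rwa [h1, h1] at this
  · intro z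
    obtain ⟨v, hv⟩ := hbij.2 (cD' z)
    refine ⟨cDi v, ?_⟩
    rw [hτ, h2, hv, h1']

end Groth.Agent.Lib.Helper97.DefoLoc
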