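import Groth.Agent.Lib.Helper60.Fr3
import Groth.Agent.Lib.Helper74.ModSec

/-!
# Morphisms out of a module with a frame

Given a frame `e` of `E` over `V` and sections `d i` of `M` over `V`, the `O`-linear maps
`E(W) → M(W)` (`W ≤ V`) sending `e i` to `d i`; they assemble to a morphism `E|V ⟶ M|V`.
-/

set_option autoImplicit false
universe u
open CategoryTheory CategoryTheory.Limits AlgebraicGeometry TopologicalSpace Opposite

namespace Groth.Agent.Lib.Helper97.DefoLoc

open Groth.Agent.Lib.Helper35.Gen Groth.Agent.Lib.Helper35.AbSheaf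
open Groth.Agent.Lib.Helper60.ProjUPLib Groth.Agent.Lib.Helper60.FrameLib

variable {X : Scheme.{u}} {n : ℕ}

/-- the linear map `c ↦ ∑ c i • (d i)|W` -/
noncomputable def comb (M : X.Modules) {V : X.Opens} (d : Fin n → Γ(M, V)) (W : X.Opens)
    (hW : W ≤ V) : (Fin n → Γ(X, W)) →ₗ[Γ(X, W)] Γ(M, W) where
  toFun c := ∑ i, c i • rs M hW (d i)
  map_add' c c' := by
    simp only [Pi.add_apply, add_smul, Finset.sum_add_distrib]
  map_smul' r c := by
    simp only [Pi.smul_apply, smul_eq_mul, mul_smul, RingHom.id_apply, Finset.smul_sum]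

theorem comb_apply (M : X.Modules) {V : X.Opens} (d : Fin n → Γ(M, V)) (W : X.Opens)
    (hW : W ≤ V) (c : Fin n → Γ(X, W)) : comb M d W hW c = ∑ i, c i • rs M hW (d i) := rfl

theorem rs_comb (M : X.Modules) {V : X.Opens} (d : Fin n → Γ(M, V)) {W W' : X.Opens}
    (hW : W ≤ V) (h : W' ≤ W) (c : Fin n → Γ(X, W)) :
    rs M h (comb M d W hW c) = comb M d W' (h.trans hW) (fun i => rr X h (c i)) := by
  rw [comb_apply, comb_apply, map_sum]
  apply Finset.sum_congr rfl
  intro i _
  rw [rs_smul, rs_rs]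

theorem hom_comb {M N : X.Modules} (g : M ⟶ N) {V : X.Opens} (d : Fin n → Γ(M, V)) (W : X.Opens)
    (hW : W ≤ V) (c : Fin n → Γ(X, W)) :
    (g.app W).hom (comb M d W hW c) = comb N (fun i => (g.app V).hom (d i)) W hW c := by
  rw [comb_apply, comb_apply, map_sum]
  apply Finset.sum_congr rfl
  intro i _
  rw [Scheme.Modules.Hom.app_smul, hom_rs]

variable {E : X.Modules} {V : X.Opens} {e : Fin n → Γ(E, V)}

/-- the coefficient isomorphism of a frame -/
noncomputable def combEquiv (he : IsFrame E V e) (W : X.Opens) (hW : W ≤ V) :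
    (Fin n → Γ(X, W)) ≃ₗ[Γ(X, W)] Γ(E, W) :=
  LinearEquiv.ofBijective (comb E e W hW) (he W hW)

theorem combEquiv_apply (he : IsFrame E V e) (W : X.Opens) (hW : W ≤ V) (c : Fin n → Γ(X, W)) :
    combEquiv he W hW c = comb E e W hW c := rfl

/-- the map `E(W) → M(W)` with `e i ↦ d i` -/
noncomputable def sig (he : IsFrame E V e) (M : X.Modules) (d : Fin n → Γ(M, V)) (W : X.Opens)
    (hW : W ≤ V) : Γ(E, W) →ₗ[Γ(X, W)] Γ(M, W) :=
  (comb M d W hW).comp (combEquiv he W hW).symm.toLinearMap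

theorem sig_comb (he : IsFrame E V e) (M : X.Modules) (d : Fin n → Γ(M, V)) (W : X.Opens)
    (hW : W ≤ V) (c : Fin n → Γ(X, W)) :
    sig he M d W hW (comb E e W hW c) = comb M d W hW c := by
  change comb M d W hW ((combEquiv he W hW).symm (combEquiv he W hW c)) = _
  rw [LinearEquiv.symm_apply_apply]

theorem exists_comb (he : IsFrame E V e) (W : X.Opens) (hW : W ≤ V) (s : Γ(E, W)) :
    ∃ c, comb E e W hW c = s := (he W hW).2 s

theorem rs_sig (he : IsFrame E V e) (M : X.Modules) (d : Fin n → Γ(M, V)) {W W' : X.Opens}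
    (hW : W ≤ V) (h : W' ≤ W) (s : Γ(E, W)) :
    rs M h (sig he M d W hW s) = sig he M d W' (h.trans hW) (rs E h s) := by
  obtain ⟨c, rfl⟩ := exists_comb he W hW s
  rw [sig_comb, rs_comb, rs_comb, sig_comb]

theorem hom_sig (he : IsFrame E V e) {M N : X.Modules} (g : M ⟶ N) (d : Fin n → Γ(M, V))
    (W : X.Opens) (hW : W ≤ V) (s : Γ(E, W)) :
    (g.app W).hom (sig he M d W hW s) = sig he N (fun i => (g.app V).hom (d i)) W hW s := by
  obtain ⟨c, rfl⟩ := exists_comb he W hW s
  rw [sig_comb, hom_comb, sig_comb]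

theorem sig_self (he : IsFrame E V e) (W : X.Opens) (hW : W ≤ V) (s : Γ(E, W)) :
    sig he E e W hW s = s := by
  obtain ⟨c, rfl⟩ := exists_comb he W hW s
  rw [sig_comb]

end Groth.Agent.Lib.Helper97.DefoLoc
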