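import Groth.Agent.Lib.Helper97.DefoLoc3

/-!
# The morphism `E|V ⟶ M|V` attached to a frame of `E` over `V` and sections of `M` over `V`
-/

set_option autoImplicit false
universe u
open CategoryTheory CategoryTheory.Limits AlgebraicGeometry TopologicalSpace Opposite

namespace Groth.Agent.Lib.Helper97.DefoLoc

open Groth.Agent.Lib.Helper35.Gen Groth.Agent.Lib.Helper35.AbSheaf
open Groth.Agent.Lib.Helper60.ProjUPLib Groth.Agent.Lib.Helper60.FrameLib

variable {X : Scheme.{u}} {n : ℕ} {E : X.Modules} {V : X.Opens} {e : Fin n → Γ(E, V)}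

/-- the morphism `E|V ⟶ M|V` with `e i ↦ d i` -/
noncomputable def sigHom (he : IsFrame E V e) (M : X.Modules) (d : Fin n → Γ(M, V)) :
    E.restrict V.ι ⟶ M.restrict V.ι :=
  Groth.Agent.Lib.Helper74.ModSec.homOfSections (X := (V : Scheme.{u})) (E.restrict V.ι)
    (M.restrict V.ι)
    (fun W' => (sig he M d (V.ι ''ᵁ W') (V.ι_image_le W')).toAddMonoidHom)
    (fun {W W'} h t => by
      exact (rs_sig he M d (V.ι_image_le W) (Scheme.Hom.image_mono V.ι h) t).symm)
    (fun W r t => by
      exact (sig he M d (V.ι ''ᵁ W) (V.ι_image_le W)).map_smul ((V.ι.appIso W).inv r) t)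

theorem sigHom_app (he : IsFrame E V e) (M : X.Modules) (d : Fin n → Γ(M, V))
    (W' : (V : Scheme.{u}).Opens) (t : Γ(E.restrict V.ι, W')) :
    ((sigHom he M d).app W').hom t = sig he M d (V.ι ''ᵁ W') (V.ι_image_le W') t := rfl

theorem sigHom_comp_restrict (he : IsFrame E V e) {M N : X.Modules} (g : M ⟶ N)
    (d : Fin n → Γ(M, V)) :
    sigHom he M d ≫ (Scheme.Modules.restrictFunctor V.ι).map g =
      sigHom he N (fun i => (g.app V).hom (d i)) := by
  apply Groth.Agent.Lib.Helper74.ModSec.hom_ext_sec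
  intro W' t
  exact hom_sig he g d (V.ι ''ᵁ W') (V.ι_image_le W') t

theorem sigHom_self (he : IsFrame E V e) : sigHom he E e = 𝟙 _ := by
  apply Groth.Agent.Lib.Helper74.ModSec.hom_ext_sec
  intro W' t
  exact sig_self he (V.ι ''ᵁ W') (V.ι_image_le W') t

end Groth.Agent.Lib.Helper97.DefoLoc
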