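import Groth.Agent.Lib.Helper97.DefoLoc4
import Groth.Prelude.Def_FlatMod2
import Groth.Prelude.Def_RefHull

/-!
# Local frames of a finite locally free module whose members lift through a stalkwise surjection
-/

set_option autoImplicit false
universe u
open CategoryTheory CategoryTheory.Limits AlgebraicGeometry TopologicalSpace Opposite

namespace Groth.Agent.Lib.Helper97.DefoLoc

open Groth.Agent.Lib.Helper35.Gen Groth.Agent.Lib.Helper35.AbSheaf
open Groth.Agent.Lib.Helper60.ProjUPLib Groth.Agent.Lib.Helper60.FrameLib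

variable {X : Scheme.{u}} {E : X.Modules}

theorem exists_local_frame' (hE : FlatMod.IsFinLocFree E) (x : X) :
    ∃ (n : ℕ) (U : X.Opens), x ∈ U ∧ ∃ e : Fin n → Γ(E, U), IsFrame E U e := by
  obtain ⟨U, n, hxU, ⟨θ⟩⟩ := hE x
  have h1 : IsFrame (FlatMod.freeMod (↑U) n) ⊤ _ :=
    isFrame_sigma (fun _ : Fin n => Coh.structureModule (↑U : Scheme.{u})) ⊤ _
      (fun _ => isGen_one ⊤)
  have h2 := h1.map_iso θ.symm
  have h3 := isFrame_of_restrict E U.ι ⊤ _ h2
  exact ⟨n, U, hxU, _, isFrame_of_eq U.ι_image_top h3⟩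

theorem exists_frame_with_lifts {M : X.Modules} (π : M ⟶ E) (x : X)
    (hsurj : Function.Surjective (RefHull.stalkMapₗ π x)) (hE : FlatMod.IsFinLocFree E) :
    ∃ (n : ℕ) (V : X.Opens) (e : Fin n → Γ(E, V)) (d : Fin n → Γ(M, V)),
      x ∈ V ∧ IsFrame E V e ∧ ∀ i, (π.app V).hom (d i) = e i := by
  obtain ⟨n, U, hxU, e, he⟩ := exists_local_frame' hE x
  have key : ∀ i, ∃ W : X.Opens, x ∈ W ∧ ∃ (hW : W ≤ U) (d : Γ(M, W)),
      (π.app W).hom d = rs E hW (e i) := by
    intro i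
    obtain ⟨w, hw⟩ := hsurj (E.presheaf.germ U x hxU (e i))
    obtain ⟨W0, hxW0, m, rfl⟩ := TopCat.Presheaf.exists_germ_eq M.presheaf w
    rw [RefHull.stalkMapₗ_germ] at hw
    obtain ⟨W, hxW, i1, i2, heq⟩ := TopCat.Presheaf.germ_eq E.presheaf x hxW0 hxU _ _ hw
    refine ⟨W, hxW, i2.le, rs M i1.le m, ?_⟩
    rw [hom_rs]
    exact heq
  choose W hxW hWU d hd using key
  let V : X.Opens := (Finset.univ.inf W) ⊓ U
  have hVW : ∀ i, V ≤ W i := fun i => inf_le_left.trans (Finset.inf_le (Finset.mem_univ i))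
  have hVU : V ≤ U := inf_le_right
  have hxV : x ∈ V := by
    refine ⟨?_, hxU⟩
    exact Finset.inf_induction (p := fun O : X.Opens => x ∈ O) (by trivial)
      (fun a ha b hb => ⟨ha, hb⟩) (fun i _ => hxW i)
  refine ⟨n, V, fun i => rs E hVU (e i), fun i => rs M (hVW i) (d i), hxV, he.mono hVU, ?_⟩
  intro i
  rw [hom_rs, hd, rs_rs]

end Groth.Agent.Lib.Helper97.DefoLoc
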