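import Groth.Agent.Lib.Helper97.DefoLoc2
import Groth.Agent.Lib.Helper97.DefoLoc5

/-!
# Local triviality of first-order deformations of a finite locally free module
-/

set_option autoImplicit false
universe u
open CategoryTheory CategoryTheory.Limits AlgebraicGeometry TopologicalSpace Opposite

namespace Groth.Agent.Lib.Helper97.DefoLoc

open Groth.Agent.Lib.Helper35.Gen Groth.Agent.Lib.Helper35.AbSheaf
open Groth.Agent.Lib.Helper60.ProjUPLib Groth.Agent.Lib.Helper60.FrameLib
open DefoSh

variable {X : Scheme.{u}}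

theorem restrict_smulModΓ_comm (V : X.Opens) {M N : X.Modules} (r : Coh.Γtop X)
    (τ : M.restrict V.ι ⟶ N.restrict V.ι) :
    (Scheme.Modules.restrictFunctor V.ι).map (Formal.smulModΓ M r) ≫ τ =
      τ ≫ (Scheme.Modules.restrictFunctor V.ι).map (Formal.smulModΓ N r) := by
  apply Groth.Agent.Lib.Helper74.ModSec.hom_ext_sec
  intro W' t
  let r0 : Γ(X, V.ι ''ᵁ W') := Coh.resTop X (op (V.ι ''ᵁ W')) r
  let r' : Γ((V : Scheme.{u}), W') := (V.ι.appIso W').hom r0
  have hr : (V.ι.appIso W').inv r' = r0 := by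
    change ((V.ι.appIso W').hom ≫ (V.ι.appIso W').inv) r0 = r0
    rw [Iso.hom_inv_id]
    rfl
  have h1 := Scheme.Modules.Hom.app_smul τ r' t
  change (τ.app W').hom (r0 • (show Γ(M, V.ι ''ᵁ W') from t)) =
    r0 • (show Γ(N, V.ι ''ᵁ W') from (τ.app W').hom t)
  rw [← hr]
  exact h1

variable {k : Type u} [Field k] [X.Over (Spec (CommRingCat.of k))] {E : X.Modules}

theorem restrict_smulMod_comm (V : X.Opens) {M N : X.Modules} (c : k)
    (τ : M.restrict V.ι ⟶ N.restrict V.ι) :
    (Scheme.Modules.restrictFunctor V.ι).map (Formal.smulMod k M c) ≫ τ =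
      τ ≫ (Scheme.Modules.restrictFunctor V.ι).map (Formal.smulMod k N c) :=
  restrict_smulModΓ_comm V _ τ

theorem dual_decomp (a : DualNumber k) :
    a = algebraMap k (DualNumber k) (TrivSqZeroExt.fst a) +
      (DualNumber.eps : DualNumber k) * algebraMap k (DualNumber k) (TrivSqZeroExt.snd a) := by
  apply TrivSqZeroExt.ext
  · simp [TrivSqZeroExt.algebraMap_eq_inl, DualNumber.fst_eps]
  · simp [TrivSqZeroExt.algebraMap_eq_inl, DualNumber.fst_eps, DualNumber.snd_eps]

/-- the element `ε` of the dual numbers, as an element of the object `Art.dual k k` -/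
def epsA (k : Type u) [Field k] : ArtFun.Art.dual k k := (DualNumber.eps : DualNumber k)

theorem dual_decomp' (a : ArtFun.Art.dual k k) :
    a = algebraMap k (ArtFun.Art.dual k k) (TrivSqZeroExt.fst (a : DualNumber k)) +
      epsA k * algebraMap k (ArtFun.Art.dual k k) (TrivSqZeroExt.snd (a : DualNumber k)) :=
  dual_decomp (a : DualNumber k)

theorem act_decomp (D : DefoSh.Defo E (ArtFun.Art.dual k k)) (a : ArtFun.Art.dual k k) :
    (D.act a : D.sheaf ⟶ D.sheaf) =
      Formal.smulMod k D.sheaf (TrivSqZeroExt.fst (a : DualNumber k)) +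
        Formal.smulMod k D.sheaf (TrivSqZeroExt.snd (a : DualNumber k)) ≫ D.act (epsA k) := by
  have h := congrArg D.act (dual_decomp' a)
  rw [map_add, map_mul, D.act_algebraMap, D.act_algebraMap, End.mul_def] at h
  exact h

theorem act_comm_of_eps (D₁ D₂ : DefoSh.Defo E (ArtFun.Art.dual k k)) (V : X.Opens)
    (τ : D₁.sheaf.restrict V.ι ⟶ D₂.sheaf.restrict V.ι)
    (hε : (Scheme.Modules.restrictFunctor V.ι).map (D₁.act (epsA k)) ≫ τ =
      τ ≫ (Scheme.Modules.restrictFunctor V.ι).map (D₂.act (epsA k)))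
    (a : ArtFun.Art.dual k k) :
    (Scheme.Modules.restrictFunctor V.ι).map (D₁.act a) ≫ τ =
      τ ≫ (Scheme.Modules.restrictFunctor V.ι).map (D₂.act a) := by
  rw [act_decomp D₁ a, act_decomp D₂ a, Functor.map_add, Functor.map_add, Functor.map_comp,
    Functor.map_comp, Preadditive.add_comp, Preadditive.comp_add, Category.assoc, hε,
    restrict_smulMod_comm, ← Category.assoc _ τ, restrict_smulMod_comm, Category.assoc]

end Groth.Agent.Lib.Helper97.DefoLoc
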