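import Groth.Agent.Lib.Helper97.CartierH1
import Groth.Agent.S9319

/-!
# The generalised Cartier equality (indices of the comparison maps on `Ω` and `H¹`)
-/

set_option autoImplicit false
universe u

open TensorProduct KaehlerDifferential

namespace Groth.Agent.Lib.Helper97.GenCartier

open Groth.Agent.Lib.Helper97.Cartier

section LinAlg

variable {F : Type*} [Field F] {A B C : Type*} [AddCommGroup A] [Module F A]
  [AddCommGroup B] [Module F B] [AddCommGroup C] [Module F C]

/-- For an exact pair, the cokernel of the first map is the range of the second. -/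
noncomputable def cokerEquivRange {f : A →ₗ[F] B} {g : B →ₗ[F] C} (h : Function.Exact f g) :
    (B ⧸ LinearMap.range f) ≃ₗ[F] LinearMap.range g :=
  (Submodule.quotEquivOfEq _ _ (LinearMap.exact_iff.mp h).symm).trans g.quotKerEquivRange

end LinAlg

section Part1

variable (k K K' : Type u) [Field k] [Field K] [Field K'] [Algebra k K] [Algebra k K']
  [Algebra K K'] [IsScalarTower k K K'] [Algebra.EssFiniteType K K']

theorem part1 :
    Module.Finite K' (LinearMap.ker (mapBaseChange k K K')) ∧
    Module.Finite K' (Ω[K'⁄k] ⧸ LinearMap.range (mapBaseChange k K K')) ∧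
    Module.Finite K' (LinearMap.ker ((Algebra.H1Cotangent.map k k K K').liftBaseChange K')) ∧
    Module.Finite K' (Algebra.H1Cotangent k K' ⧸
      LinearMap.range ((Algebra.H1Cotangent.map k k K K').liftBaseChange K')) ∧
    (mapBaseChange k K K').index - ((Algebra.H1Cotangent.map k k K K').liftBaseChange K').index =
      - (Cardinal.toNat (Algebra.trdeg K K') : ℤ) := by
  obtain ⟨hΩ, hH, hcart⟩ := CartierH1.cartier (K := K) (L := K')
  set δ := Algebra.H1Cotangent.δ k K K' with hδ
  have e1 := Algebra.H1Cotangent.exact_δ_mapBaseChange k K K'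
  have e3 := Algebra.H1Cotangent.exact_liftBaseChange_map_of_flat k K K'
  have e4 := Algebra.H1Cotangent.exact_map_δ k K K'
  have hinj : Function.Injective ((Algebra.H1Cotangent.map k k K K').liftBaseChange K') :=
    Groth.Agent.S9319.result
  have hker1 : LinearMap.ker (mapBaseChange k K K') = LinearMap.range δ :=
    LinearMap.exact_iff.mp e1
  have hkerb : LinearMap.ker ((Algebra.H1Cotangent.map k k K K').liftBaseChange K') = ⊥ :=
    LinearMap.ker_eq_bot.mpr hinj
  have hrange : LinearMap.range (Algebra.H1Cotangent.map k K K' K') = LinearMap.ker δ :=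
    (LinearMap.exact_iff.mp e4).symm
  have f1 : Module.Finite K' (LinearMap.ker (mapBaseChange k K K')) := by
    rw [hker1]; infer_instance
  have f2 : Module.Finite K' (Ω[K'⁄k] ⧸ LinearMap.range (mapBaseChange k K K')) :=
    Module.Finite.equiv (cokerEquiv k K K').symm
  have f3 : Module.Finite K'
      (LinearMap.ker ((Algebra.H1Cotangent.map k k K K').liftBaseChange K')) := by
    rw [hkerb]; infer_instance
  have f4 : Module.Finite K' (Algebra.H1Cotangent k K' ⧸
      LinearMap.range ((Algebra.H1Cotangent.map k k K K').liftBaseChange K')) :=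
    Module.Finite.equiv (cokerEquivRange e3).symm
  refine ⟨f1, f2, f3, f4, ?_⟩
  rw [LinearMap.index_eq_finrank_sub, LinearMap.index_eq_finrank_sub, hkerb, finrank_bot,
    (cokerEquivRange e3).finrank_eq, hrange, hker1, (cokerEquiv k K K').finrank_eq]
  have := LinearMap.finrank_range_add_finrank_ker δ
  push_cast
  lia

end Part1

section Part2

variable (k k' K' : Type u) [Field k] [Field k'] [Field K'] [Algebra k k'] [Algebra k K']
  [Algebra k' K'] [IsScalarTower k k' K'] [Algebra.EssFiniteType k k']

theorem part2 :
    Module.Finite K' (LinearMap.ker (KaehlerDifferential.map k k' K' K')) ∧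
    Module.Finite K' (Ω[K'⁄k'] ⧸ LinearMap.range (KaehlerDifferential.map k k' K' K')) ∧
    Module.Finite K' (LinearMap.ker (Algebra.H1Cotangent.map k k' K' K')) ∧
    Module.Finite K' (Algebra.H1Cotangent k' K' ⧸
      LinearMap.range (Algebra.H1Cotangent.map k k' K' K')) ∧
    (KaehlerDifferential.map k k' K' K').index - (Algebra.H1Cotangent.map k k' K' K').index =
      (Cardinal.toNat (Algebra.trdeg k k') : ℤ) := by
  obtain ⟨hΩ, hH, hcart⟩ := CartierH1.cartier (K := k) (L := k')
  set γ := mapBaseChange k k' K' with hγ
  set δ := Algebra.H1Cotangent.δ k k' K' with hδ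
  set c1 := (Algebra.H1Cotangent.map k k k' K').liftBaseChange K' with hc1
  have e1 := Algebra.H1Cotangent.exact_δ_mapBaseChange k k' K'
  have e2 := KaehlerDifferential.exact_mapBaseChange_map k k' K'
  have e3 := Algebra.H1Cotangent.exact_liftBaseChange_map_of_flat k k' K'
  have e4 := Algebra.H1Cotangent.exact_map_δ k k' K'
  have hsurj := KaehlerDifferential.map_surjective k k' K'
  have hinj : Function.Injective c1 := Groth.Agent.S9319.result
  have hkerα : LinearMap.ker (KaehlerDifferential.map k k' K' K') = LinearMap.range γ :=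
    LinearMap.exact_iff.mp e2
  have hkerβ : LinearMap.ker (Algebra.H1Cotangent.map k k' K' K') = LinearMap.range c1 :=
    LinearMap.exact_iff.mp e3
  have hrangeδ : LinearMap.range δ = LinearMap.ker γ := (LinearMap.exact_iff.mp e1).symm
  have f1 : Module.Finite K' (LinearMap.ker (KaehlerDifferential.map k k' K' K')) := by
    rw [hkerα]; infer_instance
  have f2 : Module.Finite K' (Ω[K'⁄k'] ⧸ LinearMap.range (KaehlerDifferential.map k k' K' K')) := by
    rw [LinearMap.range_eq_top.mpr hsurj]; infer_instance
  have f3 : Module.Finite K' (LinearMap.ker (Algebra.H1Cotangent.map k k' K' K')) := by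
    rw [hkerβ]; infer_instance
  have f4 : Module.Finite K' (Algebra.H1Cotangent k' K' ⧸
      LinearMap.range (Algebra.H1Cotangent.map k k' K' K')) := by
    have : Module.Finite K' (LinearMap.range δ) := by rw [hrangeδ]; infer_instance
    exact Module.Finite.equiv (cokerEquivRange e4).symm
  refine ⟨f1, f2, f3, f4, ?_⟩
  rw [LinearMap.index_of_surjective hsurj, LinearMap.index_eq_finrank_sub,
    (cokerEquivRange e4).finrank_eq, hrangeδ, hkerα, hkerβ,
    ← (LinearEquiv.ofInjective c1 hinj).finrank_eq, Module.finrank_baseChange]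
  have h1 := LinearMap.finrank_range_add_finrank_ker γ
  rw [Module.finrank_baseChange] at h1
  push_cast
  lia

end Part2

end Groth.Agent.Lib.Helper97.GenCartier
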