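import Mathlib.RingTheory.Extension.Cotangent.BaseChange
import Mathlib.RingTheory.IsTensorProduct

set_option autoImplicit false

/-! Flat base change for `H¹` of the naive cotangent complex, in `IsPushout` form. -/

namespace Groth.Agent.Lib.Helper97.H1FlatPushout

open TensorProduct Algebra

universe u

variable (R S T S' : Type u) [CommRing R] [CommRing S] [CommRing T] [CommRing S']
  [Algebra R S] [Algebra R T] [Algebra T S'] [Algebra S S'] [Algebra R S']
  [IsScalarTower R T S'] [IsScalarTower R S S']

/-- The comparison map `T ⊗[R] H¹(L_{S/R}) → H¹(L_{S'/T})`. -/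
noncomputable def Θ : T ⊗[R] H1Cotangent R S →ₗ[T] H1Cotangent T S' :=
  ((H1Cotangent.map R T S S').restrictScalars R).liftBaseChange T

@[simp] lemma Θ_tmul (t : T) (x : H1Cotangent R S) :
    Θ R S T S' (t ⊗ₜ x) = t • H1Cotangent.map R T S S' x := by
  simp [Θ]

attribute [local instance] Algebra.TensorProduct.rightAlgebra

theorem Θ_injective [Module.Flat R T] [Algebra.IsPushout R T S S'] :
    Function.Injective (Θ R S T S') := by
  let e := Algebra.IsPushout.equiv R T S S'
  letI : Algebra S' (T ⊗[R] S) := e.symm.toRingHom.toAlgebra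
  haveI : IsScalarTower T S' (T ⊗[R] S) := IsScalarTower.of_algebraMap_eq fun t => by
    change _ = e.symm (algebraMap T S' t)
    rw [Algebra.IsPushout.equiv_symm_algebraMap_left]
    rfl
  haveI : IsScalarTower S S' (T ⊗[R] S) := IsScalarTower.of_algebraMap_eq fun s => by
    change _ = e.symm (algebraMap S S' s)
    rw [Algebra.IsPushout.equiv_symm_algebraMap_right]
    rfl
  let G := H1Cotangent.map T T S' (T ⊗[R] S)
  have hG : ∀ x : H1Cotangent R S, G (H1Cotangent.map R T S S' x) =
      H1Cotangent.map R T S (T ⊗[R] S) x := by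
    intro x
    simp only [G, H1Cotangent.map]
    rw [← Extension.H1Cotangent.map_comp_apply, Extension.H1Cotangent.map_eq]
  have key : ∀ z, tensorH1CotangentOfFlat R S T z = G (Θ R S T S' z) := by
    intro z
    induction z with
    | zero => simp
    | add x y hx hy => simp only [map_add, hx, hy]
    | tmul t x =>
      rw [tensorH1CotangentOfFlat_tmul, Θ_tmul, G.map_smul_of_tower, hG]
  intro a b hab
  apply (tensorH1CotangentOfFlat R S T).injective
  rw [key, key, hab]

end Groth.Agent.Lib.Helper97.H1FlatPushout
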