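import Groth.Agent.Lib.Helper97.H1FlatPushout
import Mathlib.RingTheory.Kaehler.JacobiZariski
import Mathlib.RingTheory.AdjoinRoot
import Mathlib.FieldTheory.PrimitiveElement
import Mathlib.RingTheory.Etale.Field
import Mathlib.RingTheory.Polynomial.Basic

set_option autoImplicit false

/-! `H¹` of the cotangent complex and finite separable residue field extensions. -/

namespace Groth.Agent.Lib.Helper97.H1Sep

open TensorProduct Algebra

universe u

section Lift

variable (Λ k' k L : Type u) [CommRing Λ] [CommRing k'] [CommRing k] [CommRing L]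
  [Algebra Λ k'] [Algebra k' k] [Algebra Λ k] [IsScalarTower Λ k' k]
  [Algebra Λ L] [Algebra L k] [IsScalarTower Λ L k]

/-- `L ⊗[Λ] V → k ⊗[k'] V`. -/
noncomputable def ψ : L ⊗[Λ] H1Cotangent Λ k' →ₗ[Λ] k ⊗[k'] H1Cotangent Λ k' :=
  (TensorProduct.mapOfCompatibleSMul k' Λ Λ k (H1Cotangent Λ k')) ∘ₗ
    (TensorProduct.map ((Algebra.linearMap L k).restrictScalars Λ) LinearMap.id)

@[simp] lemma ψ_tmul (l : L) (v : H1Cotangent Λ k') :
    ψ Λ k' k L (l ⊗ₜ v) = algebraMap L k l ⊗ₜ[k'] v := by
  simp [ψ]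

lemma ψ_surjective (h : Function.Surjective (algebraMap L k)) :
    Function.Surjective (ψ Λ k' k L) := by
  intro x
  induction x with
  | zero => exact ⟨0, map_zero _⟩
  | add x y hx hy =>
    obtain ⟨a, rfl⟩ := hx
    obtain ⟨b, rfl⟩ := hy
    exact ⟨a + b, map_add _ _ _⟩
  | tmul c v =>
    obtain ⟨l, rfl⟩ := h c
    exact ⟨l ⊗ₜ v, ψ_tmul Λ k' k L l v⟩

theorem injective_of_lift [Module.Flat Λ L] [Algebra.IsPushout Λ L k' k]
    (h : Function.Surjective (algebraMap L k)) :
    Function.Injective ((H1Cotangent.map Λ Λ k' k).liftBaseChange k) := by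
  have hΘ := H1FlatPushout.Θ_injective Λ k' L k
  have hγ : ∀ v : H1Cotangent Λ k', H1Cotangent.map Λ L k k (H1Cotangent.map Λ Λ k' k v) =
      H1Cotangent.map Λ L k' k v := by
    intro v
    simp only [H1Cotangent.map]
    rw [← Extension.H1Cotangent.map_comp_apply, Extension.H1Cotangent.map_eq]
  have key : ∀ y, H1FlatPushout.Θ Λ k' L k y =
      H1Cotangent.map Λ L k k (((H1Cotangent.map Λ Λ k' k).liftBaseChange k) (ψ Λ k' k L y)) := by
    intro y
    induction y with
    | zero => simp
    | add x y hx hy => simp only [map_add, hx, hy]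
    | tmul l v =>
      rw [H1FlatPushout.Θ_tmul, ψ_tmul, LinearMap.liftBaseChange_tmul, map_smul, hγ,
        algebraMap_smul]
  rw [injective_iff_map_eq_zero]
  intro x hx
  obtain ⟨y, rfl⟩ := ψ_surjective Λ k' k L h x
  have h0 : H1FlatPushout.Θ Λ k' L k y = 0 := by rw [key, hx, map_zero]
  have : y = 0 := hΘ (by rw [h0, map_zero])
  rw [this, map_zero]

end Lift

section Field

variable (Λ k' k : Type u) [CommRing Λ] [Field k'] [Field k]
  [Algebra Λ k'] [Algebra k' k] [Algebra Λ k] [IsScalarTower Λ k' k]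

theorem surjective [Algebra.IsSeparable k' k] :
    Function.Surjective ((H1Cotangent.map Λ Λ k' k).liftBaseChange k) := by
  have := Algebra.FormallyEtale.of_isSeparable k' k
  have : Subsingleton (H1Cotangent k' k) := FormallySmooth.subsingleton_h1Cotangent
  have hex := H1Cotangent.exact_liftBaseChange_map_of_flat Λ k' k
  intro y
  exact (hex y).mp (Subsingleton.elim _ _)

open Polynomial in
theorem injective (hsurj : Function.Surjective (algebraMap Λ k')) [FiniteDimensional k' k]
    [Algebra.IsSeparable k' k] :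
    Function.Injective ((H1Cotangent.map Λ Λ k' k).liftBaseChange k) := by
  obtain ⟨θ, hθ⟩ := Field.exists_primitive_element k' k
  have hint : IsIntegral k' θ := Algebra.IsIntegral.isIntegral θ
  have hfm := minpoly.monic hint
  obtain ⟨F, hFmap, hFdeg, hFm⟩ := Polynomial.lifts_and_natDegree_eq_and_monic
    (Polynomial.mem_lifts_of_surjective hsurj (minpoly k' θ)) hfm
  have heval : ∀ P : Λ[X], Polynomial.eval₂ (algebraMap Λ k) θ P =
      Polynomial.aeval θ (P.map (algebraMap Λ k')) := by
    intro P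
    rw [Polynomial.aeval_def, Polynomial.eval₂_map, ← IsScalarTower.algebraMap_eq]
  have hroot : Polynomial.eval₂ (algebraMap Λ k) θ F = 0 := by
    rw [heval, hFmap, minpoly.aeval]
  letI : Algebra (AdjoinRoot F) k := (AdjoinRoot.lift (algebraMap Λ k) θ hroot).toAlgebra
  have halg : ∀ l : AdjoinRoot F, algebraMap (AdjoinRoot F) k l =
      AdjoinRoot.lift (algebraMap Λ k) θ hroot l := fun _ => rfl
  haveI : IsScalarTower Λ (AdjoinRoot F) k := IsScalarTower.of_algebraMap_eq fun c => by
    rw [halg, AdjoinRoot.algebraMap_eq, AdjoinRoot.lift_of]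
  haveI : Nontrivial Λ := (algebraMap Λ k').domain_nontrivial
  let pb := AdjoinRoot.powerBasis' hFm
  haveI : Module.Free Λ (AdjoinRoot F) := Module.Free.of_basis pb.basis
  haveI : Module.Finite Λ (AdjoinRoot F) := pb.finite
  -- every element of `k` is a polynomial in `θ`
  have hadj : ∀ y : k, ∃ p : k'[X], Polynomial.aeval θ p = y := by
    intro y
    have h1 : Algebra.adjoin k' {θ} = ⊤ := by
      rw [← IntermediateField.adjoin_simple_toSubalgebra_of_isAlgebraic hint.isAlgebraic, hθ,
        IntermediateField.top_toSubalgebra]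
    have h2 : y ∈ Algebra.adjoin k' {θ} := by rw [h1]; trivial
    rw [Algebra.adjoin_singleton_eq_range_aeval] at h2
    exact h2
  have hLk : Function.Surjective (algebraMap (AdjoinRoot F) k) := by
    intro y
    obtain ⟨p, rfl⟩ := hadj y
    obtain ⟨P, rfl⟩ := Polynomial.map_surjective _ hsurj p
    exact ⟨AdjoinRoot.mk F P, by rw [halg, AdjoinRoot.lift_mk, heval]⟩
  -- the pushout property by a dimension count
  let ψ₀ : k' ⊗[Λ] AdjoinRoot F →ₗ[k'] k :=
    (IsScalarTower.toAlgHom Λ (AdjoinRoot F) k).toLinearMap.liftBaseChange k'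
  have hψsurj : Function.Surjective ψ₀ := by
    intro y
    obtain ⟨l, rfl⟩ := hLk y
    exact ⟨1 ⊗ₜ l, by simp [ψ₀]⟩
  have hfin : Module.finrank k' (k' ⊗[Λ] AdjoinRoot F) = Module.finrank k' k := by
    rw [Module.finrank_baseChange, pb.finrank, AdjoinRoot.powerBasis'_dim, hFdeg,
      (Field.primitive_element_iff_minpoly_natDegree_eq k' θ).mp hθ]
  have hψinj : Function.Injective ψ₀ :=
    (LinearMap.injective_iff_surjective_of_finrank_eq_finrank hfin).mpr hψsurj
  have hpo : Algebra.IsPushout Λ k' (AdjoinRoot F) k :=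
    ⟨IsBaseChange.of_equiv (LinearEquiv.ofBijective ψ₀ ⟨hψinj, hψsurj⟩) (fun x => by simp [ψ₀])⟩
  have : Algebra.IsPushout Λ (AdjoinRoot F) k' k := hpo.symm
  exact injective_of_lift Λ k' k (AdjoinRoot F) hLk

theorem bijective (hsurj : Function.Surjective (algebraMap Λ k')) [FiniteDimensional k' k]
    [Algebra.IsSeparable k' k] :
    Function.Bijective ((H1Cotangent.map Λ Λ k' k).liftBaseChange k) :=
  ⟨injective Λ k' k hsurj, surjective Λ k' k⟩

end Field

end Groth.Agent.Lib.Helper97.H1Sep
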