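import Groth.Agent.Lib.Helper97.TwistExact2
import Groth.Agent.Lib.Helper35.PbAmple
import Groth.Agent.Lib.Helper68.RightDerivedLES
import Groth.Prelude.Def_KRR

/-!
# Helpers for Castelnuovo–Mumford regular sheaves on `P^n_T` (KRR.IsRegSheaf)
-/

set_option autoImplicit false
universe u
open CategoryTheory CategoryTheory.Limits AlgebraicGeometry

namespace Groth.Agent.Lib.Helper97.KRRReg

open Groth.Agent.Lib.Helper78.ModStalkExact

section general

variable {X : Scheme.{u}}

/-- `L ⊗ -` as a functor. -/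
noncomputable def twL (L : X.Modules) : X.Modules ⥤ X.Modules :=
  (ModSite.tensorBi X.sheaf).obj L

theorem twL_obj (L M : X.Modules) : (twL L).obj M = CohB1.tensorMod L M := rfl

instance twL_additive (L : X.Modules) : (twL L).Additive :=
  Groth.Agent.Lib.Helper42.Flat2.tensL_additive X.sheaf L

theorem shortExact_twL (L : X.Modules) (hL : ModSite.IsFlat (O := X.sheaf) L)
    (S : ShortComplex X.Modules) (hS : S.ShortExact) : (S.map (twL L)).ShortExact := by
  have h := (Functor.preservesFiniteColimits_iff_forall_exact_map_and_epi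
    (Groth.Agent.Lib.Helper42.Flat.tensL X.sheaf L)).mp inferInstance S hS
  have hm := (Groth.Agent.Lib.Helper42.Flat2.isFlat_iff_preservesMono' X.sheaf L).mp hL
  have hmono : Mono S.f := hS.mono_f
  exact
    { exact := h.1
      mono_f := @Functor.PreservesMonomorphisms.preserves _ _ _ _ _ hm _ _ S.f hmono
      epi_g := h.2 }

variable {Y : Scheme.{u}} (f : X ⟶ Y)

theorem isZero_Rpush_mid (S : ShortComplex X.Modules) (hS : S.ShortExact) (i : ℕ)
    (h1 : IsZero ((Coh.RpushAb f i).obj (Coh.toAb S.X₁)))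
    (h3 : IsZero ((Coh.RpushAb f i).obj (Coh.toAb S.X₃))) :
    IsZero ((Coh.RpushAb f i).obj (Coh.toAb S.X₂)) :=
  Groth.Agent.Lib.Helper68.RightDerivedLES.isZero_mid (Coh.pushAb f) (shortExact_toSh S hS) i h1 h3

theorem isZero_Rpush_right (S : ShortComplex X.Modules) (hS : S.ShortExact) (i : ℕ)
    (h2 : IsZero ((Coh.RpushAb f i).obj (Coh.toAb S.X₂)))
    (h1 : IsZero ((Coh.RpushAb f (i + 1)).obj (Coh.toAb S.X₁))) :
    IsZero ((Coh.RpushAb f i).obj (Coh.toAb S.X₃)) :=
  Groth.Agent.Lib.Helper68.RightDerivedLES.isZero_right (Coh.pushAb f) (shortExact_toSh S hS) i h2 h1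

theorem isZero_Rpush_left (S : ShortComplex X.Modules) (hS : S.ShortExact) (i : ℕ)
    (h3 : IsZero ((Coh.RpushAb f i).obj (Coh.toAb S.X₃)))
    (h2 : IsZero ((Coh.RpushAb f (i + 1)).obj (Coh.toAb S.X₂))) :
    IsZero ((Coh.RpushAb f (i + 1)).obj (Coh.toAb S.X₁)) :=
  Groth.Agent.Lib.Helper68.RightDerivedLES.isZero_left (Coh.pushAb f) (shortExact_toSh S hS) i h3 h2

end general

section PnT

variable (n : ℕ) (T : Scheme.{u})

theorem isInvertible_twistOver (d : ℤ) : PicF.IsInvertible (Twist.twistOver n T d) :=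
  Groth.Agent.Lib.Helper35.PbInv.isInvertible_pullback _
    ((Groth.Agent.S2352.result (CohB1.polyGrading n (ULift.{u} ℤ))
      (Groth.Agent.Lib.Helper60.AutPn.hgen_poly n (ULift.{u} ℤ))).1 d)

theorem isFlat_twistOver (d : ℤ) :
    ModSite.IsFlat (O := (KRR.PY n T).sheaf) (Twist.twistOver n T d) :=
  Groth.Agent.Lib.Helper97.TwistExact.isFlat_of_isInvertible _ (isInvertible_twistOver n T d)

theorem twL_twistOver_obj (d : ℤ) (F : (KRR.PY n T).Modules) :
    (twL (Twist.twistOver n T d)).obj F = KRR.twF n T d F := rfl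

theorem shortExact_twF (d : ℤ) (S : ShortComplex (KRR.PY n T).Modules) (hS : S.ShortExact) :
    (S.map (twL (Twist.twistOver n T d))).ShortExact :=
  shortExact_twL _ (isFlat_twistOver n T d) S hS

end PnT

end Groth.Agent.Lib.Helper97.KRRReg
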