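import Groth.Agent.Lib.Helper97.KRRReg
import Groth.Agent.Lib.Helper35.PbTensor

/-!
# Twist associativity on `P^n_T`: `O(a) ⊗ (O(b) ⊗ F) ≅ O(a+b) ⊗ F`
-/

set_option autoImplicit false
universe u
open CategoryTheory CategoryTheory.Limits AlgebraicGeometry

namespace Groth.Agent.Lib.Helper97.KRRReg

open Groth.Agent.Lib.Helper97.TwistExact

section general

variable {X : Scheme.{u}}

/-- the braiding `M ⊗ N ≅ N ⊗ M` of the sheaf tensor product -/
noncomputable def braidIso (M N : X.Modules) : CohB1.tensorMod M N ≅ CohB1.tensorMod N M :=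
  (Groth.Agent.Lib.Helper42.Flat.tensLRIso X.sheaf M).app N

/-- `A ⊗ (B ⊗ F) ≅ F ⊗ (B ⊗ A)` for invertible `A`, `B` and arbitrary `F`. -/
noncomputable def assocBraidIso {A B : X.Modules} (hA : PicF.IsInvertible A)
    (hB : PicF.IsInvertible B) (F : X.Modules) :
    CohB1.tensorMod A (CohB1.tensorMod B F) ≅ CohB1.tensorMod F (CohB1.tensorMod B A) :=
  braidIso A (CohB1.tensorMod B F) ≪≫ (twistF A).mapIso (braidIso B F) ≪≫
    Groth.Agent.Lib.Lead.Inv.assocIso (Groth.Agent.Lib.Lead.Inv.assocOK_of_mid_right hB hA)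

theorem nonempty_tensor_tensor_iso {A B AB : X.Modules} (hA : PicF.IsInvertible A)
    (hB : PicF.IsInvertible B) (e : CohB1.tensorMod B A ≅ AB) (F : X.Modules) :
    Nonempty (CohB1.tensorMod A (CohB1.tensorMod B F) ≅ CohB1.tensorMod AB F) :=
  ⟨assocBraidIso hA hB F ≪≫ (tensLF F).mapIso e ≪≫ braidIso F AB⟩

end general

section PnT

variable (n : ℕ) (T : Scheme.{u})

theorem nonempty_twistOver_mul (a b : ℤ) :
    Nonempty (CohB1.tensorMod (Twist.twistOver n T a) (Twist.twistOver n T b) ≅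
      Twist.twistOver n T (a + b)) := by
  have hinv := fun d : ℤ => (Groth.Agent.S2352.result (CohB1.polyGrading n (ULift.{u} ℤ))
      (Groth.Agent.Lib.Helper60.AutPn.hgen_poly n (ULift.{u} ℤ))).1 d
  obtain ⟨e⟩ := (Groth.Agent.S2352.result (CohB1.polyGrading n (ULift.{u} ℤ))
      (Groth.Agent.Lib.Helper60.AutPn.hgen_poly n (ULift.{u} ℤ))).2.1 a b
  obtain ⟨c⟩ := Groth.Agent.Lib.Helper35.PbTensor.nonempty_pullback_tensorMod
    (pullback.fst (CohB1.ProjSpace.toSpec n (ULift.{u} ℤ)) (specULiftZIsTerminal.from T))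
    (hinv a) (hinv b)
  exact ⟨c.symm ≪≫ (Scheme.Modules.pullback _).mapIso e⟩

theorem nonempty_twF_twF_iso (a b c : ℤ) (hc : b + a = c) (F : (KRR.PY n T).Modules) :
    Nonempty (KRR.twF n T a (KRR.twF n T b F) ≅ KRR.twF n T c F) := by
  subst hc
  obtain ⟨e⟩ := nonempty_twistOver_mul n T b a
  exact nonempty_tensor_tensor_iso (isInvertible_twistOver n T a) (isInvertible_twistOver n T b) e F

/-- transport of vanishing of higher direct images along an isomorphism of modules -/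
theorem isZero_Rpush_of_iso {X Y : Scheme.{u}} (f : X ⟶ Y) {M N : X.Modules} (e : M ≅ N) (i : ℕ)
    (h : IsZero ((Coh.RpushAb f i).obj (Coh.toAb M))) :
    IsZero ((Coh.RpushAb f i).obj (Coh.toAb N)) :=
  IsZero.of_iso h ((Coh.RpushAb f i).mapIso
    ((SheafOfModules.toSheaf X.ringCatSheaf).mapIso e.symm))

end PnT

end Groth.Agent.Lib.Helper97.KRRReg
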