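import Groth.Agent.Lib.Helper97.KRRReg2
import Groth.Agent.Lib.Helper74.ModInv
import Groth.Agent.Lib.Lead.SerreH1
import Mathlib.Algebra.Category.ModuleCat.Sheaf.PullbackFree

/-!
# `O(0) ⊗ F ≅ F` on `P^n_T` and the low-degree part of the long exact sequence of `R^i f_*`
-/

set_option autoImplicit false
universe u
open CategoryTheory CategoryTheory.Limits AlgebraicGeometry TopologicalSpace

namespace Groth.Agent.Lib.Helper97.KRRReg

open Groth.Agent.Lib.Helper97.TwistExact Groth.Agent.Lib.Helper78.ModStalkExact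

section general

theorem final_opens_map' {X Y : TopCat.{u}} (f : X ⟶ Y) : (Opens.map f).Final := by
  refine ⟨fun d => ?_⟩
  have : Nonempty (StructuredArrow d (Opens.map f)) :=
    ⟨StructuredArrow.mk (Y := (⊤ : Opens Y)) (homOfLE (by intro x _; trivial))⟩
  refine zigzag_isConnected (fun a b => ?_)
  let t : StructuredArrow d (Opens.map f) :=
    StructuredArrow.mk (Y := (⊤ : Opens Y)) (homOfLE (by intro x _; trivial))
  have ha : a ⟶ t := StructuredArrow.homMk (homOfLE le_top) (Subsingleton.elim _ _)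
  have hb : b ⟶ t := StructuredArrow.homMk (homOfLE le_top) (Subsingleton.elim _ _)
  exact (Zigzag.of_hom ha).trans (Zigzag.of_inv hb)

/-- the pullback of the structure module is the structure module -/
noncomputable def pullbackUnitIso' {X Y : Scheme.{u}} (h : Y ⟶ X) :
    (Scheme.Modules.pullback h).obj (Coh.structureModule X) ≅ Coh.structureModule Y := by
  have : (Opens.map h.base).Final := final_opens_map' h.base
  have : (SheafOfModules.pushforward h.toRingCatSheafHom).IsRightAdjoint :=
    inferInstanceAs ((Scheme.Modules.pushforward h).IsRightAdjoint)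
  have : IsIso (SheafOfModules.pullbackObjUnitToUnit h.toRingCatSheafHom) := by
    exact SheafOfModules.instIsIsoPullbackObjUnitToUnitOfFinal _
  exact @asIso _ _ _ _ (SheafOfModules.pullbackObjUnitToUnit h.toRingCatSheafHom) this

variable {X : Scheme.{u}}

/-- `O ⊗ F ≅ F` -/
noncomputable def unitTensorIso (F : X.Modules) :
    CohB1.tensorMod (Coh.structureModule X) F ≅ F :=
  braidIso (Coh.structureModule X) F ≪≫
    (Groth.Agent.Lib.Helper74.ModInv.tensRUnitIso X.sheaf).app F

variable {Y : Scheme.{u}} (f : X ⟶ Y)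

open Groth.Agent.Lib.Helper68 in
/-- If `f_* X₂ ⟶ f_* X₃` is an epimorphism and `R¹f_* X₂ = 0` then `R¹f_* X₁ = 0`. -/
theorem isZero_Rpush_one_left (S : ShortComplex X.Modules) (hS : S.ShortExact)
    (hepi : Epi ((Scheme.Modules.pushforward f).map S.g))
    (h2 : IsZero ((Coh.RpushAb f 1).obj (Coh.toAb S.X₂))) :
    IsZero ((Coh.RpushAb f 1).obj (Coh.toAb S.X₁)) := by
  have hT := shortExact_toSh S hS
  -- `f_*` of the abelian sheaves is an epimorphism
  have h1 : Epi ((toSh Y).map ((Scheme.Modules.pushforward f).map S.g)) := by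
    haveI := hepi
    exact Functor.map_epi (toSh Y) _
  have h1' : Epi ((Coh.pushAb f).map (S.map (toSh X)).g) := h1
  -- hence so is `R⁰`
  have h3 : Epi (((Coh.pushAb f).rightDerived 0).map (S.map (toSh X)).g) := by
    have e : ((Coh.pushAb f).rightDerived 0).map (S.map (toSh X)).g =
        (Coh.pushAb f).rightDerivedZeroIsoSelf.hom.app _ ≫ (Coh.pushAb f).map (S.map (toSh X)).g ≫
          (Coh.pushAb f).rightDerivedZeroIsoSelf.inv.app _ := by
      rw [← Category.assoc, ← (Coh.pushAb f).rightDerivedZeroIsoSelf.hom.naturality, Category.assoc,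
        Iso.hom_inv_id_app, Category.comp_id]
    rw [e]
    infer_instance
  have hδ : RightDerivedLES.δ (Coh.pushAb f) hT 0 = 0 := by
    rw [← cancel_epi (((Coh.pushAb f).rightDerived 0).map (S.map (toSh X)).g),
      RightDerivedLES.map_g_δ, comp_zero]
  haveI hmono : Mono (((Coh.pushAb f).rightDerived 1).map (S.map (toSh X)).f) :=
    (RightDerivedLES.exact₁ (Coh.pushAb f) hT 0).mono_g hδ
  exact @IsZero.of_mono _ _ _ _ _ _ hmono h2

end general

section PnT

variable (n : ℕ) (T : Scheme.{u})

theorem nonempty_twistOver_zero_iso :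
    Nonempty (Twist.twistOver n T 0 ≅ Coh.structureModule (KRR.PY n T)) := by
  obtain ⟨e⟩ := (Groth.Agent.S2352.result (CohB1.polyGrading n (ULift.{u} ℤ))
      (Groth.Agent.Lib.Helper60.AutPn.hgen_poly n (ULift.{u} ℤ))).2.2 0
  have e' : Twist.twistProjSpace n (ULift.{u} ℤ) 0 ≅
      Coh.structureModule (CohB1.ProjSpace n (ULift.{u} ℤ)) := e
  exact ⟨(Scheme.Modules.pullback _).mapIso e' ≪≫ pullbackUnitIso' _⟩

theorem nonempty_twF_zero_iso (F : (KRR.PY n T).Modules) :
    Nonempty (KRR.twF n T 0 F ≅ F) := by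
  obtain ⟨e⟩ := nonempty_twistOver_zero_iso n T
  exact ⟨(twistF F).mapIso e ≪≫ unitTensorIso F⟩

end PnT

end Groth.Agent.Lib.Helper97.KRRReg
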