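import Groth.Agent.Lib.Helper97.PthPower
import Groth.Agent.Lib.Helper49.Admissible
import Mathlib.RingTheory.LaurentSeries
import Mathlib.RingTheory.PowerSeries.Expand
import Mathlib.FieldTheory.Perfect

/-!
# `p`-bases, `[K : K^p]` and the absolute differentials of a Laurent series field
-/

set_option autoImplicit false
universe u

namespace Groth.Agent.Lib.Helper97.LaurentPBasis

open PowerSeries

section PS

variable (p : ℕ) [Fact p.Prime] (k : Type u) [Field k] [CharP k p]

theorem coeff_pow_p (g : PowerSeries k) (n : ℕ) :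
    coeff n (g ^ p) = if p ∣ n then (coeff (n / p) g) ^ p else 0 := by
  have hp : p ≠ 0 := (Fact.out : p.Prime).ne_zero
  haveI : ExpChar k p := ExpChar.prime Fact.out
  have h : (PowerSeries.expand p hp g).map (frobenius k p) = g ^ p :=
    MvPowerSeries.map_frobenius_expand p hp
  rw [← h, PowerSeries.coeff_map, PowerSeries.coeff_expand]
  split_ifs
  · rw [frobenius_def]
  · rw [map_zero]

variable [PerfectRing k p]

/-- the `p`-th root of the `i`-th component of a power series -/
noncomputable def comp (f : PowerSeries k) (i : ℕ) : PowerSeries k :=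
  PowerSeries.mk fun m => (frobeniusEquiv k p).symm (coeff (p * m + i) f)

theorem decomp (f : PowerSeries k) :
    f = ∑ i ∈ Finset.range p, X ^ i * (comp p k f i) ^ p := by
  have hp : 0 < p := (Fact.out : p.Prime).pos
  ext n
  rw [map_sum]
  rw [Finset.sum_eq_single (n % p)]
  · rw [coeff_X_pow_mul', if_pos (Nat.mod_le n p), coeff_pow_p, if_pos (Nat.dvd_sub_mod n)]
    rw [comp, coeff_mk, frobeniusEquiv_symm_pow_p]
    congr 1
    have h0 := Nat.div_add_mod n p
    have h1 : n - n % p = p * (n / p) := by omega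
    rw [h1, Nat.mul_div_cancel_left _ hp, h0]
  · intro i hi hne
    rw [coeff_X_pow_mul']
    split_ifs with hle
    · rw [coeff_pow_p, if_neg]
      intro hdvd
      apply hne
      obtain ⟨c, hc⟩ := hdvd
      have h2 : n = p * c + i := by omega
      rw [h2, Nat.mul_add_mod, Nat.mod_eq_of_lt (Finset.mem_range.mp hi)]
    · rfl
  · intro h
    exact absurd (Finset.mem_range.mpr (Nat.mod_lt n hp)) h

end PS

section Laurent

variable (p : ℕ) [Fact p.Prime] (k : Type u) [Field k] [CharP k p] [PerfectRing k p]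
  (F : Type u) [Field F] [CharP F p] [Algebra (PowerSeries k) F] [IsFractionRing (PowerSeries k) F]

open KaehlerDifferential

include p

omit [Fact p.Prime] in
theorem D_pow_p (y : F) : D ℤ F (y ^ p) = 0 := by
  rw [Derivation.leibniz_pow, ← Nat.cast_smul_eq_nsmul F p,
    CharP.cast_eq_zero F p, zero_smul]

theorem D_algebraMap_mem (g : PowerSeries k) :
    D ℤ F (algebraMap (PowerSeries k) F g) ∈
      Submodule.span F {D ℤ F (algebraMap (PowerSeries k) F X)} := by
  rw [decomp p k g, map_sum, map_sum]
  refine Submodule.sum_mem _ fun i _ => ?_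
  rw [map_mul, map_pow, map_pow, Derivation.leibniz, D_pow_p p, smul_zero, zero_add,
    Derivation.leibniz_pow]
  refine Submodule.smul_mem _ _ (Submodule.smul_of_tower_mem _ _ (Submodule.smul_mem _ _ ?_))
  exact Submodule.mem_span_singleton_self _

theorem D_mem (f : F) :
    D ℤ F f ∈ Submodule.span F {D ℤ F (algebraMap (PowerSeries k) F X)} := by
  obtain ⟨⟨g, s⟩, rfl⟩ := IsLocalization.mk'_surjective (nonZeroDivisors (PowerSeries k)) f
  set f := IsLocalization.mk' F g s with hf
  have hs : algebraMap (PowerSeries k) F s ≠ 0 :=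
    IsFractionRing.to_map_ne_zero_of_mem_nonZeroDivisors s.2
  have h1 : f * algebraMap (PowerSeries k) F s = algebraMap (PowerSeries k) F g :=
    IsLocalization.mk'_spec _ g s
  have h2 := congrArg (D ℤ F) h1
  rw [Derivation.leibniz] at h2
  have h3 : D ℤ F f = (algebraMap (PowerSeries k) F s)⁻¹ •
      (D ℤ F (algebraMap (PowerSeries k) F g) - f • D ℤ F (algebraMap (PowerSeries k) F s)) := by
    rw [← h2, add_sub_cancel_left, smul_smul, inv_mul_cancel₀ hs, one_smul]
  rw [h3]
  exact Submodule.smul_mem _ _ (Submodule.sub_mem _ (D_algebraMap_mem p k F g)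
    (Submodule.smul_mem _ _ (D_algebraMap_mem p k F s)))

omit [PerfectRing k p] [IsFractionRing (PowerSeries k) F] in
theorem D_X_ne_zero (hX : ∀ b : F, b ^ p ≠ algebraMap (PowerSeries k) F X) :
    D ℤ F (algebraMap (PowerSeries k) F X) ≠ 0 := by
  intro h0
  obtain ⟨b, hb⟩ := Groth.Agent.Lib.Helper97.PthPower.exists_pow_eq_of_forall_derivation p
    (algebraMap (PowerSeries k) F X)
    (fun d => by rw [← d.liftKaehlerDifferential_comp_D, h0, map_zero])
  exact hX b hb

theorem span_D_X : Submodule.span F {D ℤ F (algebraMap (PowerSeries k) F X)} = ⊤ := by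
  rw [eq_top_iff, ← KaehlerDifferential.span_range_derivation, Submodule.span_le]
  rintro _ ⟨f, rfl⟩
  exact D_mem p k F f

theorem finrank_kaehler_fractionRing
    (hX : ∀ b : F, b ^ p ≠ algebraMap (PowerSeries k) F X) :
    Module.finrank F (Ω[F⁄ℤ]) = 1 :=
  (finrank_eq_one_iff_of_nonzero _ (D_X_ne_zero p k F hX)).mpr (span_D_X p k F)

end Laurent

section LaurentX

variable (p : ℕ) [Fact p.Prime] (k : Type u) [Field k]

omit [Fact p.Prime] in
theorem laurent_X_not_pow (hp : 2 ≤ p) (b : LaurentSeries k) :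
    b ^ p ≠ algebraMap (PowerSeries k) (LaurentSeries k) X := by
  intro hb
  rw [LaurentSeries.coe_algebraMap, HahnSeries.ofPowerSeries_X] at hb
  have h1 := congrArg HahnSeries.order hb
  rw [HahnSeries.order_pow, HahnSeries.order_single one_ne_zero] at h1
  have h2 : (p : ℤ) ∣ 1 := ⟨b.order, by rw [← h1]; simp⟩
  have h3 := Int.le_of_dvd one_pos h2
  omega

end LaurentX


section Count

open KaehlerDifferential EGA41 Groth.Agent.Lib.Helper49.PBasis Groth.Agent.Lib.Helper49.Admissible

theorem card_exponents (ι : Type*) [Finite ι] (p : ℕ) :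
    Nat.card {e : ι →₀ ℕ // ∀ i, e i < p} = p ^ Nat.card ι := by
  have e : {e : ι →₀ ℕ // ∀ i, e i < p} ≃ (ι → Fin p) :=
    { toFun := fun e i => ⟨e.1 i, e.2 i⟩
      invFun := fun g => ⟨Finsupp.equivFunOnFinite.symm (fun i => (g i : ℕ)), fun i => (g i).2⟩
      left_inv := fun e => by ext i; simp
      right_inv := fun g => by ext i; simp }
  rw [Nat.card_congr e, Nat.card_fun, Nat.card_fin]

variable (p : ℕ) [Fact p.Prime] {K : Type u} [Field K] [CharP K p]

omit [Fact p.Prime] [CharP K p] in
theorem map_injective_of_D_eq_zero (A : Subfield K) (h : ∀ a : A, D ℤ K (a : K) = 0) :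
    Function.Injective (KaehlerDifferential.map ℤ A K K) := by
  have hz : ∀ η : Ω[A⁄ℤ], KaehlerDifferential.map ℤ ℤ A K η = 0 := by
    intro η
    have hη : η ∈ Submodule.span A (Set.range (D ℤ A)) := by
      rw [KaehlerDifferential.span_range_derivation]; trivial
    induction hη using Submodule.span_induction with
    | mem x hx =>
      obtain ⟨a, rfl⟩ := hx
      rw [KaehlerDifferential.map_D]
      exact h a
    | zero => rw [map_zero]
    | add x y _ _ hx hy => rw [map_add, hx, hy, add_zero]
    | smul a x _ hx => rw [map_smul, hx, smul_zero]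
  have hmb : ∀ y, KaehlerDifferential.mapBaseChange ℤ A K y = 0 := by
    intro y
    induction y using TensorProduct.induction_on with
    | zero => rw [map_zero]
    | tmul c η => rw [KaehlerDifferential.mapBaseChange_tmul, hz, smul_zero]
    | add x y hx hy => rw [map_add, hx, hy, add_zero]
  rw [injective_iff_map_eq_zero]
  intro ω hω
  obtain ⟨y, rfl⟩ := (KaehlerDifferential.exact_mapBaseChange_map ℤ A K ω).mp hω
  exact hmb y

theorem finrank_frobenius_range [Module.Finite K (Ω[K⁄ℤ])] :
    Module.finrank (↥(frobenius K p).fieldRange) K = p ^ Module.finrank K (Ω[K⁄ℤ]) := by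
  classical
  set A : Subfield K := (frobenius K p).fieldRange with hAdef
  have hA : ∀ a : A, D ℤ K (a : K) = 0 := by
    rintro ⟨_, ⟨b, rfl⟩⟩
    change D ℤ K (frobenius K p b) = 0
    rw [frobenius_def, Derivation.leibniz_pow, ← Nat.cast_smul_eq_nsmul K p,
      CharP.cast_eq_zero K p, zero_smul]
  have hinj := map_injective_of_D_eq_zero A hA
  have hsurj : Function.Surjective (KaehlerDifferential.map ℤ A K K) :=
    KaehlerDifferential.map_surjective ℤ A K
  let e : Ω[K⁄ℤ] ≃ₗ[K] Ω[K⁄A] := LinearEquiv.ofBijective _ ⟨hinj, hsurj⟩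
  obtain ⟨B, b, hB, -⟩ := exists_pBasis_kaehler p (k₀ := A) (K := K)
  have hfin : Module.Finite K (Ω[K⁄A]) := Module.Finite.equiv e
  have hBfin : Finite B := Module.Finite.finite_basis b
  have hcard : Nat.card B = Module.finrank K (Ω[K⁄ℤ]) := by
    rw [e.finrank_eq, Module.finrank_eq_nat_card_basis b]
  have hpow : ∀ x : K, x ^ p ∈ Set.range (algebraMap A K) := fun x => ⟨⟨x ^ p, x, rfl⟩, rfl⟩
  have hbot : pPowerSubalgebra p A K = ⊥ := pPower_eq_bot hpow
  have h1 : Module.finrank (pPowerSubalgebra p A K) K =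
      Nat.card {e : B →₀ ℕ // ∀ i, e i < p} :=
    Module.finrank_eq_nat_card_basis (redBasis hB)
  have h2 : ∀ S : Subalgebra A K, S = ⊥ → Module.finrank S K = Module.finrank A K := by
    rintro S rfl
    refine Algebra.finrank_eq_of_equiv_equiv (Algebra.botEquiv A K).toRingEquiv (RingEquiv.refl K) ?_
    ext x
    obtain ⟨y, hy⟩ := Algebra.mem_bot.mp x.2
    have hx : x = algebraMap A (⊥ : Subalgebra A K) y := Subtype.ext hy.symm
    rw [hx]
    simp
  rw [← h2 _ hbot, h1, card_exponents, hcard]

end Count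

end Groth.Agent.Lib.Helper97.LaurentPBasis
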