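import Groth.Agent.Lib.Helper97.TwistOnFin
import Groth.Agent.S11296

/-!
# helper97: transport half of S12112 (Mumford's lemma on a closed subscheme of `P^n_k`)
-/

set_option autoImplicit false
universe u

open CategoryTheory CategoryTheory.Limits AlgebraicGeometry TopologicalSpace Opposite

namespace Groth.Agent.Lib.Helper97.Mum12112

theorem of_mono (k : Type u) [Field k] [IsAlgClosed k] (n : ℕ) (X : Scheme.{u})
    [X.Over (Spec (CommRingCat.of k))] (i : X ⟶ CohB1.ProjSpace n k) [IsClosedImmersion i]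
    (hi : i ≫ CohB1.ProjSpace.toSpec n k = X ↘ Spec (CommRingCat.of k))
    (F : X.Modules) (hF : Coh.IsCoh F)
    (ι' : CohB1.tensorMod ((Scheme.Modules.pushforward i).obj F) (Twist.twistProjSpace n k (-1)) ⟶
      (Scheme.Modules.pushforward i).obj F) [Mono ι'] (m : ℤ)
    (hG' : Curv2.IsMRegular k n (cokernel ι') m) :
    (∀ (q : ℕ) (n' : ℤ), 2 ≤ q → m - q ≤ n' →
      Subsingleton (Coh.HH X (Pic13.twistOn k i F n') q)) ∧
    (∀ n' : ℤ, m - 1 ≤ n' →
      Module.finrank k (Coh.HH X (Pic13.twistOn k i F n') 1) ≤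
        Module.finrank k (Coh.HH X (Pic13.twistOn k i F (n' - 1)) 1)) ∧
    (∀ n' : ℤ, (m - 1) + (Module.finrank k (Coh.HH X (Pic13.twistOn k i F (m - 1)) 1) : ℤ) ≤ n' →
      Subsingleton (Coh.HH X (Pic13.twistOn k i F n') 1)) ∧
    Pic13.IsMRegular k i F (m + Module.finrank k (Coh.HH X (Pic13.twistOn k i F (m - 1)) 1)) := by
  have hF' : Coh.IsCoh ((Scheme.Modules.pushforward i).obj F) :=
    Groth.Agent.Lib.Helper64.CohPush.isCoh_pushforward_of_isFinite i F hF
  obtain ⟨h1, h2, h3, -⟩ :=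
    Groth.Agent.S11296.result k n ((Scheme.Modules.pushforward i).obj F) hF' ι' m hG'
  have e := fun (d : ℤ) (p : ℕ) =>
    Groth.Agent.Lib.Helper97.TwistOnFin.finrank_twistOn_eq k i hi F hF d p
  have s := fun (d : ℤ) (q : ℕ) => Groth.Agent.Lib.Helper97.RegClosed.subsingleton_iff k i F d q
  have c1 : ∀ (q : ℕ) (n' : ℤ), 2 ≤ q → m - q ≤ n' →
      Subsingleton (Coh.HH X (Pic13.twistOn k i F n') q) :=
    fun q n' hq hn => (s n' q).2 (h1 q n' hq hn)
  have c3 : ∀ n' : ℤ,
      (m - 1) + (Module.finrank k (Coh.HH X (Pic13.twistOn k i F (m - 1)) 1) : ℤ) ≤ n' →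
      Subsingleton (Coh.HH X (Pic13.twistOn k i F n') 1) := by
    intro n' hn
    refine (s n' 1).2 (h3 n' ?_)
    rw [← e]
    exact hn
  refine ⟨c1, ?_, c3, ?_⟩
  · intro n' hn
    rw [e, e]
    exact h2 n' hn
  · intro q hq
    rcases Nat.lt_or_ge q 2 with h | h
    · have hq1 : q = 1 := by omega
      subst hq1
      exact c3 _ (by push_cast; omega)
    · exact c1 q _ h (by
        have := Int.natCast_nonneg (Module.finrank k (Coh.HH X (Pic13.twistOn k i F (m - 1)) 1))
        omega)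

end Groth.Agent.Lib.Helper97.Mum12112
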