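import Mathlib.RingTheory.Kaehler.Basic
import Mathlib.Algebra.MvPolynomial.PDeriv
import Mathlib.RingTheory.MvPolynomial.Ideal
import Mathlib.RingTheory.Ideal.Quotient.Operations
import Mathlib.Algebra.CharZero.Defs

set_option autoImplicit false
universe u

namespace Groth.Agent.Lib.Helper97

open MvPolynomial

section node

variable (k : Type u) [Field k]

/-- The ideal `(XY)` of `k[X,Y]`. -/
noncomputable abbrev nodeIdeal : Ideal (MvPolynomial (Fin 2) k) :=
  Ideal.span {(X 0 * X 1 : MvPolynomial (Fin 2) k)}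

/-- Euler derivation `X_i ∂/∂X_i`. -/
noncomputable def euler (i : Fin 2) :
    Derivation k (MvPolynomial (Fin 2) k) (MvPolynomial (Fin 2) k) :=
  (X i : MvPolynomial (Fin 2) k) • pderiv i

theorem euler_apply (i : Fin 2) (p : MvPolynomial (Fin 2) k) :
    euler k i p = X i * pderiv i p := rfl

theorem coeff_euler (i : Fin 2) (p : MvPolynomial (Fin 2) k) (m : Fin 2 →₀ ℕ) :
    coeff m (euler k i p) = (m i : k) * coeff m p := by
  rw [euler_apply]
  induction p using MvPolynomial.induction_on' with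
  | add p q hp hq => rw [map_add, mul_add, coeff_add, hp, hq, coeff_add, mul_add]
  | monomial n a =>
    rw [X_mul_pderiv_monomial, coeff_smul, coeff_monomial]
    by_cases h : n = m
    · subst h; simp
    · simp [h]

theorem mem_nodeIdeal_iff (x : MvPolynomial (Fin 2) k) :
    x ∈ nodeIdeal k ↔ ∀ m ∈ x.support, 1 ≤ m 0 ∧ 1 ≤ m 1 := by
  have h1 : (X 0 * X 1 : MvPolynomial (Fin 2) k) =
      monomial (Finsupp.single 0 1 + Finsupp.single 1 1) 1 := by
    rw [X, X, monomial_mul, mul_one]
  have h2 : ({(X 0 * X 1 : MvPolynomial (Fin 2) k)} : Set (MvPolynomial (Fin 2) k)) =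
      (fun s => monomial s (1 : k)) '' {Finsupp.single 0 1 + Finsupp.single 1 1} := by
    rw [Set.image_singleton, h1]
  rw [nodeIdeal, h2, mem_ideal_span_monomial_image]
  apply forall₂_congr
  intro m _
  simp only [Set.mem_singleton_iff, exists_eq_left]
  rw [Finsupp.le_def, Fin.forall_fin_two]
  simp

theorem euler_mem_nodeIdeal (i : Fin 2) (x : MvPolynomial (Fin 2) k) (hx : x ∈ nodeIdeal k) :
    euler k i x ∈ nodeIdeal k := by
  rw [mem_nodeIdeal_iff] at hx ⊢
  intro m hm
  apply hx
  rw [mem_support_iff] at hm ⊢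
  intro h0
  apply hm
  rw [coeff_euler, h0, mul_zero]

/-- Euler derivation on the node `k[X,Y]/(XY)`. -/
noncomputable def eulerNode (i : Fin 2) :
    Derivation k (MvPolynomial (Fin 2) k ⧸ nodeIdeal k) (MvPolynomial (Fin 2) k ⧸ nodeIdeal k) :=
  Derivation.liftOfSurjective (f := Ideal.Quotient.mkₐ k (nodeIdeal k))
    (Ideal.Quotient.mkₐ_surjective k (nodeIdeal k)) (d := euler k i)
    (by
      intro x hx
      rw [Ideal.Quotient.mkₐ_eq_mk, Ideal.Quotient.eq_zero_iff_mem] at hx ⊢
      exact euler_mem_nodeIdeal k i x hx)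

theorem eulerNode_mk (i : Fin 2) (x : MvPolynomial (Fin 2) k) :
    eulerNode k i (Ideal.Quotient.mk (nodeIdeal k) x) =
      Ideal.Quotient.mk (nodeIdeal k) (euler k i x) := by
  have := Derivation.liftOfSurjective_apply (f := Ideal.Quotient.mkₐ k (nodeIdeal k))
    (Ideal.Quotient.mkₐ_surjective k (nodeIdeal k)) (d := euler k i)
    (by
      intro x hx
      rw [Ideal.Quotient.mkₐ_eq_mk, Ideal.Quotient.eq_zero_iff_mem] at hx ⊢
      exact euler_mem_nodeIdeal k i x hx) x
  exact this

theorem sub_C_mem_nodeIdeal [CharZero k] (x : MvPolynomial (Fin 2) k)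
    (h0 : euler k 0 x ∈ nodeIdeal k) (h1 : euler k 1 x ∈ nodeIdeal k) :
    x - C (coeff 0 x) ∈ nodeIdeal k := by
  rw [mem_nodeIdeal_iff] at h0 h1 ⊢
  intro m hm
  rw [mem_support_iff, coeff_sub, coeff_C] at hm
  by_cases hm0 : m = 0
  · subst hm0; simp at hm
  · rw [if_neg (Ne.symm hm0), sub_zero] at hm
    have key : ∀ i : Fin 2, m i ≠ 0 → 1 ≤ m 0 ∧ 1 ≤ m 1 := by
      intro i hi
      have hne : coeff m (euler k i x) ≠ 0 := by
        rw [coeff_euler]
        exact mul_ne_zero (Nat.cast_ne_zero.mpr hi) hm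
      have hmem : m ∈ (euler k i x).support := mem_support_iff.mpr hne
      fin_cases i
      · exact h0 m hmem
      · exact h1 m hmem
    by_cases hm00 : m 0 = 0
    · have hm1 : m 1 ≠ 0 := by
        intro hm1
        apply hm0
        ext j
        fin_cases j
        · simpa using hm00
        · simpa using hm1
      have := key 1 hm1
      omega
    · exact key 0 hm00

end node

end Groth.Agent.Lib.Helper97
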