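import Mathlib

/-!
# Helpers for S13207: Néron mapping property over a coproduct of schemes

* `isPullback_sigmaι_map`: the square `N i ⟶ ∐ N ⟶ ∐ B`, `N i ⟶ B i ⟶ ∐ B` is a pullback
  (extensivity of arbitrary coproducts of schemes).
* `ExtProp p y n`: every `h : W ⟶ N` over `S` (through `p : W ⟶ Y`) extends uniquely to `Y ⟶ N`.
* `bijective_pullback_map_iff_extProp`: restriction `g ↦ (Over.pullback j).map g` is bijective
  iff `ExtProp (pullback.fst Y.hom j) Y.hom N.hom`.
-/

set_option autoImplicit false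
universe u
open CategoryTheory CategoryTheory.Limits AlgebraicGeometry

namespace Groth.Agent.Lib.Helper97.SigmaNMP

section Sigma

variable {I : Type u} (B N : I → Scheme.{u}) (f : ∀ i, N i ⟶ B i)

lemma sigmaι_map (i : I) : Sigma.ι N i ≫ Limits.Sigma.map f = f i ≫ Sigma.ι B i := by
  simp

lemma isPullback_sigmaι_map (i : I) :
    IsPullback (Sigma.ι N i) (f i) (Limits.Sigma.map f) (Sigma.ι B i) := by
  let c : N i ⟶ pullback (Limits.Sigma.map f) (Sigma.ι B i) :=
    pullback.lift (Sigma.ι N i) (f i) (sigmaι_map B N f i)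
  have hc1 : c ≫ pullback.fst _ _ = Sigma.ι N i := pullback.lift_fst _ _ _
  have hc2 : c ≫ pullback.snd _ _ = f i := pullback.lift_snd _ _ _
  haveI : IsOpenImmersion (c ≫ pullback.fst (Limits.Sigma.map f) (Sigma.ι B i)) := by
    rw [hc1]; infer_instance
  haveI : IsOpenImmersion c := IsOpenImmersion.of_comp c (pullback.fst _ _)
  haveI : IsIso c := by
    rw [isIso_iff_isOpenImmersion_and_surjective]
    refine ⟨inferInstance, ⟨fun z => ?_⟩⟩
    obtain ⟨j, x', hx'⟩ := (sigmaOpenCover N).exists_eq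
      ((pullback.fst (Limits.Sigma.map f) (Sigma.ι B i)) z)
    change Sigma.ι N j x' = _ at hx'
    have h1 : Sigma.ι B j (f j x') = Sigma.ι B i ((pullback.snd (Limits.Sigma.map f) (Sigma.ι B i)) z) := by
      rw [← Scheme.Hom.comp_apply, ← sigmaι_map B N f j, Scheme.Hom.comp_apply, hx',
        ← Scheme.Hom.comp_apply, pullback.condition, Scheme.Hom.comp_apply]
    have hji : j = i := by
      have := (sigmaι_eq_iff B j i _ _).mp h1
      exact congrArg Sigma.fst this
    subst hji
    refine ⟨x', ?_⟩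
    apply (pullback.fst (Limits.Sigma.map f) (Sigma.ι B j)).isOpenEmbedding.injective
    rw [← Scheme.Hom.comp_apply, hc1, hx']
  exact IsPullback.of_iso_pullback ⟨sigmaι_map B N f i⟩ (asIso c) hc1 hc2

end Sigma

/-- Unique extension property: every `h : W ⟶ N` over `S` extends uniquely along `p : W ⟶ Y`
to an `S`-morphism `Y ⟶ N`. -/
def ExtProp {S W Y N : Scheme.{u}} (p : W ⟶ Y) (y : Y ⟶ S) (n : N ⟶ S) : Prop :=
  ∀ h : W ⟶ N, h ≫ n = p ≫ y → ∃! g : Y ⟶ N, g ≫ n = y ∧ p ≫ g = h

lemma ExtProp.of_isPullback {S V W W' Y N : Scheme.{u}} {p : W ⟶ Y} {q : W ⟶ V}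
    {p' : W' ⟶ Y} {q' : W' ⟶ V} {y : Y ⟶ S} {j : V ⟶ S} (n : N ⟶ S)
    (h1 : IsPullback p q y j) (h2 : IsPullback p' q' y j) (H : ExtProp p y n) :
    ExtProp p' y n := by
  intro h' hh'
  let e : W ≅ W' := h1.isoIsPullback _ _ h2
  have he1 : e.hom ≫ p' = p := h1.isoIsPullback_hom_fst _ _ h2
  have he2 : e.inv ≫ p = p' := h1.isoIsPullback_inv_fst _ _ h2
  obtain ⟨g, ⟨hg1, hg2⟩, huniq⟩ := H (e.hom ≫ h') (by rw [Category.assoc, hh', ← Category.assoc, he1])
  refine ⟨g, ⟨hg1, ?_⟩, ?_⟩
  · rw [← he2, Category.assoc, hg2, Iso.inv_hom_id_assoc]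
  · rintro g₂ ⟨hg₂1, hg₂2⟩
    apply huniq
    refine ⟨hg₂1, ?_⟩
    rw [← he1, Category.assoc, hg₂2]

lemma bijective_pullback_map_iff_extProp {S V : Scheme.{u}} (j : V ⟶ S) (Y N : Over S) :
    Function.Bijective (fun g : Y ⟶ N => (Over.pullback j).map g) ↔
      ExtProp (pullback.fst Y.hom j) Y.hom N.hom := by
  have hmap_fst : ∀ g : Y ⟶ N, ((Over.pullback j).map g).left ≫ pullback.fst N.hom j =
      pullback.fst Y.hom j ≫ g.left := fun g => pullback.lift_fst _ _ _
  have hw : ∀ k : (Over.pullback j).obj Y ⟶ (Over.pullback j).obj N,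
      k.left ≫ pullback.snd N.hom j = pullback.snd Y.hom j := fun k => Over.w k
  have hext : ∀ k₁ k₂ : (Over.pullback j).obj Y ⟶ (Over.pullback j).obj N,
      k₁.left ≫ pullback.fst N.hom j = k₂.left ≫ pullback.fst N.hom j → k₁ = k₂ := by
    intro k₁ k₂ h12
    apply Over.OverMorphism.ext
    apply pullback.hom_ext h12
    rw [hw k₁, hw k₂]
  constructor
  · rintro ⟨hinj, hsurj⟩ h hh
    let k : (Over.pullback j).obj Y ⟶ (Over.pullback j).obj N :=
      Over.homMk (pullback.lift h (pullback.snd Y.hom j) (by rw [hh, pullback.condition]))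
        (pullback.lift_snd _ _ _)
    have hk : k.left ≫ pullback.fst N.hom j = h := pullback.lift_fst _ _ _
    obtain ⟨g, hg⟩ := hsurj k
    have hg' : (Over.pullback j).map g = k := hg
    refine ⟨g.left, ⟨Over.w g, ?_⟩, ?_⟩
    · rw [← hmap_fst, hg', hk]
    · rintro g₂ ⟨hg₂1, hg₂2⟩
      let G₂ : Y ⟶ N := Over.homMk g₂ hg₂1
      have : G₂ = g := by
        apply hinj
        change (Over.pullback j).map G₂ = (Over.pullback j).map g
        rw [hg']
        apply hext
        rw [hmap_fst, hk]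
        exact hg₂2
      rw [← this]
      rfl
  · intro H
    constructor
    · intro g₁ g₂ h12
      have h12' : (Over.pullback j).map g₁ = (Over.pullback j).map g₂ := h12
      obtain ⟨g, _, huniq⟩ := H (pullback.fst Y.hom j ≫ g₁.left)
        (by rw [Category.assoc, Over.w g₁])
      have e1 : g₁.left = g := huniq _ ⟨Over.w g₁, rfl⟩
      have e2 : g₂.left = g := huniq _ ⟨Over.w g₂, by rw [← hmap_fst, ← hmap_fst, h12']⟩
      apply Over.OverMorphism.ext
      rw [e1, e2]
    · intro k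
      obtain ⟨g, ⟨hg1, hg2⟩, _⟩ := H (k.left ≫ pullback.fst N.hom j)
        (by rw [Category.assoc, pullback.condition, ← Category.assoc, hw k, pullback.condition])
      refine ⟨Over.homMk g hg1, ?_⟩
      change (Over.pullback j).map (Over.homMk g hg1) = k
      apply hext
      rw [hmap_fst]
      exact hg2

end Groth.Agent.Lib.Helper97.SigmaNMP
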