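import Mathlib.RingTheory.Smooth.Locus
import Mathlib.RingTheory.Localization.AsSubring
import Mathlib.RingTheory.FinitePresentation
import Mathlib.FieldTheory.Perfect
import Mathlib.RingTheory.Smooth.Field
import Mathlib.Algebra.Algebra.Rat
import Mathlib.FieldTheory.PrimeField

set_option autoImplicit false

/-! A finitely generated field, formally smooth over a Noetherian base `R`, is the fraction field of
a smooth `R`-subalgebra of finite type (openness of the smooth locus at the generic point). -/

namespace Groth.Agent.Lib.Helper97.SmoothModel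

open Algebra

universe u v

theorem exists_smooth_subalgebra (R : Type v) [CommRing R] [IsNoetherianRing R]
    (K : Type u) [Field K] [Algebra R K] [Algebra.FormallySmooth R K]
    (A₀ : Subalgebra R K) [Algebra.FiniteType R A₀] [IsFractionRing A₀ K] :
    ∃ A : Subalgebra R K, Algebra.FiniteType R A ∧ Algebra.Smooth R A ∧ IsFractionRing A K := by
  haveI : Algebra.FinitePresentation R A₀ := Algebra.FinitePresentation.of_finiteType.mp ‹_›
  haveI : (⊥ : Ideal A₀).IsPrime := Ideal.isPrime_bot
  have hmon : (⊥ : Ideal A₀).primeCompl = nonZeroDivisors A₀ := by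
    ext x
    rw [mem_nonZeroDivisors_iff_ne_zero]
    rfl
  haveI : IsLocalization (⊥ : Ideal A₀).primeCompl K := hmon ▸ (inferInstance : IsFractionRing A₀ K)
  let e₀ : Localization.AtPrime (⊥ : Ideal A₀) ≃ₐ[A₀] K :=
    IsLocalization.algEquiv (⊥ : Ideal A₀).primeCompl _ _
  haveI : Algebra.IsSmoothAt R (⊥ : Ideal A₀) :=
    Algebra.FormallySmooth.of_equiv (e₀.restrictScalars R).symm
  obtain ⟨f, hf, hsm⟩ := Algebra.IsSmoothAt.exists_notMem_smooth R (⊥ : Ideal A₀)
  have hf0 : f ≠ 0 := fun h => hf (h ▸ Ideal.zero_mem _)
  have hS : Submonoid.powers f ≤ nonZeroDivisors A₀ :=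
    powers_le_nonZeroDivisors_of_noZeroDivisors hf0
  let B := Localization.subalgebra K (Submonoid.powers f) hS
  let e : Localization.Away f ≃ₐ[A₀] B := IsLocalization.algEquiv (Submonoid.powers f) _ _
  refine ⟨B.restrictScalars R, ?_, ?_, ?_⟩
  · haveI : Algebra.Smooth R (B.restrictScalars R) :=
      Algebra.Smooth.of_equiv (e.restrictScalars R)
    infer_instance
  · exact Algebra.Smooth.of_equiv (e.restrictScalars R)
  · exact (inferInstance : IsFractionRing B K)

theorem isFractionRing_adjoin (R : Type v) [CommRing R] (K : Type u) [Field K] [Algebra R K]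
    (s : Set K) (hs : Subfield.closure s = ⊤) : IsFractionRing (Algebra.adjoin R s) K := by
  refine IsFractionRing.of_field _ K fun z => ?_
  have hz : z ∈ Subfield.closure s := by rw [hs]; trivial
  obtain ⟨y, hy, w, hw, rfl⟩ := Subfield.mem_closure_iff.mp hz
  have hle : Subring.closure s ≤ (Algebra.adjoin R s).toSubring :=
    Subring.closure_le.mpr Algebra.subset_adjoin
  exact ⟨⟨y, hle hy⟩, ⟨w, hle hw⟩, rfl⟩

/-- characteristic zero fields are formally smooth over `ℤ` -/
theorem formallySmooth_int (K : Type u) [Field K] [CharZero K] : Algebra.FormallySmooth ℤ K := by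
  haveI : Algebra.FormallySmooth ℤ ℚ :=
    Algebra.FormallySmooth.of_isLocalization (nonZeroDivisors ℤ)
  haveI : Algebra.FormallySmooth ℚ K := by
    obtain ⟨s, hs⟩ := exists_isTranscendenceBasis ℚ K
    have : Algebra.IsAlgebraic (IntermediateField.adjoin ℚ (Set.range ((↑) : s → K))) K :=
      hs.isAlgebraic_field
    have : CharZero (IntermediateField.adjoin ℚ (Set.range ((↑) : s → K))) :=
      charZero_of_injective_algebraMap
        (algebraMap ℚ (IntermediateField.adjoin ℚ (Set.range ((↑) : s → K)))).injective
    have : Algebra.IsSeparable (IntermediateField.adjoin ℚ (Set.range ((↑) : s → K))) K :=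
      Algebra.IsAlgebraic.isSeparable_of_perfectField
    exact Algebra.FormallySmooth.of_algebraicIndependent_of_isSeparable hs.1
  exact Algebra.FormallySmooth.comp ℤ ℚ K

end Groth.Agent.Lib.Helper97.SmoothModel
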