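import Groth.Agent.Lib.Helper97.PushEdgeLin
import Groth.Agent.Lib.Helper97.RegClosed
import Groth.Agent.Lib.Helper60.Cm1
import Groth.Agent.Lib.Helper35.PbAmple
import Groth.Agent.Lib.Lead.Tw2

/-!
# helper97: coherence of `F(d)` on `X ⊂ P^n_k` and `h^p(X, F(d)) = h^p(P^n, (i_*F)(d))`
-/

set_option autoImplicit false
universe u

open CategoryTheory CategoryTheory.Limits AlgebraicGeometry TopologicalSpace Opposite

namespace Groth.Agent.Lib.Helper97.TwistOnFin

variable (k : Type u) [Field k] {n : ℕ} {X : Scheme.{u}} (i : X ⟶ CohB1.ProjSpace n k)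

theorem isInvertible_pullback_twist (d : ℤ) :
    PicF.IsInvertible ((Scheme.Modules.pullback i).obj (Twist.twistProjSpace n k d)) :=
  Groth.Agent.Lib.Helper35.PbInv.isInvertible_pullback i
    (Groth.Agent.Lib.Helper93.SerreVan.isInvertible_twist n k d)

theorem isCoh_twistOn (F : X.Modules) (hF : Coh.IsCoh F) (d : ℤ) :
    Coh.IsCoh (Pic13.twistOn k i F d) :=
  Groth.Agent.Lib.Lead.Inv.isCoh_tensorMod_right hF (isInvertible_pullback_twist k i d)

/-- `h^p(X, F(d)) = h^p(P^n, (i_*F)(d))` for a closed `k`-immersion `i` -/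
theorem finrank_twistOn_eq [X.Over (Spec (CommRingCat.of k))] [IsClosedImmersion i]
    (hi : i ≫ CohB1.ProjSpace.toSpec n k = X ↘ Spec (CommRingCat.of k))
    (F : X.Modules) (hF : Coh.IsCoh F) (d : ℤ) (p : ℕ) :
    Module.finrank k (Coh.HH X (Pic13.twistOn k i F d) p) =
      Module.finrank k (Coh.HH (CohB1.ProjSpace n k)
        (CohB1.tensorMod ((Scheme.Modules.pushforward i).obj F) (Twist.twistProjSpace n k d)) p) := by
  haveI : Coh.IsQCoh (Pic13.twistOn k i F d) := (isCoh_twistOn k i F hF d).1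
  obtain ⟨φ⟩ := Groth.Agent.Lib.Helper97.PruferSerreT4.projection' i F (Twist.twistProjSpace n k d)
    (Groth.Agent.Lib.Helper93.SerreVan.isInvertible_twist n k d)
  rw [Groth.Agent.Lib.Helper97.PushEdgeLin.finrank_eq i k hi (Pic13.twistOn k i F d) p]
  exact Groth.Agent.Lib.Helper60.Koszul.finrank_HH_eq_of_iso k φ p

end Groth.Agent.Lib.Helper97.TwistOnFin
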